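import Mathlib
import Cfsg.Agent.H39.SzMat

/-!
The unipotent group of order `q ^ 12` of the large Ree group in coordinates: the element with
coordinates `a1 b2 a2 a3 b4 a4 a5 b6 a6 a7 b8 a8` stands for the product
`x1 a1 * y2 b2 * x2 a2 * x3 a3 * y4 b4 * x4 a4 * x5 a5 * y6 b6 * x6 a6 * x7 a7 * y8 b8 * x8 a8`.
-/

set_option autoImplicit false
set_option linter.unusedSimpArgs false
set_option linter.unnecessarySeqFocus false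

namespace Cfsg.Agent.H15.O8

open Cfsg.Agent.H39

variable {K : Type*} [Field K]

/-- Coordinates. -/
@[ext] structure U (T : Tits K) where
  a1 : K
  b2 : K
  a2 : K
  a3 : K
  b4 : K
  a4 : K
  a5 : K
  b6 : K
  a6 : K
  a7 : K
  b8 : K
  a8 : K

variable {T : Tits K}

/-- Polynomial identities in characteristic two with the Tits endomorphism. -/
macro "o8ring" T:term : tactic =>
  `(tactic| (have _o8 := H39.Tits.charP $T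
             (try simp only [map_add, map_mul, map_pow, map_zero, map_one, H39.Tits.θθ])
             grind))

namespace U

instance instMulO8 : Mul (U T) := ⟨fun g k =>
  { a1 := k.a1 + g.a1
    b2 := k.b2 + g.b2 + k.a1 * g.b8
    a2 := k.a2 + g.a2 + k.a1 * g.b4 + T.θ k.a1 * g.b6 + T.θ k.b2 * g.b2 + k.a1 * T.θ k.a1 * g.a8 +
      k.a1 * T.θ k.b2 * g.b8 + T.θ k.a1 * g.b2 * T.θ g.b8
    a3 := k.a3 + g.a3 + k.a1 * T.θ g.b6 + T.θ k.a1 * g.a7 + k.a2 * g.b8 + k.b2 * g.b4 +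
      k.a1 * T.θ k.a1 * T.θ g.a8 + k.a1 * g.b4 * g.b8 + T.θ k.a1 * k.b2 * g.a8 +
      k.b2 * T.θ k.b2 * g.b8 + k.a1 * T.θ k.a1 * g.a8 * g.b8 +
      k.a1 * T.θ k.a1 * g.b8 ^ 2 * T.θ g.b8
    b4 := k.b4 + g.b4 + T.θ k.a1 * g.a8 + T.θ k.b2 * g.b8
    a4 := k.a4 + g.a4 + k.a1 * g.a6 + k.a2 * g.a7 + T.θ k.a2 * g.a8 + k.a3 * g.b6 +
      T.θ k.a3 * g.b8 + k.b2 * g.a5 + T.θ k.b4 * g.b4 + k.a1 * k.a2 * T.θ g.a8 +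
      k.a1 * k.a3 * g.a8 + k.a1 * k.b2 * T.θ g.a7 + k.a1 * g.a5 * g.b8 +
      T.θ k.a1 * T.θ k.b4 * g.a8 + T.θ k.a1 * g.a7 * g.b6 + k.a2 * k.b2 * g.a8 +
      k.a2 * g.b6 * g.b8 + k.a3 * k.b2 * T.θ g.b8 + k.b2 * T.θ k.b2 * g.a7 +
      T.θ k.b2 * T.θ k.b4 * g.b8 + k.a1 * T.θ k.a1 * g.a7 * g.a8 +
      k.a1 * T.θ k.a1 * T.θ g.a8 * g.b6 + k.a1 * k.a3 * g.b8 * T.θ g.b8 +
      k.a1 * k.b2 * T.θ k.b2 * T.θ g.a8 + k.a1 ^ 2 * T.θ g.a7 * g.b8 +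
      k.a1 ^ 2 * T.θ g.a8 * g.b4 + T.θ k.a1 * k.b2 * g.a7 * T.θ g.b8 +
      T.θ k.a1 * k.b2 * g.a8 * g.b6 + k.a2 * k.b2 * g.b8 * T.θ g.b8 +
      k.b2 * T.θ k.b2 * g.b6 * g.b8 + k.b2 ^ 2 * T.θ k.b2 * g.a8 + k.b2 ^ 2 * g.b4 * T.θ g.b8 +
      k.a1 * T.θ k.a1 * k.b2 * g.a8 ^ 2 + k.a1 * T.θ k.a1 * k.b2 * T.θ g.a8 * T.θ g.b8 +
      k.a1 * T.θ k.a1 * g.a7 * g.b8 * T.θ g.b8 + k.a1 * T.θ k.a1 * g.a8 * g.b6 * g.b8 +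
      k.a1 ^ 2 * T.θ k.a1 * g.a8 * T.θ g.a8 + T.θ k.a1 * k.b2 ^ 2 * g.a8 * T.θ g.b8 +
      k.b2 ^ 2 * T.θ k.b2 * g.b8 * T.θ g.b8 + k.a1 * T.θ k.a1 * g.b6 * g.b8 ^ 2 * T.θ g.b8 +
      k.a1 ^ 2 * T.θ k.a1 * g.a8 ^ 2 * g.b8 + k.a1 ^ 2 * T.θ k.a1 * T.θ g.a8 * g.b8 * T.θ g.b8 +
      k.a1 * T.θ k.a1 * k.b2 * g.b8 ^ 2 * T.θ g.b8 ^ 2 +
      k.a1 ^ 2 * T.θ k.a1 * g.b8 ^ 3 * T.θ g.b8 ^ 2
    a5 := k.a5 + g.a5 + k.a1 * T.θ g.a7 + k.a2 * g.a8 + k.a3 * T.θ g.b8 + T.θ k.b2 * g.a7 +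
      k.b4 * g.b6 + k.a1 * T.θ k.b2 * T.θ g.a8 + k.a1 * k.b4 * g.a8 +
      T.θ k.a1 * g.a7 * T.θ g.b8 + T.θ k.a1 * g.a8 * g.b6 + k.a2 * g.b8 * T.θ g.b8 +
      k.b2 * k.b4 * T.θ g.b8 + T.θ k.b2 * g.b6 * g.b8 + k.a1 * T.θ k.a1 * g.a8 ^ 2 +
      k.a1 * T.θ k.a1 * T.θ g.a8 * T.θ g.b8 + k.a1 * k.b4 * g.b8 * T.θ g.b8 +
      k.a1 * T.θ k.a1 * g.b8 ^ 2 * T.θ g.b8 ^ 2
    b6 := k.b6 + g.b6 + k.a1 * g.a8 + k.b2 * T.θ g.b8 + k.a1 * g.b8 * T.θ g.b8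
    a6 := k.a6 + g.a6 + k.a2 * T.θ g.a8 + k.a3 * g.a8 + k.a5 * g.b8 + k.b2 * T.θ g.a7 +
      k.b4 * g.a7 + T.θ k.b6 * g.b6 + k.a1 * k.b4 * T.θ g.a8 + k.a1 * T.θ k.b6 * g.a8 +
      k.a1 * T.θ g.a7 * g.b8 + T.θ k.a1 * g.a7 * g.a8 + T.θ k.a1 * T.θ g.a8 * g.b6 +
      k.a2 * g.a8 * g.b8 + k.b2 * T.θ k.b2 * T.θ g.a8 + k.b2 * k.b4 * g.a8 +
      k.b2 * T.θ k.b6 * T.θ g.b8 + T.θ k.b2 * g.a7 * g.b8 + k.a1 * T.θ k.b2 * T.θ g.a8 * g.b8 +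
      k.a1 * k.b4 * g.a8 * g.b8 + k.a1 * T.θ k.b6 * g.b8 * T.θ g.b8 +
      T.θ k.a1 * k.b2 * g.a8 ^ 2 + T.θ k.a1 * k.b2 * T.θ g.a8 * T.θ g.b8 +
      k.a2 * g.b8 ^ 2 * T.θ g.b8 + T.θ k.b2 * g.b6 * g.b8 ^ 2 +
      k.a1 * T.θ k.a1 * g.a8 ^ 2 * g.b8 + k.a1 * T.θ k.a1 * T.θ g.a8 * g.b8 * T.θ g.b8 +
      k.a1 * k.b4 * g.b8 ^ 2 * T.θ g.b8 + T.θ k.a1 * g.b6 * g.b8 ^ 2 * T.θ g.b8 +
      T.θ k.a1 * k.b2 * g.b8 ^ 2 * T.θ g.b8 ^ 2 + k.a1 * T.θ k.a1 * g.b8 ^ 3 * T.θ g.b8 ^ 2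
    a7 := k.a7 + g.a7 + k.a1 * T.θ g.a8 + k.b2 * g.a8 + k.b6 * g.b8 + k.a1 * g.a8 * g.b8 +
      k.a1 * g.b8 ^ 2 * T.θ g.b8
    b8 := k.b8 + g.b8
    a8 := k.a8 + g.a8 + T.θ k.b8 * g.b8 }⟩

instance instOneO8 : One (U T) := ⟨⟨0, 0, 0, 0, 0, 0, 0, 0, 0, 0, 0, 0⟩⟩

instance instInvO8 : Inv (U T) := ⟨fun g =>
  { a1 := g.a1
    b2 := g.b2 + g.a1 * g.b8
    a2 := g.a2 + g.a1 * g.b4 + T.θ g.a1 * g.b6 + g.b2 * T.θ g.b2 + g.a1 * T.θ g.a1 * g.a8 +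
      g.a1 * T.θ g.b2 * g.b8 + g.a1 * T.θ g.a1 * g.b8 * T.θ g.b8
    a3 := g.a3 + g.a1 * T.θ g.b6 + T.θ g.a1 * g.a7 + g.a2 * g.b8 + g.b2 * g.b4 +
      g.a1 * T.θ g.a1 * T.θ g.a8 + g.a1 * g.b4 * g.b8 + T.θ g.a1 * g.a8 * g.b2 +
      T.θ g.a1 * g.b6 * g.b8 + g.a1 * T.θ g.a1 * g.a8 * g.b8 +
      T.θ g.a1 * g.b2 * g.b8 * T.θ g.b8 + g.a1 * T.θ g.a1 * g.b8 ^ 2 * T.θ g.b8
    b4 := g.b4 + T.θ g.a1 * g.a8 + T.θ g.b2 * g.b8 + T.θ g.a1 * g.b8 * T.θ g.b8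
    a4 := g.a4 + g.a1 * g.a6 + g.a2 * g.a7 + T.θ g.a2 * g.a8 + g.a3 * g.b6 + T.θ g.a3 * g.b8 +
      g.a5 * g.b2 + g.b4 * T.θ g.b4 + g.a1 * g.a2 * T.θ g.a8 + g.a1 * g.a3 * g.a8 +
      g.a1 * g.a7 * g.b4 + g.a1 * T.θ g.a7 * g.b2 + g.a1 * g.b6 * T.θ g.b6 +
      T.θ g.a1 * g.a7 * g.b6 + g.a2 * g.a8 * g.b2 + T.θ g.a2 * g.b8 * T.θ g.b8 +
      g.a3 * g.b2 * T.θ g.b8 + g.b2 * g.b4 * g.b6 + g.a1 * T.θ g.a1 * g.a7 * g.a8 +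
      g.a1 * T.θ g.a1 * T.θ g.a8 * g.b6 + g.a1 * g.b2 * T.θ g.b6 * T.θ g.b8 +
      g.a1 ^ 2 * T.θ g.a7 * g.b8 + g.a1 ^ 2 * T.θ g.a8 * g.b4 +
      T.θ g.a1 * g.a7 * g.b2 * T.θ g.b8 + T.θ g.a1 * g.a8 * g.b2 * g.b6 +
      T.θ g.a1 * g.b6 ^ 2 * g.b8 + g.a8 * g.b2 ^ 2 * T.θ g.b2 + g.b2 ^ 2 * g.b4 * T.θ g.b8 +
      g.a1 * T.θ g.a1 * g.a8 ^ 2 * g.b2 + g.a1 * T.θ g.a1 * T.θ g.a8 * g.b2 * T.θ g.b8 +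
      g.a1 * g.a2 * g.b8 ^ 2 * T.θ g.b8 + g.a1 ^ 2 * T.θ g.a1 * g.a8 * T.θ g.a8 +
      g.a1 ^ 2 * T.θ g.b6 * g.b8 * T.θ g.b8 + T.θ g.a1 * g.a8 * g.b2 ^ 2 * T.θ g.b8 +
      g.b2 ^ 2 * T.θ g.b2 * g.b8 * T.θ g.b8 + g.a1 * T.θ g.a1 * g.b6 * g.b8 ^ 2 * T.θ g.b8 +
      g.a1 ^ 2 * T.θ g.a1 * g.a8 ^ 2 * g.b8 + g.a1 ^ 2 * g.b4 * g.b8 ^ 2 * T.θ g.b8 +
      T.θ g.a1 * g.b2 ^ 2 * g.b8 * T.θ g.b8 ^ 2 +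
      g.a1 * T.θ g.a1 * g.b2 * g.b8 ^ 2 * T.θ g.b8 ^ 2 +
      g.a1 ^ 2 * T.θ g.a1 * g.a8 * g.b8 ^ 2 * T.θ g.b8
    a5 := g.a5 + g.a1 * T.θ g.a7 + g.a2 * g.a8 + g.a3 * T.θ g.b8 + g.a7 * T.θ g.b2 + g.b4 * g.b6 +
      g.a1 * T.θ g.a8 * T.θ g.b2 + g.a1 * T.θ g.b6 * T.θ g.b8 + T.θ g.a1 * g.a7 * T.θ g.b8 +
      T.θ g.a1 * g.a8 * g.b6 + g.a8 * g.b2 * T.θ g.b2 + g.a1 * T.θ g.a1 * g.a8 ^ 2 +
      g.a1 * T.θ g.a1 * T.θ g.a8 * T.θ g.b8 + g.a1 * T.θ g.b2 * g.b8 ^ 2 * T.θ g.b8 +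
      g.a1 * T.θ g.a1 * g.b8 ^ 2 * T.θ g.b8 ^ 2
    b6 := g.b6 + g.a1 * g.a8 + g.b2 * T.θ g.b8
    a6 := g.a6 + g.a2 * T.θ g.a8 + g.a3 * g.a8 + g.a5 * g.b8 + g.a7 * g.b4 + T.θ g.a7 * g.b2 +
      g.b6 * T.θ g.b6 + g.a1 * T.θ g.a7 * g.b8 + T.θ g.a1 * g.a7 * g.a8 +
      T.θ g.a1 * T.θ g.a8 * g.b6 + g.a2 * g.a8 * g.b8 + g.a3 * g.b8 * T.θ g.b8 +
      g.a7 * T.θ g.b2 * g.b8 + g.b2 * T.θ g.b6 * T.θ g.b8 + g.b4 * g.b6 * g.b8 +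
      g.a1 * T.θ g.a8 * T.θ g.b2 * g.b8 + g.a1 * T.θ g.b6 * g.b8 * T.θ g.b8 +
      T.θ g.a1 * g.a7 * g.b8 * T.θ g.b8 + T.θ g.a1 * g.a8 * g.b6 * g.b8 +
      T.θ g.a1 * g.a8 ^ 2 * g.b2 + T.θ g.a1 * T.θ g.a8 * g.b2 * T.θ g.b8 +
      g.a2 * g.b8 ^ 2 * T.θ g.b8 + g.a8 * g.b2 * T.θ g.b2 * g.b8 +
      g.a1 * T.θ g.a1 * g.a8 ^ 2 * g.b8 + g.a1 * T.θ g.a1 * T.θ g.a8 * g.b8 * T.θ g.b8 +
      T.θ g.a1 * g.b6 * g.b8 ^ 2 * T.θ g.b8 + g.a1 * T.θ g.b2 * g.b8 ^ 3 * T.θ g.b8 +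
      T.θ g.a1 * g.b2 * g.b8 ^ 2 * T.θ g.b8 ^ 2 + g.a1 * T.θ g.a1 * g.b8 ^ 3 * T.θ g.b8 ^ 2
    a7 := g.a7 + g.a1 * T.θ g.a8 + g.a8 * g.b2 + g.b6 * g.b8 + g.a1 * g.a8 * g.b8 +
      g.b2 * g.b8 * T.θ g.b8 + g.a1 * g.b8 ^ 2 * T.θ g.b8
    b8 := g.b8
    a8 := g.a8 + g.b8 * T.θ g.b8 }⟩

theorem mul_a1 (g k : U T) : (g * k).a1 =
    k.a1 + g.a1 := rfl

theorem mul_b2 (g k : U T) : (g * k).b2 =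
    k.b2 + g.b2 + k.a1 * g.b8 := rfl

theorem mul_a2 (g k : U T) : (g * k).a2 =
    k.a2 + g.a2 + k.a1 * g.b4 + T.θ k.a1 * g.b6 + T.θ k.b2 * g.b2 + k.a1 * T.θ k.a1 * g.a8 +
    k.a1 * T.θ k.b2 * g.b8 + T.θ k.a1 * g.b2 * T.θ g.b8 := rfl

theorem mul_a3 (g k : U T) : (g * k).a3 =
    k.a3 + g.a3 + k.a1 * T.θ g.b6 + T.θ k.a1 * g.a7 + k.a2 * g.b8 + k.b2 * g.b4 +
    k.a1 * T.θ k.a1 * T.θ g.a8 + k.a1 * g.b4 * g.b8 + T.θ k.a1 * k.b2 * g.a8 +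
    k.b2 * T.θ k.b2 * g.b8 + k.a1 * T.θ k.a1 * g.a8 * g.b8 +
    k.a1 * T.θ k.a1 * g.b8 ^ 2 * T.θ g.b8 := rfl

theorem mul_b4 (g k : U T) : (g * k).b4 =
    k.b4 + g.b4 + T.θ k.a1 * g.a8 + T.θ k.b2 * g.b8 := rfl

theorem mul_a4 (g k : U T) : (g * k).a4 =
    k.a4 + g.a4 + k.a1 * g.a6 + k.a2 * g.a7 + T.θ k.a2 * g.a8 + k.a3 * g.b6 +
    T.θ k.a3 * g.b8 + k.b2 * g.a5 + T.θ k.b4 * g.b4 + k.a1 * k.a2 * T.θ g.a8 +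
    k.a1 * k.a3 * g.a8 + k.a1 * k.b2 * T.θ g.a7 + k.a1 * g.a5 * g.b8 +
    T.θ k.a1 * T.θ k.b4 * g.a8 + T.θ k.a1 * g.a7 * g.b6 + k.a2 * k.b2 * g.a8 +
    k.a2 * g.b6 * g.b8 + k.a3 * k.b2 * T.θ g.b8 + k.b2 * T.θ k.b2 * g.a7 +
    T.θ k.b2 * T.θ k.b4 * g.b8 + k.a1 * T.θ k.a1 * g.a7 * g.a8 +
    k.a1 * T.θ k.a1 * T.θ g.a8 * g.b6 + k.a1 * k.a3 * g.b8 * T.θ g.b8 +
    k.a1 * k.b2 * T.θ k.b2 * T.θ g.a8 + k.a1 ^ 2 * T.θ g.a7 * g.b8 +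
    k.a1 ^ 2 * T.θ g.a8 * g.b4 + T.θ k.a1 * k.b2 * g.a7 * T.θ g.b8 +
    T.θ k.a1 * k.b2 * g.a8 * g.b6 + k.a2 * k.b2 * g.b8 * T.θ g.b8 +
    k.b2 * T.θ k.b2 * g.b6 * g.b8 + k.b2 ^ 2 * T.θ k.b2 * g.a8 + k.b2 ^ 2 * g.b4 * T.θ g.b8 +
    k.a1 * T.θ k.a1 * k.b2 * g.a8 ^ 2 + k.a1 * T.θ k.a1 * k.b2 * T.θ g.a8 * T.θ g.b8 +
    k.a1 * T.θ k.a1 * g.a7 * g.b8 * T.θ g.b8 + k.a1 * T.θ k.a1 * g.a8 * g.b6 * g.b8 +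
    k.a1 ^ 2 * T.θ k.a1 * g.a8 * T.θ g.a8 + T.θ k.a1 * k.b2 ^ 2 * g.a8 * T.θ g.b8 +
    k.b2 ^ 2 * T.θ k.b2 * g.b8 * T.θ g.b8 + k.a1 * T.θ k.a1 * g.b6 * g.b8 ^ 2 * T.θ g.b8 +
    k.a1 ^ 2 * T.θ k.a1 * g.a8 ^ 2 * g.b8 + k.a1 ^ 2 * T.θ k.a1 * T.θ g.a8 * g.b8 * T.θ g.b8 +
    k.a1 * T.θ k.a1 * k.b2 * g.b8 ^ 2 * T.θ g.b8 ^ 2 +
    k.a1 ^ 2 * T.θ k.a1 * g.b8 ^ 3 * T.θ g.b8 ^ 2 := rfl

theorem mul_a5 (g k : U T) : (g * k).a5 =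
    k.a5 + g.a5 + k.a1 * T.θ g.a7 + k.a2 * g.a8 + k.a3 * T.θ g.b8 + T.θ k.b2 * g.a7 +
    k.b4 * g.b6 + k.a1 * T.θ k.b2 * T.θ g.a8 + k.a1 * k.b4 * g.a8 +
    T.θ k.a1 * g.a7 * T.θ g.b8 + T.θ k.a1 * g.a8 * g.b6 + k.a2 * g.b8 * T.θ g.b8 +
    k.b2 * k.b4 * T.θ g.b8 + T.θ k.b2 * g.b6 * g.b8 + k.a1 * T.θ k.a1 * g.a8 ^ 2 +
    k.a1 * T.θ k.a1 * T.θ g.a8 * T.θ g.b8 + k.a1 * k.b4 * g.b8 * T.θ g.b8 +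
    k.a1 * T.θ k.a1 * g.b8 ^ 2 * T.θ g.b8 ^ 2 := rfl

theorem mul_b6 (g k : U T) : (g * k).b6 =
    k.b6 + g.b6 + k.a1 * g.a8 + k.b2 * T.θ g.b8 + k.a1 * g.b8 * T.θ g.b8 := rfl

theorem mul_a6 (g k : U T) : (g * k).a6 =
    k.a6 + g.a6 + k.a2 * T.θ g.a8 + k.a3 * g.a8 + k.a5 * g.b8 + k.b2 * T.θ g.a7 +
    k.b4 * g.a7 + T.θ k.b6 * g.b6 + k.a1 * k.b4 * T.θ g.a8 + k.a1 * T.θ k.b6 * g.a8 +
    k.a1 * T.θ g.a7 * g.b8 + T.θ k.a1 * g.a7 * g.a8 + T.θ k.a1 * T.θ g.a8 * g.b6 +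
    k.a2 * g.a8 * g.b8 + k.b2 * T.θ k.b2 * T.θ g.a8 + k.b2 * k.b4 * g.a8 +
    k.b2 * T.θ k.b6 * T.θ g.b8 + T.θ k.b2 * g.a7 * g.b8 + k.a1 * T.θ k.b2 * T.θ g.a8 * g.b8 +
    k.a1 * k.b4 * g.a8 * g.b8 + k.a1 * T.θ k.b6 * g.b8 * T.θ g.b8 +
    T.θ k.a1 * k.b2 * g.a8 ^ 2 + T.θ k.a1 * k.b2 * T.θ g.a8 * T.θ g.b8 +
    k.a2 * g.b8 ^ 2 * T.θ g.b8 + T.θ k.b2 * g.b6 * g.b8 ^ 2 +
    k.a1 * T.θ k.a1 * g.a8 ^ 2 * g.b8 + k.a1 * T.θ k.a1 * T.θ g.a8 * g.b8 * T.θ g.b8 +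
    k.a1 * k.b4 * g.b8 ^ 2 * T.θ g.b8 + T.θ k.a1 * g.b6 * g.b8 ^ 2 * T.θ g.b8 +
    T.θ k.a1 * k.b2 * g.b8 ^ 2 * T.θ g.b8 ^ 2 + k.a1 * T.θ k.a1 * g.b8 ^ 3 * T.θ g.b8 ^ 2 := rfl

theorem mul_a7 (g k : U T) : (g * k).a7 =
    k.a7 + g.a7 + k.a1 * T.θ g.a8 + k.b2 * g.a8 + k.b6 * g.b8 + k.a1 * g.a8 * g.b8 +
    k.a1 * g.b8 ^ 2 * T.θ g.b8 := rfl

theorem mul_b8 (g k : U T) : (g * k).b8 =
    k.b8 + g.b8 := rfl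

theorem mul_a8 (g k : U T) : (g * k).a8 =
    k.a8 + g.a8 + T.θ k.b8 * g.b8 := rfl

theorem inv_a1 (g : U T) : (g⁻¹).a1 =
    g.a1 := rfl

theorem inv_b2 (g : U T) : (g⁻¹).b2 =
    g.b2 + g.a1 * g.b8 := rfl

theorem inv_a2 (g : U T) : (g⁻¹).a2 =
    g.a2 + g.a1 * g.b4 + T.θ g.a1 * g.b6 + g.b2 * T.θ g.b2 + g.a1 * T.θ g.a1 * g.a8 +
    g.a1 * T.θ g.b2 * g.b8 + g.a1 * T.θ g.a1 * g.b8 * T.θ g.b8 := rfl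

theorem inv_a3 (g : U T) : (g⁻¹).a3 =
    g.a3 + g.a1 * T.θ g.b6 + T.θ g.a1 * g.a7 + g.a2 * g.b8 + g.b2 * g.b4 +
    g.a1 * T.θ g.a1 * T.θ g.a8 + g.a1 * g.b4 * g.b8 + T.θ g.a1 * g.a8 * g.b2 +
    T.θ g.a1 * g.b6 * g.b8 + g.a1 * T.θ g.a1 * g.a8 * g.b8 +
    T.θ g.a1 * g.b2 * g.b8 * T.θ g.b8 + g.a1 * T.θ g.a1 * g.b8 ^ 2 * T.θ g.b8 := rfl

theorem inv_b4 (g : U T) : (g⁻¹).b4 =
    g.b4 + T.θ g.a1 * g.a8 + T.θ g.b2 * g.b8 + T.θ g.a1 * g.b8 * T.θ g.b8 := rfl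

theorem inv_a4 (g : U T) : (g⁻¹).a4 =
    g.a4 + g.a1 * g.a6 + g.a2 * g.a7 + T.θ g.a2 * g.a8 + g.a3 * g.b6 + T.θ g.a3 * g.b8 +
    g.a5 * g.b2 + g.b4 * T.θ g.b4 + g.a1 * g.a2 * T.θ g.a8 + g.a1 * g.a3 * g.a8 +
    g.a1 * g.a7 * g.b4 + g.a1 * T.θ g.a7 * g.b2 + g.a1 * g.b6 * T.θ g.b6 +
    T.θ g.a1 * g.a7 * g.b6 + g.a2 * g.a8 * g.b2 + T.θ g.a2 * g.b8 * T.θ g.b8 +
    g.a3 * g.b2 * T.θ g.b8 + g.b2 * g.b4 * g.b6 + g.a1 * T.θ g.a1 * g.a7 * g.a8 +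
    g.a1 * T.θ g.a1 * T.θ g.a8 * g.b6 + g.a1 * g.b2 * T.θ g.b6 * T.θ g.b8 +
    g.a1 ^ 2 * T.θ g.a7 * g.b8 + g.a1 ^ 2 * T.θ g.a8 * g.b4 +
    T.θ g.a1 * g.a7 * g.b2 * T.θ g.b8 + T.θ g.a1 * g.a8 * g.b2 * g.b6 +
    T.θ g.a1 * g.b6 ^ 2 * g.b8 + g.a8 * g.b2 ^ 2 * T.θ g.b2 + g.b2 ^ 2 * g.b4 * T.θ g.b8 +
    g.a1 * T.θ g.a1 * g.a8 ^ 2 * g.b2 + g.a1 * T.θ g.a1 * T.θ g.a8 * g.b2 * T.θ g.b8 +
    g.a1 * g.a2 * g.b8 ^ 2 * T.θ g.b8 + g.a1 ^ 2 * T.θ g.a1 * g.a8 * T.θ g.a8 +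
    g.a1 ^ 2 * T.θ g.b6 * g.b8 * T.θ g.b8 + T.θ g.a1 * g.a8 * g.b2 ^ 2 * T.θ g.b8 +
    g.b2 ^ 2 * T.θ g.b2 * g.b8 * T.θ g.b8 + g.a1 * T.θ g.a1 * g.b6 * g.b8 ^ 2 * T.θ g.b8 +
    g.a1 ^ 2 * T.θ g.a1 * g.a8 ^ 2 * g.b8 + g.a1 ^ 2 * g.b4 * g.b8 ^ 2 * T.θ g.b8 +
    T.θ g.a1 * g.b2 ^ 2 * g.b8 * T.θ g.b8 ^ 2 +
    g.a1 * T.θ g.a1 * g.b2 * g.b8 ^ 2 * T.θ g.b8 ^ 2 +
    g.a1 ^ 2 * T.θ g.a1 * g.a8 * g.b8 ^ 2 * T.θ g.b8 := rfl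

theorem inv_a5 (g : U T) : (g⁻¹).a5 =
    g.a5 + g.a1 * T.θ g.a7 + g.a2 * g.a8 + g.a3 * T.θ g.b8 + g.a7 * T.θ g.b2 + g.b4 * g.b6 +
    g.a1 * T.θ g.a8 * T.θ g.b2 + g.a1 * T.θ g.b6 * T.θ g.b8 + T.θ g.a1 * g.a7 * T.θ g.b8 +
    T.θ g.a1 * g.a8 * g.b6 + g.a8 * g.b2 * T.θ g.b2 + g.a1 * T.θ g.a1 * g.a8 ^ 2 +
    g.a1 * T.θ g.a1 * T.θ g.a8 * T.θ g.b8 + g.a1 * T.θ g.b2 * g.b8 ^ 2 * T.θ g.b8 +
    g.a1 * T.θ g.a1 * g.b8 ^ 2 * T.θ g.b8 ^ 2 := rfl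

theorem inv_b6 (g : U T) : (g⁻¹).b6 =
    g.b6 + g.a1 * g.a8 + g.b2 * T.θ g.b8 := rfl

theorem inv_a6 (g : U T) : (g⁻¹).a6 =
    g.a6 + g.a2 * T.θ g.a8 + g.a3 * g.a8 + g.a5 * g.b8 + g.a7 * g.b4 + T.θ g.a7 * g.b2 +
    g.b6 * T.θ g.b6 + g.a1 * T.θ g.a7 * g.b8 + T.θ g.a1 * g.a7 * g.a8 +
    T.θ g.a1 * T.θ g.a8 * g.b6 + g.a2 * g.a8 * g.b8 + g.a3 * g.b8 * T.θ g.b8 +
    g.a7 * T.θ g.b2 * g.b8 + g.b2 * T.θ g.b6 * T.θ g.b8 + g.b4 * g.b6 * g.b8 +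
    g.a1 * T.θ g.a8 * T.θ g.b2 * g.b8 + g.a1 * T.θ g.b6 * g.b8 * T.θ g.b8 +
    T.θ g.a1 * g.a7 * g.b8 * T.θ g.b8 + T.θ g.a1 * g.a8 * g.b6 * g.b8 +
    T.θ g.a1 * g.a8 ^ 2 * g.b2 + T.θ g.a1 * T.θ g.a8 * g.b2 * T.θ g.b8 +
    g.a2 * g.b8 ^ 2 * T.θ g.b8 + g.a8 * g.b2 * T.θ g.b2 * g.b8 +
    g.a1 * T.θ g.a1 * g.a8 ^ 2 * g.b8 + g.a1 * T.θ g.a1 * T.θ g.a8 * g.b8 * T.θ g.b8 +
    T.θ g.a1 * g.b6 * g.b8 ^ 2 * T.θ g.b8 + g.a1 * T.θ g.b2 * g.b8 ^ 3 * T.θ g.b8 +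
    T.θ g.a1 * g.b2 * g.b8 ^ 2 * T.θ g.b8 ^ 2 + g.a1 * T.θ g.a1 * g.b8 ^ 3 * T.θ g.b8 ^ 2 := rfl

theorem inv_a7 (g : U T) : (g⁻¹).a7 =
    g.a7 + g.a1 * T.θ g.a8 + g.a8 * g.b2 + g.b6 * g.b8 + g.a1 * g.a8 * g.b8 +
    g.b2 * g.b8 * T.θ g.b8 + g.a1 * g.b8 ^ 2 * T.θ g.b8 := rfl

theorem inv_b8 (g : U T) : (g⁻¹).b8 =
    g.b8 := rfl

theorem inv_a8 (g : U T) : (g⁻¹).a8 =
    g.a8 + g.b8 * T.θ g.b8 := rfl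

@[simp] theorem one_a1 : (1 : U T).a1 = 0 := rfl
@[simp] theorem one_b2 : (1 : U T).b2 = 0 := rfl
@[simp] theorem one_a2 : (1 : U T).a2 = 0 := rfl
@[simp] theorem one_a3 : (1 : U T).a3 = 0 := rfl
@[simp] theorem one_b4 : (1 : U T).b4 = 0 := rfl
@[simp] theorem one_a4 : (1 : U T).a4 = 0 := rfl
@[simp] theorem one_a5 : (1 : U T).a5 = 0 := rfl
@[simp] theorem one_b6 : (1 : U T).b6 = 0 := rfl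
@[simp] theorem one_a6 : (1 : U T).a6 = 0 := rfl
@[simp] theorem one_a7 : (1 : U T).a7 = 0 := rfl
@[simp] theorem one_b8 : (1 : U T).b8 = 0 := rfl
@[simp] theorem one_a8 : (1 : U T).a8 = 0 := rfl

theorem assoc_a1 (a b c : U T) : (a * b * c).a1 = (a * (b * c)).a1 := by
  simp only [mul_a1, mul_b2, mul_a2, mul_a3, mul_b4, mul_a4, mul_a5, mul_b6, mul_a6, mul_a7, mul_b8, mul_a8]
  o8ring T

theorem assoc_b2 (a b c : U T) : (a * b * c).b2 = (a * (b * c)).b2 := by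
  simp only [mul_a1, mul_b2, mul_a2, mul_a3, mul_b4, mul_a4, mul_a5, mul_b6, mul_a6, mul_a7, mul_b8, mul_a8]
  o8ring T

theorem assoc_a2 (a b c : U T) : (a * b * c).a2 = (a * (b * c)).a2 := by
  simp only [mul_a1, mul_b2, mul_a2, mul_a3, mul_b4, mul_a4, mul_a5, mul_b6, mul_a6, mul_a7, mul_b8, mul_a8]
  o8ring T

theorem assoc_a3 (a b c : U T) : (a * b * c).a3 = (a * (b * c)).a3 := by
  simp only [mul_a1, mul_b2, mul_a2, mul_a3, mul_b4, mul_a4, mul_a5, mul_b6, mul_a6, mul_a7, mul_b8, mul_a8]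
  o8ring T

theorem assoc_b4 (a b c : U T) : (a * b * c).b4 = (a * (b * c)).b4 := by
  simp only [mul_a1, mul_b2, mul_a2, mul_a3, mul_b4, mul_a4, mul_a5, mul_b6, mul_a6, mul_a7, mul_b8, mul_a8]
  o8ring T

theorem assoc_a4 (a b c : U T) : (a * b * c).a4 = (a * (b * c)).a4 := by
  simp only [mul_a1, mul_b2, mul_a2, mul_a3, mul_b4, mul_a4, mul_a5, mul_b6, mul_a6, mul_a7, mul_b8, mul_a8]
  o8ring T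

theorem assoc_a5 (a b c : U T) : (a * b * c).a5 = (a * (b * c)).a5 := by
  simp only [mul_a1, mul_b2, mul_a2, mul_a3, mul_b4, mul_a4, mul_a5, mul_b6, mul_a6, mul_a7, mul_b8, mul_a8]
  o8ring T

theorem assoc_b6 (a b c : U T) : (a * b * c).b6 = (a * (b * c)).b6 := by
  simp only [mul_a1, mul_b2, mul_a2, mul_a3, mul_b4, mul_a4, mul_a5, mul_b6, mul_a6, mul_a7, mul_b8, mul_a8]
  o8ring T

theorem assoc_a6 (a b c : U T) : (a * b * c).a6 = (a * (b * c)).a6 := by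
  simp only [mul_a1, mul_b2, mul_a2, mul_a3, mul_b4, mul_a4, mul_a5, mul_b6, mul_a6, mul_a7, mul_b8, mul_a8]
  o8ring T

theorem assoc_a7 (a b c : U T) : (a * b * c).a7 = (a * (b * c)).a7 := by
  simp only [mul_a1, mul_b2, mul_a2, mul_a3, mul_b4, mul_a4, mul_a5, mul_b6, mul_a6, mul_a7, mul_b8, mul_a8]
  o8ring T

theorem assoc_b8 (a b c : U T) : (a * b * c).b8 = (a * (b * c)).b8 := by
  simp only [mul_a1, mul_b2, mul_a2, mul_a3, mul_b4, mul_a4, mul_a5, mul_b6, mul_a6, mul_a7, mul_b8, mul_a8]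
  o8ring T

theorem assoc_a8 (a b c : U T) : (a * b * c).a8 = (a * (b * c)).a8 := by
  simp only [mul_a1, mul_b2, mul_a2, mul_a3, mul_b4, mul_a4, mul_a5, mul_b6, mul_a6, mul_a7, mul_b8, mul_a8]
  o8ring T

instance instGroupO8 : Group (U T) := Group.ofLeftAxioms
  (fun a b c => U.ext (assoc_a1 a b c) (assoc_b2 a b c) (assoc_a2 a b c) (assoc_a3 a b c) (assoc_b4 a b c) (assoc_a4 a b c) (assoc_a5 a b c) (assoc_b6 a b c) (assoc_a6 a b c) (assoc_a7 a b c) (assoc_b8 a b c) (assoc_a8 a b c))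
  (fun a => by ext <;> simp [mul_a1, mul_b2, mul_a2, mul_a3, mul_b4, mul_a4, mul_a5, mul_b6, mul_a6, mul_a7, mul_b8, mul_a8])
  (fun a => by ext <;> simp only [mul_a1, mul_b2, mul_a2, mul_a3, mul_b4, mul_a4, mul_a5, mul_b6, mul_a6, mul_a7, mul_b8, mul_a8, inv_a1, inv_b2, inv_a2, inv_a3, inv_b4, inv_a4, inv_a5, inv_b6, inv_a6, inv_a7, inv_b8, inv_a8, one_a1, one_b2, one_a2, one_a3, one_b4, one_a4, one_a5, one_b6, one_a6, one_a7, one_b8, one_a8] <;> o8ring T)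

end U

variable (T)

/-- Root element. -/
def x1 (t : K) : U T := ⟨t, 0, 0, 0, 0, 0, 0, 0, 0, 0, 0, 0⟩

/-- Root element. -/
def y2 (t : K) : U T := ⟨0, t, 0, 0, 0, 0, 0, 0, 0, 0, 0, 0⟩

/-- Root element. -/
def x2 (t : K) : U T := ⟨0, 0, t, 0, 0, 0, 0, 0, 0, 0, 0, 0⟩

/-- Root element. -/
def x3 (t : K) : U T := ⟨0, 0, 0, t, 0, 0, 0, 0, 0, 0, 0, 0⟩

/-- Root element. -/
def y4 (t : K) : U T := ⟨0, 0, 0, 0, t, 0, 0, 0, 0, 0, 0, 0⟩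

/-- Root element. -/
def x4 (t : K) : U T := ⟨0, 0, 0, 0, 0, t, 0, 0, 0, 0, 0, 0⟩

/-- Root element. -/
def x5 (t : K) : U T := ⟨0, 0, 0, 0, 0, 0, t, 0, 0, 0, 0, 0⟩

/-- Root element. -/
def y6 (t : K) : U T := ⟨0, 0, 0, 0, 0, 0, 0, t, 0, 0, 0, 0⟩

/-- Root element. -/
def x6 (t : K) : U T := ⟨0, 0, 0, 0, 0, 0, 0, 0, t, 0, 0, 0⟩

/-- Root element. -/
def x7 (t : K) : U T := ⟨0, 0, 0, 0, 0, 0, 0, 0, 0, t, 0, 0⟩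

/-- Root element. -/
def y8 (t : K) : U T := ⟨0, 0, 0, 0, 0, 0, 0, 0, 0, 0, t, 0⟩

/-- Root element. -/
def x8 (t : K) : U T := ⟨0, 0, 0, 0, 0, 0, 0, 0, 0, 0, 0, t⟩

variable {T}

/-- The action of the reflection `i ↦ 8 - i` on `Q`. -/
def w8 (g : U T) : U T where
  a1 := g.a7
  b2 := g.b6
  a2 := g.a6 + g.a7 * g.b4 + T.θ g.a7 * g.b2
  a3 := g.a5 + g.a1 * T.θ g.a7 + g.a7 * T.θ g.b2 + g.b4 * g.b6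
  b4 := g.b4
  a4 := g.a4 + g.a1 * g.a6 + g.a2 * g.a7 + g.a3 * g.b6 + g.a5 * g.b2 + g.a1 * g.a7 * g.b4 +
    g.a1 * T.θ g.a7 * g.b2 + g.a1 * g.b6 * T.θ g.b6 + T.θ g.a1 * g.a7 * g.b6 +
    g.b2 * g.b4 * g.b6
  a5 := g.a3 + g.a1 * T.θ g.b6 + T.θ g.a1 * g.a7 + g.b2 * g.b4
  b6 := g.b2
  a6 := g.a2 + g.a1 * g.b4 + T.θ g.a1 * g.b6
  a7 := g.a1
  b8 := 0
  a8 := 0

/-- The action of the reflection `i ↦ 10 - i` on `E`. -/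
def w1 (g : U T) : U T where
  a1 := 0
  b2 := g.b8
  a2 := g.a8
  a3 := g.a7 + g.a8 * g.b2 + g.b6 * g.b8 + g.b2 * g.b8 * T.θ g.b8
  b4 := g.b6 + g.b2 * T.θ g.b8
  a4 := g.a6 + g.a2 * T.θ g.a8 + g.a3 * g.a8 + g.a5 * g.b8 + g.a7 * g.b4 + T.θ g.a7 * g.b2 +
    g.a2 * g.a8 * g.b8 + g.a3 * g.b8 * T.θ g.b8 + g.a7 * T.θ g.b2 * g.b8 +
    g.b4 * g.b6 * g.b8 + g.a2 * g.b8 ^ 2 * T.θ g.b8 + g.a8 * g.b2 * T.θ g.b2 * g.b8 +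
    T.θ g.b2 * g.b6 * g.b8 ^ 2 + g.b2 * T.θ g.b2 * g.b8 ^ 2 * T.θ g.b8
  a5 := g.a5 + g.a2 * g.a8 + g.a3 * T.θ g.b8 + g.a7 * T.θ g.b2 + g.b4 * g.b6 +
    g.a8 * g.b2 * T.θ g.b2
  b6 := g.b4 + T.θ g.b2 * g.b8
  a6 := g.a4 + g.a2 * g.a7 + T.θ g.a2 * g.a8 + g.a3 * g.b6 + T.θ g.a3 * g.b8 + g.a5 * g.b2 +
    g.a2 * g.a8 * g.b2 + T.θ g.a2 * g.b8 * T.θ g.b8 + g.a3 * g.b2 * T.θ g.b8 +
    g.b2 * g.b4 * g.b6 + T.θ g.b2 * T.θ g.b4 * g.b8 + g.a8 * g.b2 ^ 2 * T.θ g.b2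
  a7 := g.a3 + g.a2 * g.b8 + g.b2 * g.b4
  b8 := g.b2
  a8 := g.a2

/-- Scaling of the coordinates: `a` acts on `y4` and `b` on `y6`; `a'`, `b'` are the inverses. -/
def sc (a b a' b' : K) (g : U T) : U T where
  a1 := a * T.θ a * b' * T.θ b' * g.a1
  b2 := T.θ a * b' * g.b2
  a2 := a ^ 2 * T.θ a * b' * T.θ b' * g.a2
  a3 := a * T.θ a * b' * g.a3
  b4 := a * g.b4
  a4 := a * T.θ a * g.a4
  a5 := a * b * g.a5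
  b6 := b * g.b6
  a6 := b * T.θ b * g.a6
  a7 := b * T.θ b * a' * g.a7
  b8 := T.θ b * a' * g.b8
  a8 := b ^ 2 * T.θ b * a' * T.θ a' * g.a8

variable (T)

/-- The subgroup `U₁ ⋯ U₇`. -/
def Q : Subgroup (U T) where
  carrier := {g | g.b8 = 0 ∧ g.a8 = 0}
  one_mem' := by simp
  mul_mem' := fun {g k} ⟨h0, h1⟩ ⟨k0, k1⟩ => by
    simp [U.mul_b8, U.mul_a8, h0, h1, k0, k1]
  inv_mem' := fun {g} ⟨h0, h1⟩ => by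
    simp [U.inv_b8, U.inv_a8, h0, h1]

/-- The subgroup `U₂ ⋯ U₈`. -/
def E : Subgroup (U T) where
  carrier := {g | g.a1 = 0}
  one_mem' := by simp
  mul_mem' := fun {g k} (h0 : g.a1 = 0) (k0 : k.a1 = 0) => by
    simp [U.mul_a1, h0, k0]
  inv_mem' := fun {g} (h0 : g.a1 = 0) => by
    simp [U.inv_a1, h0]

/-- The subgroup `V₂ U₃ U₄ U₅ U₆ U₇ V₈`. -/
def O : Subgroup (U T) where
  carrier := {g | g.a1 = 0 ∧ g.b2 = 0 ∧ g.b8 = 0}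
  one_mem' := by simp
  mul_mem' := fun {g k} ⟨h0, h1, h2⟩ ⟨k0, k1, k2⟩ => by
    simp [U.mul_a1, U.mul_b2, U.mul_b8, h0, h1, h2, k0, k1, k2]
  inv_mem' := fun {g} ⟨h0, h1, h2⟩ => by
    simp [U.inv_a1, U.inv_b2, U.inv_b8, h0, h1, h2]

/-- The subgroup `V₂ U₃ U₄ U₅ V₆`. -/
def D : Subgroup (U T) where
  carrier := {g | g.a1 = 0 ∧ g.b2 = 0 ∧ g.b6 = 0 ∧ g.a7 = 0 ∧ g.b8 = 0 ∧ g.a8 = 0}
  one_mem' := by simp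
  mul_mem' := fun {g k} ⟨h0, h1, h2, h3, h4, h5⟩ ⟨k0, k1, k2, k3, k4, k5⟩ => by
    simp [U.mul_a1, U.mul_b2, U.mul_b6, U.mul_a7, U.mul_b8, U.mul_a8, h0, h1, h2, h3, h4, h5, k0, k1, k2, k3, k4, k5]
  inv_mem' := fun {g} ⟨h0, h1, h2, h3, h4, h5⟩ => by
    simp [U.inv_a1, U.inv_b2, U.inv_b6, U.inv_a7, U.inv_b8, U.inv_a8, h0, h1, h2, h3, h4, h5]

/-- The subgroup `V₂ U₃ V₄ U₅ V₆`. -/
def V : Subgroup (U T) where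
  carrier := {g | g.a1 = 0 ∧ g.b2 = 0 ∧ g.b4 = 0 ∧ g.b6 = 0 ∧ g.a7 = 0 ∧ g.b8 = 0 ∧ g.a8 = 0}
  one_mem' := by simp
  mul_mem' := fun {g k} ⟨h0, h1, h2, h3, h4, h5, h6⟩ ⟨k0, k1, k2, k3, k4, k5, k6⟩ => by
    simp [U.mul_a1, U.mul_b2, U.mul_b4, U.mul_b6, U.mul_a7, U.mul_b8, U.mul_a8, h0, h1, h2, h3, h4, h5, h6, k0, k1, k2, k3, k4, k5, k6]
  inv_mem' := fun {g} ⟨h0, h1, h2, h3, h4, h5, h6⟩ => by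
    simp [U.inv_a1, U.inv_b2, U.inv_b4, U.inv_b6, U.inv_a7, U.inv_b8, U.inv_a8, h0, h1, h2, h3, h4, h5, h6]

/-- The subgroup `V₄ U₅ V₆ U₇ V₈`. -/
def A : Subgroup (U T) where
  carrier := {g | g.a1 = 0 ∧ g.b2 = 0 ∧ g.a2 = 0 ∧ g.a3 = 0 ∧ g.b4 = 0 ∧ g.b6 = 0 ∧ g.b8 = 0}
  one_mem' := by simp
  mul_mem' := fun {g k} ⟨h0, h1, h2, h3, h4, h5, h6⟩ ⟨k0, k1, k2, k3, k4, k5, k6⟩ => by
    simp [U.mul_a1, U.mul_b2, U.mul_a2, U.mul_a3, U.mul_b4, U.mul_b6, U.mul_b8, h0, h1, h2, h3, h4, h5, h6, k0, k1, k2, k3, k4, k5, k6]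
  inv_mem' := fun {g} ⟨h0, h1, h2, h3, h4, h5, h6⟩ => by
    simp [U.inv_a1, U.inv_b2, U.inv_a2, U.inv_a3, U.inv_b4, U.inv_b6, U.inv_b8, h0, h1, h2, h3, h4, h5, h6]

/-- The subgroup `U₃ V₄ U₅ V₆ U₇`. -/
def Y : Subgroup (U T) where
  carrier := {g | g.a1 = 0 ∧ g.b2 = 0 ∧ g.a2 = 0 ∧ g.b4 = 0 ∧ g.b6 = 0 ∧ g.b8 = 0 ∧ g.a8 = 0}
  one_mem' := by simp
  mul_mem' := fun {g k} ⟨h0, h1, h2, h3, h4, h5, h6⟩ ⟨k0, k1, k2, k3, k4, k5, k6⟩ => by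
    simp [U.mul_a1, U.mul_b2, U.mul_a2, U.mul_b4, U.mul_b6, U.mul_b8, U.mul_a8, h0, h1, h2, h3, h4, h5, h6, k0, k1, k2, k3, k4, k5, k6]
  inv_mem' := fun {g} ⟨h0, h1, h2, h3, h4, h5, h6⟩ => by
    simp [U.inv_a1, U.inv_b2, U.inv_a2, U.inv_b4, U.inv_b6, U.inv_b8, U.inv_a8, h0, h1, h2, h3, h4, h5, h6]

/-- The subgroup `V₄ U₅ V₆`. -/
def R : Subgroup (U T) where
  carrier := {g | g.a1 = 0 ∧ g.b2 = 0 ∧ g.a2 = 0 ∧ g.a3 = 0 ∧ g.b4 = 0 ∧ g.b6 = 0 ∧ g.a7 = 0 ∧ g.b8 = 0 ∧ g.a8 = 0}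
  one_mem' := by simp
  mul_mem' := fun {g k} ⟨h0, h1, h2, h3, h4, h5, h6, h7, h8⟩ ⟨k0, k1, k2, k3, k4, k5, k6, k7, k8⟩ => by
    simp [U.mul_a1, U.mul_b2, U.mul_a2, U.mul_a3, U.mul_b4, U.mul_b6, U.mul_a7, U.mul_b8, U.mul_a8, h0, h1, h2, h3, h4, h5, h6, h7, h8, k0, k1, k2, k3, k4, k5, k6, k7, k8]
  inv_mem' := fun {g} ⟨h0, h1, h2, h3, h4, h5, h6, h7, h8⟩ => by
    simp [U.inv_a1, U.inv_b2, U.inv_a2, U.inv_a3, U.inv_b4, U.inv_b6, U.inv_a7, U.inv_b8, U.inv_a8, h0, h1, h2, h3, h4, h5, h6, h7, h8]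

/-- The subgroup `V₄ V₆`. -/
def W : Subgroup (U T) where
  carrier := {g | g.a1 = 0 ∧ g.b2 = 0 ∧ g.a2 = 0 ∧ g.a3 = 0 ∧ g.b4 = 0 ∧ g.a5 = 0 ∧ g.b6 = 0 ∧ g.a7 = 0 ∧ g.b8 = 0 ∧ g.a8 = 0}
  one_mem' := by simp
  mul_mem' := fun {g k} ⟨h0, h1, h2, h3, h4, h5, h6, h7, h8, h9⟩ ⟨k0, k1, k2, k3, k4, k5, k6, k7, k8, k9⟩ => by
    simp [U.mul_a1, U.mul_b2, U.mul_a2, U.mul_a3, U.mul_b4, U.mul_a5, U.mul_b6, U.mul_a7, U.mul_b8, U.mul_a8, h0, h1, h2, h3, h4, h5, h6, h7, h8, h9, k0, k1, k2, k3, k4, k5, k6, k7, k8, k9]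
  inv_mem' := fun {g} ⟨h0, h1, h2, h3, h4, h5, h6, h7, h8, h9⟩ => by
    simp [U.inv_a1, U.inv_b2, U.inv_a2, U.inv_a3, U.inv_b4, U.inv_a5, U.inv_b6, U.inv_a7, U.inv_b8, U.inv_a8, h0, h1, h2, h3, h4, h5, h6, h7, h8, h9]

/-- The subgroup `V₄`. -/
def Z : Subgroup (U T) where
  carrier := {g | g.a1 = 0 ∧ g.b2 = 0 ∧ g.a2 = 0 ∧ g.a3 = 0 ∧ g.b4 = 0 ∧ g.a5 = 0 ∧ g.b6 = 0 ∧ g.a6 = 0 ∧ g.a7 = 0 ∧ g.b8 = 0 ∧ g.a8 = 0}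
  one_mem' := by simp
  mul_mem' := fun {g k} ⟨h0, h1, h2, h3, h4, h5, h6, h7, h8, h9, h10⟩ ⟨k0, k1, k2, k3, k4, k5, k6, k7, k8, k9, k10⟩ => by
    simp [U.mul_a1, U.mul_b2, U.mul_a2, U.mul_a3, U.mul_b4, U.mul_a5, U.mul_b6, U.mul_a6, U.mul_a7, U.mul_b8, U.mul_a8, h0, h1, h2, h3, h4, h5, h6, h7, h8, h9, h10, k0, k1, k2, k3, k4, k5, k6, k7, k8, k9, k10]
  inv_mem' := fun {g} ⟨h0, h1, h2, h3, h4, h5, h6, h7, h8, h9, h10⟩ => by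
    simp [U.inv_a1, U.inv_b2, U.inv_a2, U.inv_a3, U.inv_b4, U.inv_a5, U.inv_b6, U.inv_a6, U.inv_a7, U.inv_b8, U.inv_a8, h0, h1, h2, h3, h4, h5, h6, h7, h8, h9, h10]

/-- The subgroup `V₆`. -/
def Z6 : Subgroup (U T) where
  carrier := {g | g.a1 = 0 ∧ g.b2 = 0 ∧ g.a2 = 0 ∧ g.a3 = 0 ∧ g.b4 = 0 ∧ g.a4 = 0 ∧ g.a5 = 0 ∧ g.b6 = 0 ∧ g.a7 = 0 ∧ g.b8 = 0 ∧ g.a8 = 0}
  one_mem' := by simp
  mul_mem' := fun {g k} ⟨h0, h1, h2, h3, h4, h5, h6, h7, h8, h9, h10⟩ ⟨k0, k1, k2, k3, k4, k5, k6, k7, k8, k9, k10⟩ => by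
    simp [U.mul_a1, U.mul_b2, U.mul_a2, U.mul_a3, U.mul_b4, U.mul_a4, U.mul_a5, U.mul_b6, U.mul_a7, U.mul_b8, U.mul_a8, h0, h1, h2, h3, h4, h5, h6, h7, h8, h9, h10, k0, k1, k2, k3, k4, k5, k6, k7, k8, k9, k10]
  inv_mem' := fun {g} ⟨h0, h1, h2, h3, h4, h5, h6, h7, h8, h9, h10⟩ => by
    simp [U.inv_a1, U.inv_b2, U.inv_a2, U.inv_a3, U.inv_b4, U.inv_a4, U.inv_a5, U.inv_b6, U.inv_a7, U.inv_b8, U.inv_a8, h0, h1, h2, h3, h4, h5, h6, h7, h8, h9, h10]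

/-- The subgroup `U₁ V₂ U₃ U₄ U₅ U₆ U₇ V₈`. -/
def Tc : Subgroup (U T) where
  carrier := {g | g.b2 = 0 ∧ g.b8 = 0}
  one_mem' := by simp
  mul_mem' := fun {g k} ⟨h0, h1⟩ ⟨k0, k1⟩ => by
    simp [U.mul_b2, U.mul_b8, h0, h1, k0, k1]
  inv_mem' := fun {g} ⟨h0, h1⟩ => by
    simp [U.inv_b2, U.inv_b8, h0, h1]

/-- The subgroup `U₃ V₄ U₅ U₆ U₇ U₈`. -/
def Td : Subgroup (U T) where
  carrier := {g | g.a1 = 0 ∧ g.b2 = 0 ∧ g.a2 = 0 ∧ g.b4 = 0}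
  one_mem' := by simp
  mul_mem' := fun {g k} ⟨h0, h1, h2, h3⟩ ⟨k0, k1, k2, k3⟩ => by
    simp [U.mul_a1, U.mul_b2, U.mul_a2, U.mul_b4, h0, h1, h2, h3, k0, k1, k2, k3]
  inv_mem' := fun {g} ⟨h0, h1, h2, h3⟩ => by
    simp [U.inv_a1, U.inv_b2, U.inv_a2, U.inv_b4, h0, h1, h2, h3]

/-- The subgroup `U₄ ⋯ U₈`. -/
def Te : Subgroup (U T) where
  carrier := {g | g.a1 = 0 ∧ g.b2 = 0 ∧ g.a2 = 0 ∧ g.a3 = 0}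
  one_mem' := by simp
  mul_mem' := fun {g k} ⟨h0, h1, h2, h3⟩ ⟨k0, k1, k2, k3⟩ => by
    simp [U.mul_a1, U.mul_b2, U.mul_a2, U.mul_a3, h0, h1, h2, h3, k0, k1, k2, k3]
  inv_mem' := fun {g} ⟨h0, h1, h2, h3⟩ => by
    simp [U.inv_a1, U.inv_b2, U.inv_a2, U.inv_a3, h0, h1, h2, h3]

/-- The subgroup `U₁`. -/
def U1 : Subgroup (U T) where
  carrier := {g | g.b2 = 0 ∧ g.a2 = 0 ∧ g.a3 = 0 ∧ g.b4 = 0 ∧ g.a4 = 0 ∧ g.a5 = 0 ∧ g.b6 = 0 ∧ g.a6 = 0 ∧ g.a7 = 0 ∧ g.b8 = 0 ∧ g.a8 = 0}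
  one_mem' := by simp
  mul_mem' := fun {g k} ⟨h0, h1, h2, h3, h4, h5, h6, h7, h8, h9, h10⟩ ⟨k0, k1, k2, k3, k4, k5, k6, k7, k8, k9, k10⟩ => by
    simp [U.mul_b2, U.mul_a2, U.mul_a3, U.mul_b4, U.mul_a4, U.mul_a5, U.mul_b6, U.mul_a6, U.mul_a7, U.mul_b8, U.mul_a8, h0, h1, h2, h3, h4, h5, h6, h7, h8, h9, h10, k0, k1, k2, k3, k4, k5, k6, k7, k8, k9, k10]
  inv_mem' := fun {g} ⟨h0, h1, h2, h3, h4, h5, h6, h7, h8, h9, h10⟩ => by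
    simp [U.inv_b2, U.inv_a2, U.inv_a3, U.inv_b4, U.inv_a4, U.inv_a5, U.inv_b6, U.inv_a6, U.inv_a7, U.inv_b8, U.inv_a8, h0, h1, h2, h3, h4, h5, h6, h7, h8, h9, h10]

/-- The subgroup `U₄`. -/
def U4 : Subgroup (U T) where
  carrier := {g | g.a1 = 0 ∧ g.b2 = 0 ∧ g.a2 = 0 ∧ g.a3 = 0 ∧ g.a5 = 0 ∧ g.b6 = 0 ∧ g.a6 = 0 ∧ g.a7 = 0 ∧ g.b8 = 0 ∧ g.a8 = 0}
  one_mem' := by simp
  mul_mem' := fun {g k} ⟨h0, h1, h2, h3, h4, h5, h6, h7, h8, h9⟩ ⟨k0, k1, k2, k3, k4, k5, k6, k7, k8, k9⟩ => by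
    simp [U.mul_a1, U.mul_b2, U.mul_a2, U.mul_a3, U.mul_a5, U.mul_b6, U.mul_a6, U.mul_a7, U.mul_b8, U.mul_a8, h0, h1, h2, h3, h4, h5, h6, h7, h8, h9, k0, k1, k2, k3, k4, k5, k6, k7, k8, k9]
  inv_mem' := fun {g} ⟨h0, h1, h2, h3, h4, h5, h6, h7, h8, h9⟩ => by
    simp [U.inv_a1, U.inv_b2, U.inv_a2, U.inv_a3, U.inv_a5, U.inv_b6, U.inv_a6, U.inv_a7, U.inv_b8, U.inv_a8, h0, h1, h2, h3, h4, h5, h6, h7, h8, h9]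

/-- The subgroup `U₈`. -/
def U8 : Subgroup (U T) where
  carrier := {g | g.a1 = 0 ∧ g.b2 = 0 ∧ g.a2 = 0 ∧ g.a3 = 0 ∧ g.b4 = 0 ∧ g.a4 = 0 ∧ g.a5 = 0 ∧ g.b6 = 0 ∧ g.a6 = 0 ∧ g.a7 = 0}
  one_mem' := by simp
  mul_mem' := fun {g k} ⟨h0, h1, h2, h3, h4, h5, h6, h7, h8, h9⟩ ⟨k0, k1, k2, k3, k4, k5, k6, k7, k8, k9⟩ => by
    simp [U.mul_a1, U.mul_b2, U.mul_a2, U.mul_a3, U.mul_b4, U.mul_a4, U.mul_a5, U.mul_b6, U.mul_a6, U.mul_a7, h0, h1, h2, h3, h4, h5, h6, h7, h8, h9, k0, k1, k2, k3, k4, k5, k6, k7, k8, k9]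
  inv_mem' := fun {g} ⟨h0, h1, h2, h3, h4, h5, h6, h7, h8, h9⟩ => by
    simp [U.inv_a1, U.inv_b2, U.inv_a2, U.inv_a3, U.inv_b4, U.inv_a4, U.inv_a5, U.inv_b6, U.inv_a6, U.inv_a7, h0, h1, h2, h3, h4, h5, h6, h7, h8, h9]

variable {T}

theorem mem_Q {g : U T} : g ∈ Q T ↔ g.b8 = 0 ∧ g.a8 = 0 := Iff.rfl

theorem mem_E {g : U T} : g ∈ E T ↔ g.a1 = 0 := Iff.rfl

theorem mem_O {g : U T} : g ∈ O T ↔ g.a1 = 0 ∧ g.b2 = 0 ∧ g.b8 = 0 := Iff.rfl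

theorem mem_D {g : U T} : g ∈ D T ↔ g.a1 = 0 ∧ g.b2 = 0 ∧ g.b6 = 0 ∧ g.a7 = 0 ∧ g.b8 = 0 ∧ g.a8 = 0 := Iff.rfl

theorem mem_V {g : U T} : g ∈ V T ↔ g.a1 = 0 ∧ g.b2 = 0 ∧ g.b4 = 0 ∧ g.b6 = 0 ∧ g.a7 = 0 ∧ g.b8 = 0 ∧ g.a8 = 0 := Iff.rfl

theorem mem_A {g : U T} : g ∈ A T ↔ g.a1 = 0 ∧ g.b2 = 0 ∧ g.a2 = 0 ∧ g.a3 = 0 ∧ g.b4 = 0 ∧ g.b6 = 0 ∧ g.b8 = 0 := Iff.rfl

theorem mem_Y {g : U T} : g ∈ Y T ↔ g.a1 = 0 ∧ g.b2 = 0 ∧ g.a2 = 0 ∧ g.b4 = 0 ∧ g.b6 = 0 ∧ g.b8 = 0 ∧ g.a8 = 0 := Iff.rfl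

theorem mem_R {g : U T} : g ∈ R T ↔ g.a1 = 0 ∧ g.b2 = 0 ∧ g.a2 = 0 ∧ g.a3 = 0 ∧ g.b4 = 0 ∧ g.b6 = 0 ∧ g.a7 = 0 ∧ g.b8 = 0 ∧ g.a8 = 0 := Iff.rfl

theorem mem_W {g : U T} : g ∈ W T ↔ g.a1 = 0 ∧ g.b2 = 0 ∧ g.a2 = 0 ∧ g.a3 = 0 ∧ g.b4 = 0 ∧ g.a5 = 0 ∧ g.b6 = 0 ∧ g.a7 = 0 ∧ g.b8 = 0 ∧ g.a8 = 0 := Iff.rfl

theorem mem_Z {g : U T} : g ∈ Z T ↔ g.a1 = 0 ∧ g.b2 = 0 ∧ g.a2 = 0 ∧ g.a3 = 0 ∧ g.b4 = 0 ∧ g.a5 = 0 ∧ g.b6 = 0 ∧ g.a6 = 0 ∧ g.a7 = 0 ∧ g.b8 = 0 ∧ g.a8 = 0 := Iff.rfl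

theorem mem_Z6 {g : U T} : g ∈ Z6 T ↔ g.a1 = 0 ∧ g.b2 = 0 ∧ g.a2 = 0 ∧ g.a3 = 0 ∧ g.b4 = 0 ∧ g.a4 = 0 ∧ g.a5 = 0 ∧ g.b6 = 0 ∧ g.a7 = 0 ∧ g.b8 = 0 ∧ g.a8 = 0 := Iff.rfl

theorem mem_Tc {g : U T} : g ∈ Tc T ↔ g.b2 = 0 ∧ g.b8 = 0 := Iff.rfl

theorem mem_Td {g : U T} : g ∈ Td T ↔ g.a1 = 0 ∧ g.b2 = 0 ∧ g.a2 = 0 ∧ g.b4 = 0 := Iff.rfl

theorem mem_Te {g : U T} : g ∈ Te T ↔ g.a1 = 0 ∧ g.b2 = 0 ∧ g.a2 = 0 ∧ g.a3 = 0 := Iff.rfl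

theorem mem_U1 {g : U T} : g ∈ U1 T ↔ g.b2 = 0 ∧ g.a2 = 0 ∧ g.a3 = 0 ∧ g.b4 = 0 ∧ g.a4 = 0 ∧ g.a5 = 0 ∧ g.b6 = 0 ∧ g.a6 = 0 ∧ g.a7 = 0 ∧ g.b8 = 0 ∧ g.a8 = 0 := Iff.rfl

theorem mem_U4 {g : U T} : g ∈ U4 T ↔ g.a1 = 0 ∧ g.b2 = 0 ∧ g.a2 = 0 ∧ g.a3 = 0 ∧ g.a5 = 0 ∧ g.b6 = 0 ∧ g.a6 = 0 ∧ g.a7 = 0 ∧ g.b8 = 0 ∧ g.a8 = 0 := Iff.rfl

theorem mem_U8 {g : U T} : g ∈ U8 T ↔ g.a1 = 0 ∧ g.b2 = 0 ∧ g.a2 = 0 ∧ g.a3 = 0 ∧ g.b4 = 0 ∧ g.a4 = 0 ∧ g.a5 = 0 ∧ g.b6 = 0 ∧ g.a6 = 0 ∧ g.a7 = 0 := Iff.rfl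

/-- Expansion in coordinates. -/
macro "o8s" loc:(Lean.Parser.Tactic.location)? : tactic =>
  `(tactic| simp only [U.mul_a1, U.mul_b2, U.mul_a2, U.mul_a3, U.mul_b4, U.mul_a4, U.mul_a5, U.mul_b6, U.mul_a6, U.mul_a7, U.mul_b8, U.mul_a8, U.inv_a1, U.inv_b2, U.inv_a2, U.inv_a3, U.inv_b4, U.inv_a4, U.inv_a5, U.inv_b6, U.inv_a6, U.inv_a7, U.inv_b8, U.inv_a8, U.one_a1, U.one_b2, U.one_a2, U.one_a3, U.one_b4, U.one_a4, U.one_a5, U.one_b6, U.one_a6, U.one_a7, U.one_b8, U.one_a8, x1, y2, x2, x3, y4, x4, x5, y6, x6, x7, y8, x8, w8, w1, sc, mem_Q, mem_E, mem_O, mem_D, mem_V, mem_A, mem_Y, mem_R, mem_W, mem_Z, mem_Z6, mem_Tc, mem_Td, mem_Te, mem_U1, mem_U4, mem_U8,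
    U.ext_iff, commutatorElement_def, map_zero, mul_zero, zero_mul, add_zero, zero_add, map_one,
    mul_one, one_mul, one_pow, ne_eq, OfNat.ofNat_ne_zero, not_false_eq_true, zero_pow, true_and,
    and_true, and_self] $(loc)?)

set_option maxRecDepth 4000 in
theorem nf (g : U T) : g = x1 T g.a1 * y2 T g.b2 * x2 T g.a2 * x3 T g.a3 * y4 T g.b4 * x4 T g.a4 * x5 T g.a5 * y6 T g.b6 * x6 T g.a6 * x7 T g.a7 * y8 T g.b8 * x8 T g.a8 := by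
  ext <;> o8s

theorem w8_mul {g k : U T} (hg : g ∈ Q T) (hk : k ∈ Q T) : w8 (g * k) = w8 g * w8 k := by
  obtain ⟨h1, h2⟩ := hg
  obtain ⟨k1, k2⟩ := hk
  ext <;> o8s <;> (try simp only [h1, h2, k1, k2]) <;> o8ring T

theorem w8_w8 {g : U T} (hg : g ∈ Q T) : w8 (w8 g) = g := by
  obtain ⟨h1, h2⟩ := hg
  ext <;> o8s <;> (try simp only [h1, h2]) <;> o8ring T

theorem w8_mem (g : U T) : w8 g ∈ Q T := ⟨rfl, rfl⟩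

theorem w1_mul {g k : U T} (hg : g ∈ E T) (hk : k ∈ E T) : w1 (g * k) = w1 g * w1 k := by
  rw [mem_E] at hg hk
  ext <;> o8s <;> (try simp only [hg, hk]) <;> o8ring T

theorem w1_w1 {g : U T} (hg : g ∈ E T) : w1 (w1 g) = g := by
  rw [mem_E] at hg
  ext <;> o8s <;> (try simp only [hg]) <;> o8ring T

theorem w1_mem (g : U T) : w1 g ∈ E T := rfl

theorem sc_mul {a b a' b' : K} (ha : a * a' = 1) (hb : b * b' = 1) (g k : U T) :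
    sc a b a' b' (g * k) = sc a b a' b' g * sc a b a' b' k := by
  have ha' : T.θ a * T.θ a' = 1 := by rw [← map_mul, ha, map_one]
  have hb' : T.θ b * T.θ b' = 1 := by rw [← map_mul, hb, map_one]
  ext <;> o8s <;> o8ring T

theorem sc_sc (a b a' b' c d c' d' : K) (g : U T) :
    sc a b a' b' (sc c d c' d' g) = sc (a * c) (b * d) (a' * c') (b' * d') g := by
  ext <;> simp only [sc, map_mul] <;> ring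

theorem sc_one (g : U T) : sc 1 1 1 1 g = g := by
  ext <;> simp [sc]

variable (T) in
/-- The action of the torus. -/
def tor : Kˣ × Kˣ →* MulAut (U T) where
  toFun c :=
    { toFun := sc c.1 c.2 c.1⁻¹ c.2⁻¹
      invFun := sc c.1⁻¹ c.2⁻¹ c.1 c.2
      left_inv := fun g => by simp [sc_sc, sc_one]
      right_inv := fun g => by simp [sc_sc, sc_one]
      map_mul' := sc_mul (by simp) (by simp) }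
  map_one' := MulEquiv.ext fun g => by simp [sc_one]
  map_mul' c d := MulEquiv.ext fun g => by simp [sc_sc, mul_comm]

theorem tor_apply (c : Kˣ × Kˣ) (g : U T) : 
    tor T c g = sc (c.1 : K) c.2 (c.1 : K)⁻¹ (c.2 : K)⁻¹ g := rfl

/-- The coordinates as a tuple. -/
def coordEquiv : U T ≃ (Fin 12 → K) where
  toFun g := ![g.a1, g.b2, g.a2, g.a3, g.b4, g.a4, g.a5, g.b6, g.a6, g.a7, g.b8, g.a8]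
  invFun f := ⟨f 0, f 1, f 2, f 3, f 4, f 5, f 6, f 7, f 8, f 9, f 10, f 11⟩
  left_inv _ := rfl
  right_inv f := by funext i; fin_cases i <;> rfl

instance instFiniteO8 [Finite K] : Finite (U T) := Finite.of_equiv _ coordEquiv.symm

theorem card_U : Nat.card (U T) = Nat.card K ^ 12 := by
  rw [Nat.card_congr coordEquiv, Nat.card_fun, Nat.card_eq_fintype_card (α := Fin 12), Fintype.card_fin]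

theorem card_Q : Nat.card (Q T) = Nat.card K ^ 10 := by
  let e : Q T ≃ (Fin 10 → K) :=
    { toFun := fun g => ![g.1.a1, g.1.b2, g.1.a2, g.1.a3, g.1.b4, g.1.a4, g.1.a5, g.1.b6, g.1.a6, g.1.a7]
      invFun := fun f => ⟨⟨f 0, f 1, f 2, f 3, f 4, f 5, f 6, f 7, f 8, f 9, 0, 0⟩, by simp [mem_Q]⟩
      left_inv := fun ⟨g, ⟨h0, h1⟩⟩ => by
        refine Subtype.ext ?_
        ext <;> first | rfl | exact Eq.symm ‹_›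
      right_inv := fun f => by funext i; fin_cases i <;> rfl }
  rw [Nat.card_congr e, Nat.card_fun, Nat.card_eq_fintype_card (α := Fin 10), Fintype.card_fin]

theorem card_E : Nat.card (E T) = Nat.card K ^ 11 := by
  let e : E T ≃ (Fin 11 → K) :=
    { toFun := fun g => ![g.1.b2, g.1.a2, g.1.a3, g.1.b4, g.1.a4, g.1.a5, g.1.b6, g.1.a6, g.1.a7, g.1.b8, g.1.a8]
      invFun := fun f => ⟨⟨0, f 0, f 1, f 2, f 3, f 4, f 5, f 6, f 7, f 8, f 9, f 10⟩, by simp [mem_E]⟩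
      left_inv := fun ⟨g, (h0 : g.a1 = 0)⟩ => by
        refine Subtype.ext ?_
        ext <;> first | rfl | exact Eq.symm ‹_›
      right_inv := fun f => by funext i; fin_cases i <;> rfl }
  rw [Nat.card_congr e, Nat.card_fun, Nat.card_eq_fintype_card (α := Fin 11), Fintype.card_fin]

theorem card_O : Nat.card (O T) = Nat.card K ^ 9 := by
  let e : O T ≃ (Fin 9 → K) :=
    { toFun := fun g => ![g.1.a2, g.1.a3, g.1.b4, g.1.a4, g.1.a5, g.1.b6, g.1.a6, g.1.a7, g.1.a8]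
      invFun := fun f => ⟨⟨0, 0, f 0, f 1, f 2, f 3, f 4, f 5, f 6, f 7, 0, f 8⟩, by simp [mem_O]⟩
      left_inv := fun ⟨g, ⟨h0, h1, h2⟩⟩ => by
        refine Subtype.ext ?_
        ext <;> first | rfl | exact Eq.symm ‹_›
      right_inv := fun f => by funext i; fin_cases i <;> rfl }
  rw [Nat.card_congr e, Nat.card_fun, Nat.card_eq_fintype_card (α := Fin 9), Fintype.card_fin]

theorem card_D : Nat.card (D T) = Nat.card K ^ 6 := by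
  let e : D T ≃ (Fin 6 → K) :=
    { toFun := fun g => ![g.1.a2, g.1.a3, g.1.b4, g.1.a4, g.1.a5, g.1.a6]
      invFun := fun f => ⟨⟨0, 0, f 0, f 1, f 2, f 3, f 4, 0, f 5, 0, 0, 0⟩, by simp [mem_D]⟩
      left_inv := fun ⟨g, ⟨h0, h1, h2, h3, h4, h5⟩⟩ => by
        refine Subtype.ext ?_
        ext <;> first | rfl | exact Eq.symm ‹_›
      right_inv := fun f => by funext i; fin_cases i <;> rfl }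
  rw [Nat.card_congr e, Nat.card_fun, Nat.card_eq_fintype_card (α := Fin 6), Fintype.card_fin]

theorem card_V : Nat.card (V T) = Nat.card K ^ 5 := by
  let e : V T ≃ (Fin 5 → K) :=
    { toFun := fun g => ![g.1.a2, g.1.a3, g.1.a4, g.1.a5, g.1.a6]
      invFun := fun f => ⟨⟨0, 0, f 0, f 1, 0, f 2, f 3, 0, f 4, 0, 0, 0⟩, by simp [mem_V]⟩
      left_inv := fun ⟨g, ⟨h0, h1, h2, h3, h4, h5, h6⟩⟩ => by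
        refine Subtype.ext ?_
        ext <;> first | rfl | exact Eq.symm ‹_›
      right_inv := fun f => by funext i; fin_cases i <;> rfl }
  rw [Nat.card_congr e, Nat.card_fun, Nat.card_eq_fintype_card (α := Fin 5), Fintype.card_fin]

theorem card_A : Nat.card (A T) = Nat.card K ^ 5 := by
  let e : A T ≃ (Fin 5 → K) :=
    { toFun := fun g => ![g.1.a4, g.1.a5, g.1.a6, g.1.a7, g.1.a8]
      invFun := fun f => ⟨⟨0, 0, 0, 0, 0, f 0, f 1, 0, f 2, f 3, 0, f 4⟩, by simp [mem_A]⟩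
      left_inv := fun ⟨g, ⟨h0, h1, h2, h3, h4, h5, h6⟩⟩ => by
        refine Subtype.ext ?_
        ext <;> first | rfl | exact Eq.symm ‹_›
      right_inv := fun f => by funext i; fin_cases i <;> rfl }
  rw [Nat.card_congr e, Nat.card_fun, Nat.card_eq_fintype_card (α := Fin 5), Fintype.card_fin]

theorem card_Y : Nat.card (Y T) = Nat.card K ^ 5 := by
  let e : Y T ≃ (Fin 5 → K) :=
    { toFun := fun g => ![g.1.a3, g.1.a4, g.1.a5, g.1.a6, g.1.a7]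
      invFun := fun f => ⟨⟨0, 0, 0, f 0, 0, f 1, f 2, 0, f 3, f 4, 0, 0⟩, by simp [mem_Y]⟩
      left_inv := fun ⟨g, ⟨h0, h1, h2, h3, h4, h5, h6⟩⟩ => by
        refine Subtype.ext ?_
        ext <;> first | rfl | exact Eq.symm ‹_›
      right_inv := fun f => by funext i; fin_cases i <;> rfl }
  rw [Nat.card_congr e, Nat.card_fun, Nat.card_eq_fintype_card (α := Fin 5), Fintype.card_fin]

theorem card_R : Nat.card (R T) = Nat.card K ^ 3 := by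
  let e : R T ≃ (Fin 3 → K) :=
    { toFun := fun g => ![g.1.a4, g.1.a5, g.1.a6]
      invFun := fun f => ⟨⟨0, 0, 0, 0, 0, f 0, f 1, 0, f 2, 0, 0, 0⟩, by simp [mem_R]⟩
      left_inv := fun ⟨g, ⟨h0, h1, h2, h3, h4, h5, h6, h7, h8⟩⟩ => by
        refine Subtype.ext ?_
        ext <;> first | rfl | exact Eq.symm ‹_›
      right_inv := fun f => by funext i; fin_cases i <;> rfl }
  rw [Nat.card_congr e, Nat.card_fun, Nat.card_eq_fintype_card (α := Fin 3), Fintype.card_fin]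

theorem card_W : Nat.card (W T) = Nat.card K ^ 2 := by
  let e : W T ≃ (Fin 2 → K) :=
    { toFun := fun g => ![g.1.a4, g.1.a6]
      invFun := fun f => ⟨⟨0, 0, 0, 0, 0, f 0, 0, 0, f 1, 0, 0, 0⟩, by simp [mem_W]⟩
      left_inv := fun ⟨g, ⟨h0, h1, h2, h3, h4, h5, h6, h7, h8, h9⟩⟩ => by
        refine Subtype.ext ?_
        ext <;> first | rfl | exact Eq.symm ‹_›
      right_inv := fun f => by funext i; fin_cases i <;> rfl }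
  rw [Nat.card_congr e, Nat.card_fun, Nat.card_eq_fintype_card (α := Fin 2), Fintype.card_fin]

theorem card_Z : Nat.card (Z T) = Nat.card K ^ 1 := by
  let e : Z T ≃ (Fin 1 → K) :=
    { toFun := fun g => ![g.1.a4]
      invFun := fun f => ⟨⟨0, 0, 0, 0, 0, f 0, 0, 0, 0, 0, 0, 0⟩, by simp [mem_Z]⟩
      left_inv := fun ⟨g, ⟨h0, h1, h2, h3, h4, h5, h6, h7, h8, h9, h10⟩⟩ => by
        refine Subtype.ext ?_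
        ext <;> first | rfl | exact Eq.symm ‹_›
      right_inv := fun f => by funext i; fin_cases i <;> rfl }
  rw [Nat.card_congr e, Nat.card_fun, Nat.card_eq_fintype_card (α := Fin 1), Fintype.card_fin]

theorem card_Z6 : Nat.card (Z6 T) = Nat.card K ^ 1 := by
  let e : Z6 T ≃ (Fin 1 → K) :=
    { toFun := fun g => ![g.1.a6]
      invFun := fun f => ⟨⟨0, 0, 0, 0, 0, 0, 0, 0, f 0, 0, 0, 0⟩, by simp [mem_Z6]⟩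
      left_inv := fun ⟨g, ⟨h0, h1, h2, h3, h4, h5, h6, h7, h8, h9, h10⟩⟩ => by
        refine Subtype.ext ?_
        ext <;> first | rfl | exact Eq.symm ‹_›
      right_inv := fun f => by funext i; fin_cases i <;> rfl }
  rw [Nat.card_congr e, Nat.card_fun, Nat.card_eq_fintype_card (α := Fin 1), Fintype.card_fin]

theorem card_Tc : Nat.card (Tc T) = Nat.card K ^ 10 := by
  let e : Tc T ≃ (Fin 10 → K) :=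
    { toFun := fun g => ![g.1.a1, g.1.a2, g.1.a3, g.1.b4, g.1.a4, g.1.a5, g.1.b6, g.1.a6, g.1.a7, g.1.a8]
      invFun := fun f => ⟨⟨f 0, 0, f 1, f 2, f 3, f 4, f 5, f 6, f 7, f 8, 0, f 9⟩, by simp [mem_Tc]⟩
      left_inv := fun ⟨g, ⟨h0, h1⟩⟩ => by
        refine Subtype.ext ?_
        ext <;> first | rfl | exact Eq.symm ‹_›
      right_inv := fun f => by funext i; fin_cases i <;> rfl }
  rw [Nat.card_congr e, Nat.card_fun, Nat.card_eq_fintype_card (α := Fin 10), Fintype.card_fin]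

theorem card_Td : Nat.card (Td T) = Nat.card K ^ 8 := by
  let e : Td T ≃ (Fin 8 → K) :=
    { toFun := fun g => ![g.1.a3, g.1.a4, g.1.a5, g.1.b6, g.1.a6, g.1.a7, g.1.b8, g.1.a8]
      invFun := fun f => ⟨⟨0, 0, 0, f 0, 0, f 1, f 2, f 3, f 4, f 5, f 6, f 7⟩, by simp [mem_Td]⟩
      left_inv := fun ⟨g, ⟨h0, h1, h2, h3⟩⟩ => by
        refine Subtype.ext ?_
        ext <;> first | rfl | exact Eq.symm ‹_›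
      right_inv := fun f => by funext i; fin_cases i <;> rfl }
  rw [Nat.card_congr e, Nat.card_fun, Nat.card_eq_fintype_card (α := Fin 8), Fintype.card_fin]

theorem card_Te : Nat.card (Te T) = Nat.card K ^ 8 := by
  let e : Te T ≃ (Fin 8 → K) :=
    { toFun := fun g => ![g.1.b4, g.1.a4, g.1.a5, g.1.b6, g.1.a6, g.1.a7, g.1.b8, g.1.a8]
      invFun := fun f => ⟨⟨0, 0, 0, 0, f 0, f 1, f 2, f 3, f 4, f 5, f 6, f 7⟩, by simp [mem_Te]⟩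
      left_inv := fun ⟨g, ⟨h0, h1, h2, h3⟩⟩ => by
        refine Subtype.ext ?_
        ext <;> first | rfl | exact Eq.symm ‹_›
      right_inv := fun f => by funext i; fin_cases i <;> rfl }
  rw [Nat.card_congr e, Nat.card_fun, Nat.card_eq_fintype_card (α := Fin 8), Fintype.card_fin]

theorem card_U1 : Nat.card (U1 T) = Nat.card K ^ 1 := by
  let e : U1 T ≃ (Fin 1 → K) :=
    { toFun := fun g => ![g.1.a1]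
      invFun := fun f => ⟨⟨f 0, 0, 0, 0, 0, 0, 0, 0, 0, 0, 0, 0⟩, by simp [mem_U1]⟩
      left_inv := fun ⟨g, ⟨h0, h1, h2, h3, h4, h5, h6, h7, h8, h9, h10⟩⟩ => by
        refine Subtype.ext ?_
        ext <;> first | rfl | exact Eq.symm ‹_›
      right_inv := fun f => by funext i; fin_cases i <;> rfl }
  rw [Nat.card_congr e, Nat.card_fun, Nat.card_eq_fintype_card (α := Fin 1), Fintype.card_fin]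

theorem card_U4 : Nat.card (U4 T) = Nat.card K ^ 2 := by
  let e : U4 T ≃ (Fin 2 → K) :=
    { toFun := fun g => ![g.1.b4, g.1.a4]
      invFun := fun f => ⟨⟨0, 0, 0, 0, f 0, f 1, 0, 0, 0, 0, 0, 0⟩, by simp [mem_U4]⟩
      left_inv := fun ⟨g, ⟨h0, h1, h2, h3, h4, h5, h6, h7, h8, h9⟩⟩ => by
        refine Subtype.ext ?_
        ext <;> first | rfl | exact Eq.symm ‹_›
      right_inv := fun f => by funext i; fin_cases i <;> rfl }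
  rw [Nat.card_congr e, Nat.card_fun, Nat.card_eq_fintype_card (α := Fin 2), Fintype.card_fin]

theorem card_U8 : Nat.card (U8 T) = Nat.card K ^ 2 := by
  let e : U8 T ≃ (Fin 2 → K) :=
    { toFun := fun g => ![g.1.b8, g.1.a8]
      invFun := fun f => ⟨⟨0, 0, 0, 0, 0, 0, 0, 0, 0, 0, f 0, f 1⟩, by simp [mem_U8]⟩
      left_inv := fun ⟨g, ⟨h0, h1, h2, h3, h4, h5, h6, h7, h8, h9⟩⟩ => by
        refine Subtype.ext ?_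
        ext <;> first | rfl | exact Eq.symm ‹_›
      right_inv := fun f => by funext i; fin_cases i <;> rfl }
  rw [Nat.card_congr e, Nat.card_fun, Nat.card_eq_fintype_card (α := Fin 2), Fintype.card_fin]

theorem isPGroup_U [Finite K] : IsPGroup 2 (U T) := by
  have := T.charP
  have := Fintype.ofFinite K
  obtain ⟨n, -, h⟩ := FiniteField.card K 2
  exact IsPGroup.of_card (n := n * 12) (by rw [card_U, Nat.card_eq_fintype_card, h, pow_mul])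

end Cfsg.Agent.H15.O8
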