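import Mathlib
import Cfsg.Agent.H8.Fusion
import Cfsg.Agent.H11.Frobenius
import Cfsg.Agent.H64.AppAB
import Cfsg.Agent.H67.MinSimple
import Cfsg.Agent.H15.CN2

/-!
# Minimal simple CN-groups of odd order: the local structure
-/

set_option autoImplicit false

namespace Cfsg.Agent.H15

open Cfsg Subgroup
open scoped commutatorElement Pointwise

variable {G : Type*} [Group G]

theorem cn_pclosed_or_threeStep [Finite G] [Group.IsSolvable G] (hCN : IsCNGroup G) {p : ℕ}
    [hp : Fact p.Prime] (h : pCore p G ≠ ⊥) :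
    ¬ p ∣ (pCore p G).index ∨ (pPrimeCore p G = ⊥ ∧ IsThreeStepGroup p G) := by
  have hd : p ∣ Nat.card (fittingSubgroup G) :=
    (H1.dvd_card_of_isPGroup_of_ne_bot hp.out (H3.pCore_isPGroup p G) h).trans
      (card_dvd_of_le H3.pCore_le_fitting)
  rcases cn_fitting_hall_or_threeStep hCN with h1 | ⟨q, hq, h1, h2⟩
  · left
    rw [← relIndex_mul_index (H3.pCore_le_fitting (G := G) (p := p))]
    exact hp.out.not_dvd_mul H3.not_dvd_relIndex_pCore_fitting fun h2 =>
      hp.out.not_dvd_one (h1 ▸ Nat.dvd_gcd hd h2)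
  · right
    obtain rfl : p = q := H1.eq_of_prime_dvd_card_of_isPGroup hq hp.out (H3.pCore_isPGroup q G)
      (h1 ▸ hd)
    refine ⟨?_, h2⟩
    rw [← H3.pCore_inf_pPrimeCore p G, eq_comm, inf_eq_right]
    refine H3.pPrimeCore_le_centralizer_pCore p G |>.trans ?_
    rw [← h1]
    exact H3.centralizer_fitting_le G

theorem threeStep_dvd_index {p : ℕ} (h : IsThreeStepGroup p G) : p ∣ (pCore p G).index := by
  obtain ⟨-, A, -, -, -, -, -, h1, ⟨n, hn⟩, -⟩ := h
  refine Dvd.dvd.trans ?_ (index_dvd_of_le (le_sup_left : pCore p G ≤ pCore p G ⊔ A))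
  rw [hn]
  refine dvd_pow_self p ?_
  rintro rfl
  exact h1 (index_eq_one.1 hn)

theorem threeStep_pResidual_ne_top {p : ℕ} (h : IsThreeStepGroup p G) : pResidual p G ≠ ⊤ := by
  obtain ⟨-, A, -, -, -, -, _, h1, ⟨n, hn⟩, -⟩ := h
  exact fun h2 => h1 (top_le_iff.1 (h2 ▸ H8.pResidual_le_of_index_eq_pow hn))

theorem cn_centralizer_le_fitting [Finite G] [Group.IsSolvable G] (hCN : IsCNGroup G)
    (h : (Nat.card (fittingSubgroup G)).Coprime (fittingSubgroup G).index) {f x : G}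
    (hf : f ∈ fittingSubgroup G) (hf1 : f ≠ 1) (hx : x * f = f * x) : x ∈ fittingSubgroup G := by
  have := H3.fitting_normal G
  have : Nontrivial G := ⟨⟨f, 1, hf1⟩⟩
  obtain ⟨u, v, -, ⟨j, hj⟩, huv, ⟨k, hk⟩, hv⟩ :=
    exists_mul_coprime_part (Nat.card (fittingSubgroup G)) x
  have hv1 : v = 1 := by
    by_contra hv1
    simp only at hj
    exact hf1 ((cn_fpf_fitting hCN (E := zpowers v) (by rwa [Nat.card_zpowers])).eq_one
      (mem_zpowers v) hv1 hf (hj ▸ (Commute.zpow_left hx j : Commute _ _)))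
  rw [huv, hv1, mul_one]
  exact mem_of_pow_card_pow_eq_one h (le_normalizer_of_normal (mem_top u)) hk

/-- A solvable CN-group which is a three-step group for an arbitrary number `p` is one for a
prime. -/
theorem cn_threeStep_prime [Finite G] [Group.IsSolvable G] (hCN : IsCNGroup G) {p : ℕ}
    (h : IsThreeStepGroup p G) : ∃ q : ℕ, q.Prime ∧ IsThreeStepGroup q G := by
  rcases cn_fitting_hall_or_threeStep hCN with hH | ⟨q, hq, -, h2⟩
  swap
  · exact ⟨q, hq, h2⟩
  exfalso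
  obtain ⟨h1, A, hA1, hAc, -, -, hn, hne, -, hf, hq⟩ := h
  have hFn := H3.fitting_normal G
  have hAH : Fpf A (pCore p G) := ⟨le_normalizer_of_normal, h1, hf⟩
  obtain ⟨V, r, -, hV, hV1, hVH, hVe, -⟩ :=
    H3.exists_minimal_normal_elementary_le (pCore p G) inferInstance h1
  have := hVe.1
  obtain ⟨z, hz, hz1, hzc⟩ := exists_central_of_nilpotent (H3.fitting_isNilpotent G)
    (H3.le_fitting_of_isMulCommutative (N := V)) le_normalizer_of_normal hV1
  have hAF : ∀ a ∈ A, a ≠ 1 → a ∉ fittingSubgroup G := fun a ha ha1 haF =>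
    hz1 (hAH.eq_one ha ha1 (hVH hz) (hzc a haF))
  have : Nontrivial G := ⟨⟨z, 1, hz1⟩⟩
  have hAF' : Fpf A (fittingSubgroup G) := Fpf.of_forall le_normalizer_of_normal
    (H3.fitting_ne_bot G) fun a ha ha1 k hk hc => by
      by_contra hk1
      exact hAF a ha ha1 (cn_centralizer_le_fitting hCN hH hk hk1 hc)
  have hFA : ⁅fittingSubgroup G, A⁆ = fittingSubgroup G := by
    have h2 := H4.commutator_sup_centralizer hAF'.norm hAF'.coprime (Or.inl inferInstance)
    obtain ⟨a, ha, ha1⟩ := (Subgroup.bot_or_exists_ne_one _).resolve_left hA1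
    rwa [eq_bot_iff.2 (show fittingSubgroup G ⊓ centralizer (A : Set G) ≤ ⊥ from fun k hk =>
      mem_bot.2 (hAF'.eq_one ha ha1 hk.1 (mem_centralizer_iff.1 hk.2 a ha))), sup_bot_eq] at h2
  have hF1 : fittingSubgroup G ≤ pCore p G ⊔ A :=
    hFA ▸ (commutator_mono le_rfl le_sup_right).trans (commutator_le_right _ _)
  have hF2 : fittingSubgroup G ≤ pCore p G := by
    rw [← hFA, commutator_le]
    intro f hf a ha
    have h3 : f ∈ ((pCore p G ⊔ A : Subgroup G) : Set G) := hF1 hf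
    rw [normal_mul] at h3
    obtain ⟨u, hu, b, hb, rfl⟩ := h3
    letI := hAc.commGroup
    have h4 : b * a = a * b := congrArg Subtype.val (mul_comm (⟨b, hb⟩ : A) ⟨a, ha⟩)
    have h5 : ⁅u * b, a⁆ = u * (a * u⁻¹ * a⁻¹) := by
      rw [commutatorElement_def, mul_assoc u, h4]; group
    change ⁅u * b, a⁆ ∈ _
    rw [h5]
    exact mul_mem hu ((pCore_normal p G).conj_mem _ (inv_mem hu) a)
  have hQ : Group.IsNilpotent (G ⧸ pCore p G) := by
    obtain ⟨E, hE⟩ := exists_right_complement'_of_coprime hH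
    have := (cn_fpf_fitting hCN (E := E)
      (by rw [← hE.symm.index_eq_card]; exact hH.symm)).nilpotent hCN
    refine Group.nilpotent_of_surjective ((QuotientGroup.mk' (pCore p G)).comp E.subtype)
      fun x => ?_
    obtain ⟨x, rfl⟩ := QuotientGroup.mk_surjective x
    obtain ⟨⟨u, e⟩, rfl⟩ := hE.2 x
    exact ⟨e, by simp [(QuotientGroup.eq_one_iff (u : G)).2 (hF2 u.2)]⟩
  have hAn : (A.map (QuotientGroup.mk' (pCore p G))).Normal := by
    have := hn.map (QuotientGroup.mk' (pCore p G)) (QuotientGroup.mk'_surjective _)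
    rwa [Subgroup.map_sup, QuotientGroup.map_mk'_self, bot_sup_eq] at this
  obtain ⟨w, ⟨⟨a, ha, rfl⟩, hwc⟩, hw1⟩ := (Subgroup.bot_or_exists_ne_one _).resolve_left
    (H3.inf_center_ne_bot (A.map (QuotientGroup.mk' (pCore p G))) (fun h2 => by
      obtain ⟨a, ha, ha1⟩ := (Subgroup.bot_or_exists_ne_one _).resolve_left hA1
      rw [Subgroup.map_eq_bot_iff, QuotientGroup.ker_mk'] at h2
      exact ha1 (hAH.eq_one ha ha1 (h2 ha) rfl)))
  obtain ⟨x, -, hx⟩ := SetLike.exists_of_lt (lt_top_iff_ne_top.2 hne)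
  refine hq x hx a ha (fun h => hw1 (by rw [h, map_one])) ?_
  rw [← QuotientGroup.eq_one_iff]
  exact commutatorElement_eq_one_iff_mul_comm.2 (mem_center_iff.1 hwc (x : G ⧸ pCore p G))

theorem conj_smul_pZL (g : G) (S : Subgroup G) :
    MulAut.conj g • H64.pZL S = H64.pZL (MulAut.conj g • S) :=
  H64.map_pZL (MulAut.conj g).toMonoidHom (MulAut.conj g).injective S

theorem eq_Op_of_not_dvd [Finite G] {p : ℕ} [Fact p.Prime] {T M : Subgroup G}
    (hT : H8.IsSylowIn p T M) (h : ¬ p ∣ (pCore p M).index) : T = H1.Op p M := by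
  have h1 : H8.IsSylowIn p (H1.Op p M) M := ⟨H1.Op_le, H1.Op_isPGroup, by
    rwa [relIndex, H1.Op, subgroupOf, comap_map_eq_self_of_injective M.subtype_injective]⟩
  exact h1.eq_of_le hT.isPGroup hT.le
    (hT.le_of_le_normalizer H1.Op_isPGroup H1.Op_le (hT.le.trans H1.le_normalizer_Op))

theorem pCore_ne_bot_of_normalizer {p : ℕ} {W : Subgroup G} (hW : IsPGroup p W) (h : W ≠ ⊥) :
    pCore p (normalizer (W : Set G)) ≠ ⊥ := fun h1 => h (le_bot_iff.1 (by
  have := H1.le_Op (L := normalizer (W : Set G)) hW le_normalizer le_rfl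
  rwa [H1.Op, h1, Subgroup.map_bot] at this))

section MinSimple

variable [Finite G] (hG : IsMinSimpleOddOrder G) (hCN : IsCNGroup G)
include hG hCN

theorem cn_pZL_eq {p : ℕ} [hp : Fact p.Prime] (D : Subgroup G) (hD : D ≠ ⊥) :
    ∀ P Q : Subgroup G, H8.IsSylowIn p P ⊤ → H8.IsSylowIn p Q ⊤ → D ≤ P → D ≤ Q →
      H64.pZL P = H64.pZL Q := by
  induction D using WellFoundedGT.induction with
  | ind D ih =>
  have ih' : ∀ T : Subgroup G, D < T → ∀ P Q : Subgroup G, H8.IsSylowIn p P ⊤ →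
      H8.IsSylowIn p Q ⊤ → T ≤ P → T ≤ Q → H64.pZL P = H64.pZL Q :=
    fun T hT => ih T hT (ne_bot_of_gt hT)
  have inner : ∀ T : Subgroup G, D < T → ∀ M U : Subgroup G, M ≠ ⊤ → pCore p M ≠ ⊥ →
      H8.IsSylowIn p T M → H8.IsSylowIn p U M → D < U → ∀ P Q : Subgroup G,
      H8.IsSylowIn p P ⊤ → H8.IsSylowIn p Q ⊤ → T ≤ P → U ≤ Q → H64.pZL P = H64.pZL Q := by
    intro T
    induction T using WellFoundedGT.induction with
    | ind T ihT =>
    intro hDT M U hM hO hT hU hDU P Q hP hQ hTP hUQ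
    have := H67.mFT_sol hG hM
    rcases cn_pclosed_or_threeStep (cn_subgroup hCN M) hO with h1 | ⟨h1, -⟩
    · rw [(eq_Op_of_not_dvd hU h1).trans (eq_Op_of_not_dvd hT h1).symm] at hUQ
      exact ih' T hDT P Q hP hQ hTP hUQ
    have hn : M ≤ normalizer (H64.pZL T : Set G) := by
      have h2 : (H64.pZL (T.subgroupOf M)).Normal :=
        H64.pZL_sylow_normal (H67.mFT_odd hG M) h1 hT.toSylow
      rw [← H64.map_subtype_pZL_subgroupOf hT.le]
      refine le_trans ?_ (le_normalizer_map _)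
      rw [normalizer_eq_top_iff.2 h2, ← MonoidHom.range_eq_map, range_subtype]
    by_cases hTP' : T = P
    · subst hTP'
      obtain ⟨m, hm, rfl⟩ := hT.exists_conj_eq hU
      have h3 := hP.conj_smul_of_mem_normalizer (g := m) (le_normalizer (mem_top _))
      rw [h3.eq_of_le hQ.isPGroup le_top hUQ, ← conj_smul_pZL,
        H8.mem_normalizer_iff_conj_smul_eq.1 (hn hm)]
    have hlt := H8.lt_inf_normalizer_of_lt hP.isPGroup (lt_of_le_of_ne hTP hTP')
    have hWp : IsPGroup p (H64.pZL T) := hT.isPGroup.to_le (H64.pZL_le T)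
    have := hT.isPGroup.isNilpotent
    have hW1 : H64.pZL T ≠ ⊥ := H64.pZL_ne_bot T (ne_bot_of_gt hDT)
    obtain ⟨T', hT', hTT'⟩ := H8.exists_isSylowIn_ge
      (hP.isPGroup.to_inf_left (K := normalizer (T : Set G)))
      (inf_le_right.trans (H64.normalizer_le_normalizer_pZL T))
    obtain ⟨U', hU', hUU'⟩ := H8.exists_isSylowIn_ge hU.isPGroup (hU.le.trans hn)
    obtain ⟨P', hP', hTP''⟩ := H8.exists_isSylowIn_ge hT'.isPGroup le_top
    obtain ⟨Q', hQ', hUQ''⟩ := H8.exists_isSylowIn_ge hU'.isPGroup le_top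
    rw [ih' T hDT P P' hP hP' hTP ((hlt.le.trans hTT').trans hTP''),
      ih' U hDU Q Q' hQ hQ' hUQ (hUU'.trans hUQ'')]
    exact ihT T' (hlt.trans_le hTT') (hDT.trans (hlt.trans_le hTT')) _ U'
      (H67.mFT_norm_proper hG hW1 (H67.mFT_pgroup_proper hG hp.out hWp))
      (pCore_ne_bot_of_normalizer hWp hW1) hT' hU' (hDU.trans_le hUU') P' Q' hP' hQ' hTP'' hUQ''
  intro P Q hP hQ hDP hDQ
  by_cases hPQ : P = Q
  · rw [hPQ]
  have hDp : IsPGroup p D := hP.isPGroup.to_le hDP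
  have h1 : D < P := lt_of_le_of_ne hDP fun h =>
    hPQ (hP.eq_of_le hQ.isPGroup le_top (h ▸ hDQ)).symm
  have h2 : D < Q := lt_of_le_of_ne hDQ fun h =>
    hPQ (hQ.eq_of_le hP.isPGroup le_top (h ▸ hDP))
  have h3 := H8.lt_inf_normalizer_of_lt hP.isPGroup h1
  have h4 := H8.lt_inf_normalizer_of_lt hQ.isPGroup h2
  obtain ⟨T, hT, hT'⟩ := H8.exists_isSylowIn_ge
    (hP.isPGroup.to_inf_left (K := normalizer (D : Set G))) inf_le_right
  obtain ⟨U, hU, hU'⟩ := H8.exists_isSylowIn_ge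
    (hQ.isPGroup.to_inf_left (K := normalizer (D : Set G))) inf_le_right
  obtain ⟨P', hP', hTP⟩ := H8.exists_isSylowIn_ge hT.isPGroup le_top
  obtain ⟨Q', hQ', hUQ⟩ := H8.exists_isSylowIn_ge hU.isPGroup le_top
  rw [ih' _ h3 P P' hP hP' inf_le_left (hT'.trans hTP),
    ih' _ h4 Q Q' hQ hQ' inf_le_left (hU'.trans hUQ)]
  exact inner T (h3.trans_le hT') _ U
    (H67.mFT_norm_proper hG hD (H67.mFT_pgroup_proper hG hp.out hDp))
    (pCore_ne_bot_of_normalizer hDp hD) hT hU (h4.trans_le hU') P' Q' hP' hQ' hTP hUQ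

/-- Sylow subgroups of a minimal simple CN-group of odd order are trivial intersection groups. -/
theorem cn_sylow_eq {p : ℕ} [hp : Fact p.Prime] {P Q : Subgroup G} (hP : H8.IsSylowIn p P ⊤)
    (hQ : H8.IsSylowIn p Q ⊤) (h : P ⊓ Q ≠ ⊥) : P = Q := by
  have hP1 : P ≠ ⊥ := fun h1 => h (by rw [h1, bot_inf_eq])
  have hWp : IsPGroup p (H64.pZL P) := hP.isPGroup.to_le (H64.pZL_le P)
  have := hP.isPGroup.isNilpotent
  have hW1 : H64.pZL P ≠ ⊥ := H64.pZL_ne_bot P hP1
  have hPN : P ≤ normalizer (H64.pZL P : Set G) :=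
    le_normalizer.trans (H64.normalizer_le_normalizer_pZL P)
  have hQN : Q ≤ normalizer (H64.pZL P : Set G) := by
    rw [cn_pZL_eq hG hCN _ h P Q hP hQ inf_le_left inf_le_right]
    exact le_normalizer.trans (H64.normalizer_le_normalizer_pZL Q)
  have := H67.mFT_sol hG (H67.mFT_norm_proper hG hW1 (H67.mFT_pgroup_proper hG hp.out hWp))
  rcases cn_pclosed_or_threeStep (cn_subgroup hCN _) (pCore_ne_bot_of_normalizer hWp hW1) with
    h1 | ⟨-, h1⟩
  · exact (eq_Op_of_not_dvd (hP.mono hPN le_top) h1).trans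
      (eq_Op_of_not_dvd (hQ.mono hQN le_top) h1).symm
  exfalso
  have h2 := H8.sylow_inf_pResidual_eq_of_fusion hP.toSylowTop hPN fun x hx g hg => by
    by_cases hx1 : x = 1
    · exact ⟨1, one_mem _, by simp [hx1]⟩
    refine ⟨g, ?_, rfl⟩
    rw [H8.mem_normalizer_iff_conj_smul_eq, conj_smul_pZL]
    refine cn_pZL_eq hG hCN (zpowers (g * x * g⁻¹)) (by simpa using hx1) _ _
      (hP.conj_smul_of_mem_normalizer (le_normalizer (mem_top _))) hP
      (zpowers_le.2 (H8.conj_mem_conj_smul.2 hx)) (zpowers_le.2 hg)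
  have h3 : pResidual p G = ⊤ := by
    refine (H67.mFT_eq_bot_or_top hG (H8.pResidual_normal p)).resolve_left fun h3 => ?_
    exact H67.mFT_pgroup_proper hG hp.out ((H8.pResidual_eq_bot_iff.1 h3).to_subgroup ⊤) rfl
  rw [h3, inf_top_eq, left_eq_inf] at h2
  refine threeStep_pResidual_ne_top h1 ?_
  rw [← H8.sylow_sup_pResidual (hP.mono hPN le_top).toSylow, right_eq_sup]
  intro x hx
  obtain ⟨y, hy, hxy⟩ := h2 hx
  rwa [← Subtype.ext hxy]

theorem cn_not_threeStep (X : Subgroup G) (p : ℕ) : ¬ IsThreeStepGroup p X := by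
  intro h
  have hX : X ≠ ⊤ := by
    rintro rfl
    obtain ⟨h1, A, -, -, -, -, -, h2, -⟩ := h
    have := H67.mFT_simple hG
    have := (topEquiv (G := G)).isSimpleGroup
    rcases (pCore_normal p (⊤ : Subgroup G)).eq_bot_or_eq_top with h3 | h3
    · exact h1 h3
    · exact h2 (by rw [h3, top_sup_eq])
  have := H67.mFT_sol hG hX
  obtain ⟨q, hq, h⟩ := cn_threeStep_prime (cn_subgroup hCN X) h
  have := Fact.mk hq
  obtain ⟨T, hT⟩ := H8.exists_isSylowIn q X
  obtain ⟨P, hP, hTP⟩ := H8.exists_isSylowIn_ge hT.isPGroup le_top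
  have hO : H1.Op q X ≠ ⊥ := fun h1 =>
    h.1 ((Subgroup.map_eq_bot_iff_of_injective _ X.subtype_injective).1 h1)
  have hOP : H1.Op q X ≤ P := (hT.le_of_le_normalizer H1.Op_isPGroup H1.Op_le
    (hT.le.trans H1.le_normalizer_Op)).trans hTP
  have hXP : X ≤ normalizer (P : Set G) := fun x hx => by
    rw [H8.mem_normalizer_iff_conj_smul_eq]
    refine cn_sylow_eq hG hCN (hP.conj_smul_of_mem_normalizer (le_normalizer (mem_top _))) hP fun h1 => hO ?_
    rw [eq_bot_iff, ← h1]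
    refine le_inf ?_ hOP
    rw [← H8.mem_normalizer_iff_conj_smul_eq.1 (H1.le_normalizer_Op hx)]
    exact Subgroup.pointwise_smul_le_pointwise_smul_iff.2 hOP
  have h1 : T ≤ H1.Op q X := (le_inf hTP hT.le).trans
    (H1.le_Op hP.isPGroup.to_inf_left inf_le_right (H4.le_normalizer_inf hXP le_normalizer))
  refine hT.not_dvd (Dvd.dvd.trans ?_ (relIndex_dvd_of_le_left X h1))
  rw [relIndex, H1.Op, subgroupOf, comap_map_eq_self_of_injective X.subtype_injective]
  exact threeStep_dvd_index h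

theorem MaxNil.eq_of_inf_ne_bot {H K : Subgroup G} (h : MaxNil H) (hK : MaxNil K)
    (hne : H ⊓ K ≠ ⊥) : H = K := by
  obtain ⟨p, hp, hd⟩ := H3.exists_prime_dvd_card hne
  obtain ⟨x, hx, hxp⟩ := H3.exists_mem_orderOf_eq_prime hp hd
  have := Fact.mk hp
  have h1 := hd.trans (card_dvd_of_le inf_le_left)
  have h2 := hd.trans (card_dvd_of_le inf_le_right)
  have := h.nil
  have := hK.nil
  refine h.eq_of_Op_eq hCN hK hp h1 (cn_sylow_eq hG hCN (h.isSylowIn_top hCN hp h1)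
    (hK.isSylowIn_top hCN hp h2) fun h3 => ne_one_of_orderOf_prime (hxp ▸ hp) ?_)
  rw [← mem_bot, ← h3]
  exact ⟨H1.le_Op_of_isNilpotent hp (H1.isPGroup_zpowers_of_orderOf hxp) (zpowers_le.2 hx.1)
    (mem_zpowers x), H1.le_Op_of_isNilpotent hp (H1.isPGroup_zpowers_of_orderOf hxp)
    (zpowers_le.2 hx.2) (mem_zpowers x)⟩

theorem MaxNil.ti {H : Subgroup G} (h : MaxNil H) (g : G) (hg : MulAut.conj g • H ≠ H) :
    H ⊓ MulAut.conj g • H = ⊥ := by
  by_contra hne
  exact hg (h.eq_of_inf_ne_bot hG hCN (h.conj g) hne).symm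

theorem MaxNil.ti' {H : Subgroup G} (h : MaxNil H) {g : G} (hg : g ∉ normalizer (H : Set G))
    {x : G} (hx : x ∈ H) (hx' : g * x * g⁻¹ ∈ H) : x = 1 := by
  have h1 : g * x * g⁻¹ ∈ H ⊓ MulAut.conj g • H := ⟨hx', H8.conj_mem_conj_smul.2 hx⟩
  rw [h.ti hG hCN g (fun h2 => hg (H8.mem_normalizer_iff_conj_smul_eq.2 h2)), mem_bot] at h1
  simpa using h1

theorem MaxNil.centralizer_le {H : Subgroup G} (h : MaxNil H) {x : G} (hx : x ∈ H) (hx1 : x ≠ 1) :
    centralizer {x} ≤ H :=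
  h.centralizer_le_of_ti hCN (h.ti hG hCN) hx hx1

omit hCN in
theorem MaxNil.ne_bot {H : Subgroup G} (h : MaxNil H) : H ≠ ⊥ := by
  rintro rfl
  have := H67.mFT_simple hG
  obtain ⟨x, hx⟩ := exists_ne (1 : G)
  exact hx (by simpa using h.max (zpowers x) (H1.isNilpotent_of_isMulCommutative _) bot_le)

theorem MaxNil.lt_normalizer {H : Subgroup G} (h : MaxNil H) : H < normalizer (H : Set G) := by
  refine lt_of_le_of_ne le_normalizer fun he => ?_
  obtain ⟨M, hM, -, hc⟩ := H11.frobenius_normal_complement H fun g hg x hx hx' =>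
    h.ti' hG hCN (he ▸ hg) hx hx'
  rcases H67.mFT_eq_bot_or_top hG hM with rfl | rfl
  · exact H67.mFT_nil_proper hG h.nil (isComplement'_bot_left.1 hc)
  · exact h.ne_bot hG (isComplement'_top_left.1 hc)

/-- The structure of a non-nilpotent proper subgroup. -/
theorem cn_proper_frobenius {M : Subgroup G} (hM : M ≠ ⊤) (hn : ¬ Group.IsNilpotent M) :
    fittingHallOf M = fittingOf M ∧
      (∀ f ∈ fittingOf M, f ≠ 1 → ∀ x ∈ M, x * f = f * x → x ∈ fittingOf M) ∧
      ∃ E : Subgroup G, IsComplIn (fittingOf M) E M ∧ E ≠ ⊥ ∧ Fpf E (fittingOf M) := by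
  have := H67.mFT_sol hG hM
  have hCM := cn_subgroup hCN M
  have hH := (cn_fitting_hall_or_threeStep hCM).resolve_right
    fun ⟨p, _, _, h⟩ => cn_not_threeStep hG hCN M p h
  obtain ⟨E, hE, hE1, hf⟩ := cn_exists_complement hCM hn hH
  refine ⟨by rw [fittingHallOf, fittingHall_eq_fitting hH]; rfl, ?_, E.map M.subtype,
    ⟨map_subtype_le _, map_subtype_le _, ?_, fun m hm => ?_⟩, fun h => hE1
    ((Subgroup.map_eq_bot_iff_of_injective _ M.subtype_injective).1 h), ?_⟩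
  · rintro _ ⟨f, hf, rfl⟩ hf1 x hx hc
    exact ⟨⟨x, hx⟩, cn_centralizer_le_fitting hCM hH hf (fun h => hf1 (by simp [h]))
      (Subtype.ext hc), rfl⟩
  · rw [fittingOf, ← Subgroup.map_inf _ _ _ M.subtype_injective, hE.disjoint.eq_bot,
      Subgroup.map_bot]
  · obtain ⟨⟨u, e⟩, h⟩ := hE.2 ⟨m, hm⟩
    exact ⟨u, ⟨u, u.2, rfl⟩, e, ⟨e, e.2, rfl⟩, (congrArg Subtype.val h).symm⟩
  · refine Fpf.of_forall ((map_subtype_le _).trans (le_normalizer.trans
      (H3.normalizer_le_normalizer_map_fitting M))) (fun h => hf.ne_bot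
      ((Subgroup.map_eq_bot_iff_of_injective _ M.subtype_injective).1 h)) ?_
    rintro _ ⟨e, he, rfl⟩ he1 _ ⟨k, hk, rfl⟩ hc
    rw [hf.eq_one he (fun h => he1 (by simp [h])) hk (Subtype.ext hc), map_one]

/-- A maximal subgroup containing the normalizer of a maximal nilpotent subgroup. -/
theorem MaxNil.eq_fittingOf {H M : Subgroup G} (h : MaxNil H) (hM : M ≠ ⊤)
    (hle : normalizer (H : Set G) ≤ M) : ¬ Group.IsNilpotent M ∧ H = fittingOf M := by
  have hlt := h.lt_normalizer hG hCN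
  have hn : ¬ Group.IsNilpotent M := fun hn =>
    hlt.not_ge (hle.trans (h.max M hn (hlt.le.trans hle)).le)
  refine ⟨hn, ?_⟩
  obtain ⟨-, hc, E, -, -, hf⟩ := cn_proper_frobenius hG hCN hM hn
  have hMK : M ≤ normalizer (fittingOf M : Set G) :=
    le_normalizer.trans (H3.normalizer_le_normalizer_map_fitting M)
  have hHM := hlt.le.trans hle
  by_cases hHK : H ⊓ fittingOf M = ⊥
  · exfalso
    obtain ⟨x, hx, hx1⟩ := (Subgroup.bot_or_exists_ne_one _).resolve_left (h.ne_bot hG)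
    have h1 : ∀ y ∈ normalizer (H : Set G), y ∈ fittingOf M → y = 1 := fun y hy hyK => by
      by_contra hy1
      have h2 : x * y * x⁻¹ * y⁻¹ ∈ H ⊓ fittingOf M :=
        ⟨by
          rw [mul_assoc, mul_assoc, ← mul_assoc y]
          exact mul_mem hx ((mem_normalizer_iff.1 hy _).1 (inv_mem hx)),
        (fittingOf M).mul_mem ((mem_normalizer_iff.1 (hMK (hHM hx)) _).1 hyK)
          ((fittingOf M).inv_mem hyK)⟩
      rw [hHK, mem_bot, mul_inv_eq_one, mul_inv_eq_iff_eq_mul] at h2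
      have h3 : x ∈ H ⊓ fittingOf M := ⟨hx, hc y hyK hy1 x (hHM hx) h2⟩
      rw [hHK, mem_bot] at h3
      exact hx1 h3
    have h2 : Fpf (normalizer (H : Set G)) (fittingOf M) :=
      Fpf.of_forall (hle.trans hMK) hf.ne_bot fun y hy hy1 k hk hyk => by
        by_contra hk1
        exact hy1 (h1 y hy (hc k hk hk1 y (hle hy) hyk))
    exact hlt.ne' (h.max _ (h2.nilpotent hCN) hlt.le)
  · obtain ⟨K, hK, hle'⟩ := exists_maxNil_ge (H3.map_fitting_isNilpotent M)
    have h1 : H = K := h.eq_of_inf_ne_bot hG hCN hK fun h2 =>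
      hHK (le_bot_iff.1 (h2 ▸ inf_le_inf_left H hle'))
    subst h1
    refine le_antisymm (fun x hx => ?_) hle'
    obtain ⟨z, hz, hz1, hzc⟩ := exists_central_of_nilpotent h.nil hle' (hHM.trans hMK) hf.ne_bot
    exact hc z hz hz1 x (hHM hx) (hzc x hx)

theorem MaxNil.isCoatom_normalizer {H : Subgroup G} (h : MaxNil H) :
    IsCoatom (normalizer (H : Set G)) := by
  obtain ⟨M, hM, hle⟩ := H67.mmax_exists_norm hG (h.ne_bot hG) (H67.mFT_nil_proper hG h.nil)
  have h1 := (h.eq_fittingOf hG hCN hM.1 hle).2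
  have h2 : M ≤ normalizer (H : Set G) := by
    rw [h1]; exact le_normalizer.trans (H3.normalizer_le_normalizer_map_fitting M)
  rwa [le_antisymm hle h2]

theorem cn_coatom {M : Subgroup G} (hM : IsCoatom M) :
    MaxNil (fittingOf M) ∧ normalizer (fittingOf M : Set G) = M ∧ ¬ Group.IsNilpotent M := by
  have := H67.mFT_sol hG hM.1
  have := (Subgroup.nontrivial_iff_ne_bot M).2 (H67.mmax_neq1 hG hM)
  have h1 : fittingOf M ≠ ⊥ := fun h => H3.fitting_ne_bot M
    ((Subgroup.map_eq_bot_iff_of_injective _ M.subtype_injective).1 h)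
  have hMK : M ≤ normalizer (fittingOf M : Set G) :=
    le_normalizer.trans (H3.normalizer_le_normalizer_map_fitting M)
  obtain ⟨K, hK, hle⟩ := exists_maxNil_ge (H3.map_fitting_isNilpotent M)
  have h2 : M ≤ normalizer (K : Set G) := fun m hm => by
    by_contra hm'
    obtain ⟨x, hx, hx1⟩ := (Subgroup.bot_or_exists_ne_one _).resolve_left h1
    exact hx1 (hK.ti' hG hCN hm' (hle hx) (hle ((mem_normalizer_iff.1 (hMK hm) x).1 hx)))
  have h3 : normalizer (K : Set G) = M := H67.mmax_max hM (hK.isCoatom_normalizer hG hCN).1 h2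
  obtain ⟨h4, h5⟩ := hK.eq_fittingOf hG hCN hM.1 h3.le
  exact ⟨h5 ▸ hK, h5 ▸ h3, h4⟩

end MinSimple

end Cfsg.Agent.H15
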