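import Mathlib
import Cfsg.Agent.Lead.T3Defs

/-! Project T3 (S1143), piece QA: a window of root groups gives a pseudo-quadratic space. -/

set_option autoImplicit false

namespace Cfsg.Agent.H15.T3Q

open Cfsg.Agent.Lead.T3 Subgroup

universe u

theorem cj {Γ : Type*} [Group Γ] (g a b : Γ) : g * (a * b) * g⁻¹ = g * a * g⁻¹ * (g * b * g⁻¹) := by
  group

theorem cj3 {Γ : Type*} [Group Γ] (g a b : Γ) :
    g * (a * b * a⁻¹) * g⁻¹ = g * a * g⁻¹ * (g * b * g⁻¹) * (g * a * g⁻¹)⁻¹ := by group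

theorem cjE {Γ : Type*} [Group Γ] (g : Γ) {a b c d : Γ} (e : a * b * a⁻¹ = c * d) :
    g * a * g⁻¹ * (g * b * g⁻¹) * (g * a * g⁻¹)⁻¹ = g * c * g⁻¹ * (g * d * g⁻¹) := by
  rw [← cj3, e, cj]

theorem cjF {Γ : Type*} [Group Γ] (g : Γ) {a b c d f : Γ} (e : a * b * a⁻¹ = c * d * f) :
    g * a * g⁻¹ * (g * b * g⁻¹) * (g * a * g⁻¹)⁻¹ =
      g * c * g⁻¹ * (g * d * g⁻¹) * (g * f * g⁻¹) := by
  rw [cjE g e, cj]

theorem cjc {Γ : Type*} [Group Γ] {a b : Γ} (h : a * b = b * a) : a * b * a⁻¹ = b := by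
  rw [h, mul_inv_cancel_right]

theorem zero_of_add {F Γ : Type*} [AddGroup F] [Group Γ] {x : F → Γ}
    (h : ∀ s t, x (s + t) = x s * x t) : x 0 = 1 := by
  have := h 0 0
  rw [add_zero] at this
  exact left_eq_mul.1 this

theorem qaStmt : QaStmt.{u} := by
  intro F Γ _ _ _ U1 U2 U3 U4 x1 x3 x3' h h' w
  classical
  have m1 : ∀ t, x1 t ∈ U1 := fun t => (w.mem1 _).2 ⟨t, rfl⟩
  have m3 : ∀ t, x3 t ∈ U3 := fun t => (w.mem3 _).2 ⟨t, rfl⟩
  have z1 := zero_of_add w.add1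
  have z3 := zero_of_add w.add3
  have c33 : ∀ s t, Commute (x3 s) (x3 t) := fun s t => by
    rw [Commute, SemiconjBy, ← w.add3, ← w.add3, add_comm]
  have c23 : ∀ {a}, a ∈ U2 → ∀ t, Commute a (x3 t) := fun ha t => w.c23 _ ha _ (m3 t)
  have c34 : ∀ t (y : U4), Commute (x3 t) y := fun t y => w.c34 _ (m3 t) _ y.2
  have uq : ∀ {a b s t}, a ∈ U2 → b ∈ U2 → a * x3 s = b * x3 t → a = b ∧ s = t := by
    intro a b s t ha hb e
    have e1 : b⁻¹ * a = x3 t * (x3 s)⁻¹ := by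
      rw [inv_mul_eq_iff_eq_mul, ← mul_assoc, ← e, mul_inv_cancel_right]
    have e2 : b⁻¹ * a ∈ U2 ⊓ U3 :=
      ⟨U2.mul_mem (U2.inv_mem hb) ha, e1 ▸ U3.mul_mem (m3 t) (U3.inv_mem (m3 s))⟩
    rw [w.i23, mem_bot, inv_mul_eq_one] at e2
    subst e2
    exact ⟨rfl, w.inj3 (mul_left_cancel e)⟩
  have hc : ∀ y : U4, ∃ a ∈ U2, ∃ q, x1 1 * y * (x1 1)⁻¹ = a * x3 q * y := fun y => by
    obtain ⟨a, ha, b, hb, e⟩ := w.c14 _ (m1 1) y y.2
    obtain ⟨q, rfl⟩ := (w.mem3 b).1 hb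
    exact ⟨a, ha, q, by rw [← e, inv_mul_cancel_right]⟩
  choose A hA Q hQ using hc
  have hb : ∀ y y' : U4, ∃ b, (y : Γ) * A y' * (y : Γ)⁻¹ = A y' * x3 b := fun y y' => by
    obtain ⟨b, e⟩ := (w.mem3 _).1 (w.c24 _ (inv_mem (hA y')) y y.2)
    exact ⟨b, by rw [e]; group⟩
  choose Bf hB using hb
  have hmul : ∀ y y', A (y * y') = A y * A y' ∧ Q (y * y') = Q y + Q y' + Bf y y' := fun y y' => by
    refine uq (hA _) (mul_mem (hA y) (hA y')) (mul_right_cancel (b := (y : Γ) * y') ?_)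
    rw [← coe_mul, ← hQ, coe_mul, cj, hQ, hQ, add_right_comm, w.add3, w.add3]
    calc _ = A y * x3 (Q y) * (y * A y' * (y : Γ)⁻¹) * (y * x3 (Q y')) * y' := by group
      _ = A y * (x3 (Q y) * A y') * x3 (Bf y y') * (x3 (Q y') * y) * y' := by
        rw [hB, (c34 _ y).eq]; group
      _ = _ := by rw [← (c23 (hA y') _).eq]; group
  let a : U4 →* Γ := MonoidHom.mk' A fun y y' => (hmul y y').1
  have a1 : A 1 = 1 := a.map_one
  have ainj : Function.Injective A := fun y y' e => by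
    have k : ∀ v : U4, A v = A y → (v : Γ) ∈ U4 ∧
        ∃ c ∈ U3, x1 1 * v * (x1 1)⁻¹ * (v : Γ)⁻¹ = A y * c := fun v e =>
      ⟨v.2, _, m3 (Q v), by rw [hQ, e, mul_inv_cancel_right]⟩
    exact Subtype.ext ((w.bij _ (hA y)).unique (k y rfl) (k y' e.symm))
  have asur : ∀ g ∈ U2, ∃ y, A y = g := fun g hg => by
    obtain ⟨b, ⟨hb, c, hc, e⟩, -⟩ := w.bij g hg
    obtain ⟨q, rfl⟩ := (w.mem3 c).1 hc
    refine ⟨⟨b, hb⟩, (uq (hA _) hg (s := Q ⟨b, hb⟩) (t := q) ?_).1⟩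
    rw [← e, hQ ⟨b, hb⟩, mul_inv_cancel_right]
  have q1 : Q 1 = 0 := by
    have := hQ 1
    rw [coe_one, mul_one, mul_one, mul_inv_cancel, a1, one_mul, ← z3] at this
    exact (w.inj3 this).symm
  have ub : ∀ {y y' : U4} {b}, (y : Γ) * A y' * (y : Γ)⁻¹ = A y' * x3 b → Bf y y' = b :=
    fun {y y' b} e =>
    w.inj3 (mul_left_cancel ((hB y y').symm.trans e))
  have b1 : ∀ y, Bf 1 y = 0 := fun y => ub (by simp [z3])
  have b2 : ∀ y, Bf y 1 = 0 := fun y => ub (by simp [z3, a1])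
  have hz : ∀ t, ∃ y, x1 1 * x3 t * (x1 1)⁻¹ = A y * x3 t := fun t => by
    obtain ⟨y, e⟩ := asur _ (w.c13 _ (m1 1) _ (m3 t))
    exact ⟨y, by rw [e, inv_mul_cancel_right]⟩
  choose z hz using hz
  have uz : ∀ {y t}, x1 1 * x3 t * (x1 1)⁻¹ = A y * x3 t → y = z t := fun {y t} e =>
    ainj (mul_right_cancel (e.symm.trans (hz t)))
  have z0 : z 0 = 1 := (uz (by simp [z3, a1])).symm
  have zc : ∀ t, ∀ g ∈ U2, Commute (A (z t)) g := fun t g hg => by
    have e1 : Commute (x1 1) g := w.c12 _ (m1 1) g hg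
    rw [eq_mul_inv_of_mul_eq (hz t).symm]
    exact ((e1.mul_left (c23 hg t).symm).mul_left e1.inv_left).mul_left (c23 hg t).symm.inv_left
  have hg : ∀ s, ∃ r, x3 r = x3' s := fun s => (w.mem3 _).1 ((w.mem3' _).2 ⟨s, rfl⟩)
  choose g hg using hg
  have gadd : ∀ s t, g (s + t) = g s + g t := fun s t =>
    w.inj3 (by rw [w.add3, hg, hg, hg, w.add3'])
  have ginj : Function.Injective g := fun s t e => w.inj3' (by rw [← hg, ← hg, e])
  have g0 : g 0 = 0 := by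
    have := gadd 0 0
    rw [add_zero] at this
    exact left_eq_add.1 this
  have g1 : g 1 ≠ 0 := fun e => one_ne_zero (ginj (e.trans g0.symm))
  have k3 : ∀ t, t ≠ 0 → ∀ s, h' t * x3 s * (h' t)⁻¹ = x3 (g t / g 1 * s) := fun t ht s => by
    by_cases hs : s = 0
    · simp [hs, z3]
    have := w.hk (s / g 1) t (div_ne_zero hs g1) ht _ (m3 (g 1))
    rw [w.h3 _ (div_ne_zero hs g1), div_mul_cancel₀ _ g1, hg, w.k3 t ht, ← hg,
      w.h3 _ (div_ne_zero hs g1), mul_one] at this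
    rw [← this]
    congr 1
    ring
  have gmul : ∀ t s, g (t * s) = g t / g 1 * g s := fun t s => by
    by_cases ht : t = 0
    · simp [ht, g0]
    exact w.inj3 (by rw [← k3 t ht, hg, hg, w.k3 t ht])
  let σ₀ : F →+* F :=
    { toFun := fun t => g t / g 1
      map_one' := div_self g1
      map_mul' := fun s t => by rw [gmul]; ring
      map_zero' := by simp [g0]
      map_add' := fun s t => by rw [gadd, add_div] }
  let σ : F ≃+* F := RingEquiv.ofBijective σ₀ (Finite.injective_iff_bijective.1 σ₀.injective)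
  have k3' : ∀ t, t ≠ 0 → ∀ s, h' t * x3 s * (h' t)⁻¹ = x3 (σ t * s) := k3
  obtain ⟨sm, s0, hs⟩ : ∃ sm : F → U4 → U4, (∀ y, sm 0 y = 1) ∧
      ∀ t, t ≠ 0 → ∀ y : U4, h' t * y * (h' t)⁻¹ = sm t y :=
    ⟨fun t y => if ht : t = 0 then 1 else ⟨_, w.k4 t ht y y.2⟩, fun y => dif_pos rfl,
      fun t ht y => by simp only [dif_neg ht]⟩
  have n1 : ∀ t, t ≠ 0 → h t * (h' t * x1 1 * (h' t)⁻¹) * (h t)⁻¹ = x1 1 := fun t ht => by
    rw [w.k1 t ht, w.h1 t ht, mul_one, mul_inv_cancel₀ ht]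
  have hsm : ∀ t, t ≠ 0 → ∀ y, h t * A y * (h t)⁻¹ = A (sm t y) ∧ t * (σ t * Q y) = Q (sm t y) := by
    intro t ht y
    refine uq (w.h2 t ht _ (hA y)) (hA _) (mul_right_cancel (b := (sm t y : Γ)) ?_)
    have := cjF (h t) (cjF (h' t) (hQ y))
    rw [n1 t ht, hs t ht, w.h4 t ht _ (sm t y).2, w.k2 t ht _ (hA y), k3' t ht, w.h3 t ht] at this
    rw [← this, hQ]
  have r14 : ∀ s (y : U4), x1 s * y * (x1 s)⁻¹ = A (sm s y) * x3 (s * Q y) * y := fun s y => by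
    by_cases hs0 : s = 0
    · simp [hs0, z1, z3, s0, a1]
    have := cjF (h s) (hQ y)
    rwa [w.h1 s hs0, w.h4 s hs0 _ y.2, mul_one, (hsm s hs0 y).1, w.h3 s hs0] at this
  have r13 : ∀ s t, x1 s * x3 t * (x1 s)⁻¹ = A (z (σ s * t)) * x3 t := fun s t => by
    by_cases hs0 : s = 0
    · simp [hs0, z1, z0, a1]
    have := cjE (h' s⁻¹) (hz (σ s * t))
    rwa [w.k1 _ (inv_ne_zero hs0), w.k2 _ (inv_ne_zero hs0) _ (hA _),
      k3' _ (inv_ne_zero hs0), inv_inv, mul_one, ← mul_assoc (σ s⁻¹), ← map_mul,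
      inv_mul_cancel₀ hs0, map_one, one_mul] at this
  have smm : ∀ t y y', sm t (y * y') = sm t y * sm t y' := fun t y y' => by
    by_cases ht : t = 0
    · simp [ht, s0]
    exact Subtype.ext (by rw [coe_mul, ← hs t ht, ← hs t ht, ← hs t ht, coe_mul, cj])
  have sm1 : ∀ t, sm t 1 = 1 := fun t => by
    have := smm t 1 1
    rw [mul_one] at this
    exact left_eq_mul.1 this
  have us : ∀ {s v} {y : U4}, x1 s * y * (x1 s)⁻¹ = A v * x3 (s * Q y) * y → sm s y = v :=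
    fun {s v y} e => ainj (mul_right_cancel (mul_right_cancel ((r14 s y).symm.trans e)))
  refine ⟨{ σ := σ, sm := sm, Q := Q, Bf := Bf, z := z, sm_mul := smm, sm_one := fun y => ?_
            sm_zero := s0, sm_sm := fun s t y => ?_, sm_add := fun s t y => ?_
            Q_sm := fun t y => ?_, Q_mul := fun y y' => (hmul y y').2, Q_ne := fun y e => ?_
            B_left := fun p q y => ?_, B_right := fun y p q => ?_, B_sml := fun t y y' => ?_
            B_smr := fun t y y' => ?_, B_z := fun y t => ?_, z_add := fun s t => ?_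
            z_comm := fun t y => ?_, sm_z := fun s t => ?_ }, a,
    ⟨w.add1, w.inj1, w.mem1, w.add3, w.inj3, w.mem3, ainj,
      le_antisymm (by rintro _ ⟨y, rfl⟩; exact hA y) asur, fun s y => w.c12 _ (m1 s) _ (hA y),
      fun y t => c23 (hA y) t, c34, r13, hB, r14⟩⟩
  · exact us (by rw [one_mul, hQ])
  · by_cases hs0 : s = 0
    · simp [hs0, s0]
    have := cjF (h s) (r14 t y)
    rw [w.h1 s hs0, w.h4 s hs0 _ y.2, (hsm s hs0 _).1, w.h3 s hs0, ← mul_assoc s] at this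
    exact (us this).symm
  · refine us ?_
    have e : x1 (s + t) * y * (x1 (s + t))⁻¹ = x1 s * (x1 t * y * (x1 t)⁻¹) * (x1 s)⁻¹ := by
      rw [w.add1]; group
    rw [e, r14, cj, cj, cjc (w.c12 _ (m1 s) _ (hA _)), r13, r14, (hmul _ _).1, (hmul _ _).1,
      add_mul, add_comm, w.add3, mul_assoc (σ s)]
    calc _ = A (sm t y) * A (z (σ s * (t * Q y))) * (x3 (t * Q y) * A (sm s y)) *
          x3 (s * Q y) * y := by group
      _ = _ := by rw [← (c23 (hA _) _).eq]; group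
  · by_cases ht : t = 0
    · simp [ht, s0, q1]
    rw [← (hsm t ht y).2, mul_assoc]
  · refine Subtype.ext (w.ne3 _ y.2 ?_)
    rw [hQ, e, z3, mul_one, mul_inv_cancel_right]
    exact hA y
  · refine ub ?_
    have e : ((p * q : U4) : Γ) * A y * ((p * q : U4) : Γ)⁻¹ =
        p * (q * A y * (q : Γ)⁻¹) * (p : Γ)⁻¹ := by rw [coe_mul]; group
    rw [e, hB, cj, hB, cjc (c34 _ p).symm.eq, w.add3, mul_assoc]
  · refine ub ?_
    rw [(hmul p q).1, cj, hB, hB, w.add3]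
    calc _ = A p * (x3 (Bf y p) * A q) * x3 (Bf y q) := by group
      _ = _ := by rw [← (c23 (hA _) _).eq]; group
  · by_cases ht : t = 0
    · simp [ht, s0, b1]
    refine ub ?_
    have := cjE (h' t) (hB y y')
    rwa [hs t ht, w.k2 t ht _ (hA _), k3' t ht] at this
  · by_cases ht : t = 0
    · simp [ht, s0, b2]
    refine ub ?_
    have := cjE (h t) (hB y y')
    rwa [w.h4 t ht _ y.2, (hsm t ht _).1, w.h3 t ht] at this
  · refine ub ?_
    have e1 : (y : Γ) * x1 1 * (y : Γ)⁻¹ = (A y * x3 (Q y))⁻¹ * x1 1 := by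
      rw [eq_mul_inv_of_mul_eq (hQ y).symm]; group
    have e2 : Commute (A y * x3 (Q y)) (A (z t) * x3 t) :=
      ((zc t _ (hA y)).symm.mul_right (c23 (hA y) t)).mul_left
        ((c23 (hA _) _).symm.mul_right (c33 _ _))
    rw [z3, mul_one]
    apply mul_right_cancel (b := x3 t)
    calc _ = y * (A (z t) * x3 t) * (y : Γ)⁻¹ := by rw [cj, cjc (c34 t y).symm.eq]
      _ = (A y * x3 (Q y))⁻¹ * (x1 1 * x3 t * (x1 1)⁻¹) * (A y * x3 (Q y)) := by
        rw [← hz, cj3, e1, cjc (c34 t y).symm.eq]; group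
      _ = _ := by rw [hz, mul_assoc, ← e2.eq, inv_mul_cancel_left]
  · refine (uz ?_).symm
    rw [w.add3, cj, hz, hz, (hmul _ _).1]
    calc _ = A (z s) * (x3 s * A (z t)) * x3 t := by group
      _ = _ := by rw [← (c23 (hA _) _).eq]; group
  · exact ainj (by rw [(hmul _ _).1, (hmul _ _).1, (zc t _ (hA y)).eq])
  · by_cases hs0 : s = 0
    · simp [hs0, s0, z0]
    refine uz ?_
    have := cjE (h s) (cjE (h' s) (hz t))
    rwa [n1 s hs0, w.k2 s hs0 _ (hA _), (hsm s hs0 _).1, k3' s hs0, w.h3 s hs0,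
      ← mul_assoc s] at this

end Cfsg.Agent.H15.T3Q
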