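import Mathlib
import Cfsg.Agent.H92.Kazarin
import Cfsg.Agent.H92.Direct
import Cfsg.Agent.H52.Fitting
import Cfsg.Agent.H1.TwoPrimes
import Cfsg.Agent.H15.Even2

/-!
# Class sizes: three general lemmas
-/

set_option autoImplicit false

namespace Cfsg.Agent.H15

open Subgroup Cfsg.Agent.H92

universe u

variable {G : Type u} [Group G] [Finite G]

theorem orderOf_mul_two_pow {x y : G} (h : Commute x y) (hx : ∃ k, orderOf x = 2 ^ k)
    (hy : ∃ k, orderOf y = 2 ^ k) : ∃ k, orderOf (x * y) = 2 ^ k := by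
  obtain ⟨i, hi⟩ := hx
  obtain ⟨j, hj⟩ := hy
  refine eq_pow_of_dvd_pow Nat.prime_two (k := i + j) ?_
  rw [pow_add, ← hi, ← hj]
  exact h.orderOf_mul_dvd_mul_orderOf

/-- If centralizers of 2-elements are minimal, involution centralizers are abelian. -/
theorem comm_of_fc (h : ∀ u w : G, u ≠ 1 → w ≠ 1 → (∃ k, orderOf w = 2 ^ k) → Ce[u] ≤ Ce[w] →
    Ce[u] = Ce[w]) {t : G} (ht : orderOf t = 2) : ∀ a ∈ Ce[t], ∀ b ∈ Ce[t], a * b = b * a := by
  have ht1 : t ≠ 1 := by rintro rfl; simp at ht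
  have ht2 : t * t = 1 := by rw [← pow_two, ← ht, pow_orderOf_eq_one]
  have htp : ∃ k, orderOf t = 2 ^ k := ⟨1, ht⟩
  have odd : ∀ y ∈ Ce[t], ¬ 2 ∣ orderOf y → Ce[t] ≤ Ce[y] := by
    intro y hy ho
    have hc : Commute t y := mem_C'.mp hy
    have hco := coprime_of_pow_of_not_dvd Nat.prime_two htp ho
    have e := C_mul_of_coprime hc hco
    have h1 : t * y ≠ 1 := by
      intro e1
      apply ho
      rw [eq_inv_of_mul_eq_one_right e1, orderOf_inv, ht]
    have := h (t * y) t h1 ht1 htp (e ▸ inf_le_left)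
    rw [← this, e]
    exact inf_le_right
  have two : ∀ u ∈ Ce[t], (∃ k, orderOf u = 2 ^ k) → ¬ Ce[t] ≤ Ce[u] → u * u = 1 := by
    intro u hu hp hn
    by_contra h2
    apply hn
    have hc : Commute u t := mem_C.mp hu
    have hp2 := orderOf_mul_two_pow (Commute.refl u) hp hp
    have hu1 : u ≠ 1 := by rintro rfl; simp at h2
    have e : u * t * (u * t) = u * u := by
      calc u * t * (u * t) = u * (t * u) * t := by group
        _ = u * u * (t * t) := by rw [← hc.eq]; group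
        _ = u * u := by rw [ht2, mul_one]
    have hut : u * t ≠ 1 := by
      intro e1
      rw [e1, mul_one] at e
      exact h2 e.symm
    have a1 := h u (u * u) hu1 h2 hp2 (by simpa [pow_two] using C_le_C_pow u 2)
    have a2 := h (u * t) (u * u) hut h2 hp2 (by rw [← e]; simpa [pow_two] using C_le_C_pow (u * t) 2)
    have a3 : Ce[u] ≤ Ce[t] := by
      intro g hg
      have b1 : Commute g u := mem_C.mp hg
      have b2 : Commute g (u * t) := mem_C.mp (by rw [a2, ← a1]; exact hg)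
      have : t = u⁻¹ * (u * t) := by group
      rw [mem_C, this]
      exact b1.inv_right.mul_right b2
    exact (h u t hu1 ht1 htp a3).ge
  have twos : ∀ u ∈ Ce[t], ∀ v ∈ Ce[t], (∃ k, orderOf u = 2 ^ k) → (∃ k, orderOf v = 2 ^ k) →
      Commute u v := by
    intro u hu v hv hup hvp
    by_cases h1 : Ce[t] ≤ Ce[u]
    · exact mem_C'.mp (h1 hv)
    by_cases h2 : Ce[t] ≤ Ce[v]
    · exact mem_C.mp (h2 hu)
    have u2 := two u hu hup h1
    have v2 := two v hv hvp h2
    have all : ∀ z ∈ Ce[t], (∃ k, orderOf z = 2 ^ k) → z * z = 1 := by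
      intro z hz hzp
      by_cases h3 : Ce[t] ≤ Ce[z]
      swap
      · exact two z hz hzp h3
      have hc : Commute u z := mem_C.mp (h3 hu)
      have := two (u * z) (mul_mem hu hz) (orderOf_mul_two_pow hc hup hzp) (by
        intro h4
        apply h1
        intro g hg
        have b1 : Commute g (u * z) := mem_C.mp (h4 hg)
        have b2 : Commute g z := mem_C.mp (h3 hg)
        have : u = u * z * z⁻¹ := by group
        rw [mem_C, this]
        exact b1.mul_right b2.inv_right)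
      calc z * z = u * u * (z * z) := by rw [u2, one_mul]
        _ = u * (u * z) * z := by group
        _ = u * (z * u) * z := by rw [hc.eq]
        _ = u * z * (u * z) := by group
        _ = 1 := this
    obtain ⟨x, y, hx, hy, e, hxp, hyp⟩ := exists_p_parts Nat.prime_two (u * v)
    have hxC : x ∈ Ce[t] := zpowers_le.mpr (mul_mem hu hv) hx
    have hyC : y ∈ Ce[t] := zpowers_le.mpr (mul_mem hu hv) hy
    have hxy : Commute x y := commute_of_mem_zpowers hx hy
    have e1 : u * v * (u * v) = y * y := by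
      calc u * v * (u * v) = x * (y * x) * y := by rw [e]; group
        _ = x * x * (y * y) := by rw [← hxy.eq]; group
        _ = y * y := by rw [all x hxC hxp, one_mul]
    have huy : Commute u y := mem_C.mp (odd y hyC hyp hu)
    have ui : u⁻¹ = u := inv_eq_of_mul_eq_one_right u2
    have vi : v⁻¹ = v := inv_eq_of_mul_eq_one_right v2
    have e2 : y * y = (y * y)⁻¹ := by
      calc y * y = u * (y * y) * u⁻¹ := by rw [(huy.mul_right huy).eq]; group
        _ = u * (u * v * (u * v)) * u := by rw [e1, ui]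
        _ = (u * u) * v * u * v * u := by group
        _ = v⁻¹ * u⁻¹ * v⁻¹ * u⁻¹ := by rw [u2, ui, vi]; group
        _ = (u * v * (u * v))⁻¹ := by group
        _ = (y * y)⁻¹ := by rw [e1]
    have e3 : y ^ 4 = 1 := by
      calc y ^ 4 = y * y * (y * y) := by simp [pow_succ, mul_assoc]
        _ = 1 := by nth_rewrite 2 [e2]; group
    have e4 : y = 1 := by
      have := orderOf_dvd_of_pow_eq_one e3
      rw [← orderOf_eq_one_iff]
      exact Nat.Coprime.eq_one_of_dvd
        (Nat.Coprime.pow_right 2 ((Nat.prime_two.coprime_iff_not_dvd.mpr hyp).symm)) this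
    rw [e4, mul_one] at e1
    calc u * v = (u * v)⁻¹ := eq_inv_of_mul_eq_one_right e1
      _ = v * u := by rw [mul_inv_rev, ui, vi]
  intro a ha b hb
  obtain ⟨x, y, hx, hy, e, hxp, hyp⟩ := exists_p_parts Nat.prime_two a
  obtain ⟨x', y', hx', hy', e', hxp', hyp'⟩ := exists_p_parts Nat.prime_two b
  have hxC : x ∈ Ce[t] := zpowers_le.mpr ha hx
  have hyC : y ∈ Ce[t] := zpowers_le.mpr ha hy
  have hxC' : x' ∈ Ce[t] := zpowers_le.mpr hb hx'
  have hyC' : y' ∈ Ce[t] := zpowers_le.mpr hb hy'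
  have c1 : Commute y b := mem_C'.mp (odd y hyC hyp hb)
  have c2 : Commute x y' := mem_C.mp (odd y' hyC' hyp' hxC)
  have c3 : Commute x b := e' ▸ (twos x hxC x' hxC' hxp hxp').mul_right c2
  exact (e ▸ c3.mul_left c1 : Commute a b)

theorem exists_conj_mem_C {w x : G} {q : ℕ} (hq : q.Prime) (hw : ¬ q ∣ cs[w])
    (hx : ∃ k, orderOf x = q ^ k) : ∃ g : G, g * w * g⁻¹ ∈ Ce[x] := by
  have : Fact q.Prime := ⟨hq⟩
  obtain ⟨k, hk⟩ := hx
  obtain ⟨P, hP⟩ := (IsPGroup.of_card (G := zpowers x) (n := k)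
    (by rw [Nat.card_zpowers, hk])).exists_le_sylow
  obtain ⟨g, hg⟩ := (not_dvd_cs_iff_conj P).mp hw
  exact ⟨g, mem_C'.mpr (mem_centralizer_iff.mp hg x (hP (mem_zpowers x)))⟩

theorem not_dvd_orderOf_mul {x y : G} (h : Commute x y) {p : ℕ} (hp : p.Prime)
    (hx : ¬ p ∣ orderOf x) (hy : ¬ p ∣ orderOf y) : ¬ p ∣ orderOf (x * y) := fun hd =>
  ((Nat.Prime.dvd_mul hp).mp (hd.trans h.orderOf_mul_dvd_mul_orderOf)).elim hx hy

/-- The covering lemma. -/
theorem cover_lemma {a : ℕ} (ha : 1 < a)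
    (h2 : ∀ p : ℕ, p.Prime → p ∣ a → ∃ p' : ℕ, p'.Prime ∧ p' ∣ a ∧ p' ≠ p)
    (h : ∀ w : G, ∀ p : ℕ, p.Prime → p ∣ a → ¬ p ∣ orderOf w → cs[w] = 1 ∨ cs[w] = a)
    {x : G} {q : ℕ} (hq : q.Prime) (hqa : ¬ q ∣ a) (hx : ∃ k, orderOf x = q ^ k)
    (hxa : cs[x] = a) : False := by
  obtain ⟨p, hp, hpa⟩ := Nat.exists_prime_and_dvd ha.ne'
  have prim : ∀ (w : G) (r : ℕ), r.Prime → (∃ k, orderOf w = r ^ k) → cs[w] = 1 ∨ cs[w] = a := by
    intro w r hr hw
    by_cases hra : r ∣ a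
    · obtain ⟨p', hp', h1, h3⟩ := h2 r hr hra
      exact h w p' hp' h1 (not_dvd_of_eq_pow hp' hr h3 hw)
    · exact h w p hp hpa (not_dvd_of_eq_pow hp hr (by rintro rfl; exact hra hpa) hw)
  have mixed : ∀ (v w : G) (r s : ℕ), r.Prime → s.Prime → s ∣ a → ¬ r ∣ a → Commute v w →
      (∃ k, orderOf v = r ^ k) → (∃ k, orderOf w = s ^ k) →
      (cs[v] = a → Ce[v] ≤ Ce[w]) ∧ (cs[w] = a → Ce[w] ≤ Ce[v]) := by
    intro v w r s hr hs hsa hra hc hv hw
    obtain ⟨p', hp', h1, h3⟩ := h2 s hs hsa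
    have hco := coprime_of_pow_of_pow hr hs (by rintro rfl; exact hra hsa) hv hw
    have e := C_mul_of_coprime hc hco
    have h4 := h (v * w) p' hp' h1 (not_dvd_orderOf_mul hc hp'
      (not_dvd_of_eq_pow hp' hr (by rintro rfl; exact hra h1) hv) (not_dvd_of_eq_pow hp' hs h3 hw))
    have h5 : cs[v * w] ≤ a := by omega
    constructor
    · intro h6
      rw [← eq_of_le_of_index_le (e ▸ inf_le_left : Ce[v * w] ≤ Ce[v]) (by omega), e]
      exact inf_le_right
    · intro h6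
      rw [← eq_of_le_of_index_le (e ▸ inf_le_right : Ce[v * w] ≤ Ce[w]) (by omega), e]
      exact inf_le_left
  have conjD : ∀ w : G, cs[w] = a → ∃ g : G, g * w * g⁻¹ ∈ Ce[x] := fun w hw =>
    exists_conj_mem_C hq (hw ▸ hqa) hx
  obtain ⟨w, hwD, hwp, hwa⟩ : ∃ w ∈ Ce[x], (∃ k, orderOf w = p ^ k) ∧ cs[w] = a := by
    have : Fact p.Prime := ⟨hp⟩
    obtain ⟨P⟩ : Nonempty (Sylow p G) := inferInstance
    have h1 : ¬ (P : Subgroup G) ≤ Ce[x] := fun hle =>
      not_dvd_index_of_sylow_le P hle (hxa ▸ hpa)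
    obtain ⟨w, hwP, hwx⟩ := SetLike.not_le_iff_exists.mp h1
    obtain ⟨k, hk⟩ := (IsPGroup.iff_orderOf.mp P.2) ⟨w, hwP⟩
    have hw : ∃ k, orderOf w = p ^ k := ⟨k, by rw [← hk, ← orderOf_coe]⟩
    have hwa : cs[w] = a := (prim w p hp hw).resolve_left fun e =>
      hwx (center_le_C x (cs_eq_one_iff.mp e))
    obtain ⟨g, hg⟩ := conjD w hwa
    exact ⟨_, hg, by rwa [orderOf_conj], by rwa [cs_conj]⟩
  have hwx : Ce[w] = Ce[x] := (eq_of_le_of_index_eq
    ((mixed x w q p hq hp hpa hqa (mem_C'.mp hwD) hx hwp).1 hxa) (hxa.trans hwa.symm)).symm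
  have ab : ∀ y ∈ Ce[x], ∀ r : ℕ, r.Prime → (∃ k, orderOf y = r ^ k) → Ce[x] ≤ Ce[y] := by
    intro y hy r hr hyp
    by_cases hra : r ∣ a
    · exact (mixed x y q r hq hr hra hqa (mem_C'.mp hy) hx hyp).1 hxa
    · rw [← hwx] at hy ⊢
      exact (mixed y w r p hr hp hpa hra (mem_C.mp hy) hyp hwp).2 hwa
  have htop : Ce[x] = ⊤ := by
    refine eq_top_of_forall_conj_mem fun g => ?_
    by_cases hg : g ∈ center G
    · exact ⟨1, by simpa using center_le_C x hg⟩
    obtain ⟨y, hy, r, hr, -, hyp, hyZ⟩ := exists_primePow_not_mem hg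
    have hya : cs[y] = a := (prim y r hr hyp).resolve_left fun e => hyZ (cs_eq_one_iff.mp e)
    obtain ⟨d, hd⟩ := conjD y hya
    refine ⟨d, ?_⟩
    rw [eq_of_le_of_index_eq (ab _ hd r hr (by rwa [orderOf_conj])) (by rw [hxa, cs_conj, hya]),
      mem_C_conj]
    have : d⁻¹ * (d * g * d⁻¹) * d = g := by group
    rw [this]
    exact C_le_C_of_mem_zpowers hy (self_mem_C g)
  rw [htop, index_top] at hxa
  omega

variable (G) in
theorem exists_rad : ∃ R : Subgroup G, R.Normal ∧ Group.IsSolvable R ∧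
    ∀ N : Subgroup G, N.Normal → Group.IsSolvable N → N ≤ R := by
  obtain ⟨R, ⟨h1, h2⟩, h3⟩ := Set.Finite.exists_maximal
    (s := {N : Subgroup G | N.Normal ∧ Group.IsSolvable N}) (Set.toFinite _)
    ⟨⊥, inferInstance, inferInstance⟩
  refine ⟨R, h1, h2, fun N hN hs => le_sup_left.trans (h3 (y := N ⊔ R) ⟨inferInstance, ?_⟩
    le_sup_right)⟩
  exact H52.isSolvable_sup_of_le_normalizer hs h2 (by rw [normalizer_eq_top]; exact le_top)

/-- If a subgroup of `{p, q}`-index is generated by elements of prime power class size, the group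
is solvable. -/
theorem isSolvable_of_kazarin {E : Subgroup G} {p q i j : ℕ} (hp : p.Prime) (hq : q.Prime)
    (hE : E.index ∣ p ^ i * q ^ j)
    (h : ∀ w ∈ E, ∀ r : ℕ, r.Prime → (∃ k, orderOf w = r ^ k) →
      ∃ s : ℕ, s.Prime ∧ ∃ k, cs[w] = s ^ k) : Group.IsSolvable G := by
  obtain ⟨R, h1, h2, h3⟩ := exists_rad G
  have hle : E ≤ R := fun g hg => mem_of_forall_primePow fun y hy r hr _ hyp => by
    obtain ⟨s, hs, hk⟩ := h y (zpowers_le.mpr hg hy) r hr hyp
    exact h3 _ inferInstance (kazarin hs G y hk) (subset_normalClosure rfl)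
  exact isSolvable_of_normal R h2
    (H1.isSolvable_of_card_dvd hp hq ((index_dvd_of_le hle).trans hE))

end Cfsg.Agent.H15
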