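import Mathlib
import Cfsg.Agent.H15.CS1
import Cfsg.Agent.H7.PBasic
import Cfsg.Agent.H92.Camina

/-!
# Three class sizes `a ∣ b`, `c`: generalities and the case `c ∣ b`
-/

set_option autoImplicit false
set_option linter.unusedSectionVars false

namespace Cfsg.Agent.H15

open Subgroup Cfsg.Agent.H92

universe u

variable {G : Type u} [Group G] [Finite G]

theorem exists_center_sylow {p : ℕ} [hp : Fact p.Prime] (P : Sylow p G) (h : p ∣ Nat.card G) :
    ∃ z ∈ (P : Subgroup G), orderOf z = p ∧ (P : Subgroup G) ≤ Ce[z] := by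
  have hne : (⊤ : Subgroup (P : Subgroup G)) ≠ ⊥ := by
    have := (Subgroup.nontrivial_iff_ne_bot _).mpr (P.ne_bot_of_dvd_card h)
    exact top_ne_bot
  obtain ⟨z, -, hz, ho⟩ := H7.exists_mem_center_orderOf P.2 hne
  refine ⟨z, z.2, by rw [orderOf_coe, ho], fun g hg => mem_C.mpr ?_⟩
  exact congrArg Subtype.val (mem_center_iff.mp hz ⟨g, hg⟩)

/-- A subgroup of `p'`-index contains a `p`-central element with its Sylow subgroup. -/
theorem exists_central_of_not_dvd {p : ℕ} (hp : p.Prime) (h : p ∣ Nat.card G) {L : Subgroup G}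
    (hL : ¬ p ∣ L.index) : ∃ z ∈ L, orderOf z = p ∧ ¬ p ∣ (L ⊓ Ce[z]).index := by
  have : Fact p.Prime := ⟨hp⟩
  obtain ⟨P, hP⟩ := exists_sylow_le_of_not_dvd_index hL
  obtain ⟨z, hz, ho, hc⟩ := exists_center_sylow P h
  exact ⟨z, hP hz, ho, not_dvd_index_of_sylow_le P (le_inf hP hc)⟩

theorem ne_one_of_ord {x : G} {p : ℕ} (hp : p.Prime) (h : orderOf x = p) : x ≠ 1 := by
  rintro rfl
  rw [orderOf_one] at h
  exact hp.one_lt.ne h

theorem mul_ne_one_of_coprime {x y : G} (hc : (orderOf x).Coprime (orderOf y)) (hx : x ≠ 1) :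
    x * y ≠ 1 := by
  intro e
  rw [eq_inv_of_mul_eq_one_right e, orderOf_inv, Nat.coprime_self, orderOf_eq_one_iff] at hc
  exact hx hc

theorem index_inf_of_coprime {H K : Subgroup G} (h : H.index.Coprime K.index) :
    (H ⊓ K).index = H.index * K.index :=
  le_antisymm index_inf_le (Nat.le_of_dvd (Nat.pos_of_ne_zero index_ne_zero_of_finite)
    (h.mul_dvd_of_dvd_of_dvd (index_dvd_of_le inf_le_left) (index_dvd_of_le inf_le_right)))

theorem pow_or_two_primes {a : ℕ} (ha : 1 < a) : (∃ p : ℕ, p.Prime ∧ p ∣ a ∧ ∃ k, a = p ^ k) ∨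
    ∀ p : ℕ, p.Prime → p ∣ a → ∃ p' : ℕ, p'.Prime ∧ p' ∣ a ∧ p' ≠ p := by
  by_cases h : ∀ p : ℕ, p.Prime → p ∣ a → ∃ p' : ℕ, p'.Prime ∧ p' ∣ a ∧ p' ≠ p
  · exact Or.inr h
  · push Not at h
    obtain ⟨p, hp, hpa, h⟩ := h
    exact Or.inl ⟨p, hp, hpa, (eq_pow_iff_forall hp (by omega)).mpr h⟩

variable (G) in
/-- The class sizes of a centreless group are `1, a, b, c` with `a ∣ b` and `a`, `c` coprime. -/
structure Tri (a b c : ℕ) : Prop where
  hZ : center G = ⊥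
  ha : 1 < a
  hc : 1 < c
  hab : a ∣ b
  hne : a ≠ b
  hbc : b ≠ c
  cop : a.Coprime c
  all : ∀ x : G, x ≠ 1 → cs[x] = a ∨ cs[x] = b ∨ cs[x] = c
  exA : ∃ x : G, cs[x] = a
  exB : ∃ x : G, cs[x] = b
  exC : ∃ x : G, cs[x] = c

namespace Tri

variable {a b c : ℕ} (T : Tri G a b c)
include T

theorem b_pos : 0 < b := by
  obtain ⟨x, hx⟩ := T.exB
  exact hx ▸ cs_pos x

theorem a_lt_b : a < b := lt_of_le_of_ne (Nat.le_of_dvd T.b_pos T.hab) T.hne

theorem not_a_dvd_c : ¬ a ∣ c := fun h => T.ha.ne' (T.cop.eq_one_of_dvd h)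

theorem not_c_dvd_a : ¬ c ∣ a := fun h => T.hc.ne' (T.cop.symm.eq_one_of_dvd h)

theorem not_b_dvd_a : ¬ b ∣ a := fun h =>
  absurd (Nat.le_of_dvd (by have := T.ha; omega) h) (not_le.mpr T.a_lt_b)

theorem not_b_dvd_c : ¬ b ∣ c := fun h => T.not_a_dvd_c (T.hab.trans h)

theorem a_ne_c : a ≠ c := fun h => T.not_a_dvd_c (h ▸ dvd_rfl)

theorem ne_one_of_cs {x : G} {n : ℕ} (hn : 1 < n) (h : cs[x] = n) : x ≠ 1 := by
  rintro rfl
  rw [cs_one] at h
  omega

theorem a_dvd_card : a ∣ Nat.card G := by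
  obtain ⟨x, hx⟩ := T.exA
  exact hx ▸ cs_dvd_card x

theorem c_dvd_card : c ∣ Nat.card G := by
  obtain ⟨x, hx⟩ := T.exC
  exact hx ▸ cs_dvd_card x

theorem maxA {x v : G} (hx : cs[x] = a) (hv : v ≠ 1) (h : Ce[x] ≤ Ce[v]) : Ce[x] = Ce[v] := by
  have hd := hx ▸ cs_dvd_of_le h
  rcases T.all v hv with e | e | e
  · exact eq_of_le_of_index_eq h (hx.trans e.symm)
  · exact absurd (e ▸ hd) T.not_b_dvd_a
  · exact absurd (e ▸ hd) T.not_c_dvd_a

theorem maxC {x v : G} (hx : cs[x] = c) (hv : v ≠ 1) (h : Ce[x] ≤ Ce[v]) : Ce[x] = Ce[v] := by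
  have hd := hx ▸ cs_dvd_of_le h
  rcases T.all v hv with e | e | e
  · exact absurd (e ▸ hd) T.not_a_dvd_c
  · exact absurd (e ▸ hd) T.not_b_dvd_c
  · exact eq_of_le_of_index_eq h (hx.trans e.symm)

theorem minB {u v : G} (hu : cs[u] = b) (h : Ce[v] ≤ Ce[u]) : Ce[v] = Ce[u] := by
  have hd := hu ▸ cs_dvd_of_le h
  have hv : v ≠ 1 := by
    rintro rfl
    rw [cs_one] at hd
    exact T.not_b_dvd_a (hd.trans (one_dvd a))
  rcases T.all v hv with e | e | e
  · exact absurd (e ▸ hd) T.not_b_dvd_a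
  · exact eq_of_le_of_index_eq h (e.trans hu.symm)
  · exact absurd (e ▸ hd) T.not_b_dvd_c

theorem le_of_B {u w : G} (hu : cs[u] = b) (hc : Commute u w)
    (hco : (orderOf u).Coprime (orderOf w)) : Ce[u] ≤ Ce[w] := by
  have e := C_mul_of_coprime hc hco
  rw [← T.minB hu (e ▸ inf_le_left : Ce[u * w] ≤ Ce[u]), e]
  exact inf_le_right

theorem eq_c_of_not_dvd {x : G} (hx : x ≠ 1) {p : ℕ} (hpa : p ∣ a) (h : ¬ p ∣ cs[x]) :
    cs[x] = c := by
  rcases T.all x hx with e | e | e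
  · exact absurd (e ▸ hpa) h
  · exact absurd (e ▸ hpa.trans T.hab) h
  · exact e

theorem not_dvd_c {p : ℕ} (hp : p.Prime) (hpa : p ∣ a) : ¬ p ∣ c := fun h =>
  hp.one_lt.ne' (Nat.eq_one_of_dvd_coprimes T.cop hpa h)

theorem symm (hcb : c ∣ b) : Tri G c b a :=
  ⟨T.hZ, T.hc, T.ha, hcb, T.hbc.symm, T.hne.symm, T.cop.symm,
    fun x hx => by rcases T.all x hx with e | e | e <;> simp [e], T.exC, T.exB, T.exA⟩

/-- If `cs[y] = c` and `p ∣ a`, `p ∤ o(y)`, then `C(y)` is the centralizer of an element of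
order `p`. -/
theorem exists_same_C {y : G} (hy : cs[y] = c) {p : ℕ} (hp : p.Prime) (hpa : p ∣ a)
    (ho : ¬ p ∣ orderOf y) : ∃ z, orderOf z = p ∧ Ce[z] = Ce[y] := by
  obtain ⟨z, hz, hzo, hi⟩ := exists_central_of_not_dvd hp (hpa.trans T.a_dvd_card)
    (L := Ce[y]) (hy ▸ T.not_dvd_c hp hpa)
  have hco : (orderOf y).Coprime (orderOf z) := by
    rw [hzo]; exact ((Nat.Prime.coprime_iff_not_dvd hp).mpr ho).symm
  have e := C_mul_of_coprime (mem_C'.mp hz) hco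
  have h1 := T.eq_c_of_not_dvd (mul_ne_one_of_coprime hco (T.ne_one_of_cs T.hc hy)) hpa
    (by rw [e]; exact hi)
  have h2 : Ce[y * z] = Ce[y] := eq_of_le_of_index_eq (e ▸ inf_le_left) (h1.trans hy.symm)
  exact ⟨z, hzo, (T.maxC hy (ne_one_of_ord hp hzo)
    (by rw [← h2, e]; exact inf_le_right)).symm⟩

theorem b_eq_of_commute {x y : G} (hx : cs[x] = a) (hy : cs[y] = c) (hc : Commute x y)
    (hco : (orderOf x).Coprime (orderOf y)) : b = a * c := by
  have e : cs[x * y] = a * c := by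
    rw [C_mul_of_coprime hc hco, index_inf_of_coprime (by rw [hx, hy]; exact T.cop), hx, hy]
  have ha := T.ha
  have hc := T.hc
  rcases T.all _ (mul_ne_one_of_coprime hco (T.ne_one_of_cs T.ha hx)) with h | h | h
  · nlinarith
  · rw [← h, e]
  · nlinarith

theorem no_commute (h2 : ∀ p : ℕ, p.Prime → p ∣ a → ∃ p' : ℕ, p'.Prime ∧ p' ∣ a ∧ p' ≠ p)
    {y x : G} {p q : ℕ} (hp : p.Prime) (hq : q.Prime) (hpa : p ∣ a) (hqa : ¬ q ∣ a)
    (hyo : orderOf y = p) (hy : cs[y] = c) (hxo : ∃ k, orderOf x = q ^ k) (hx : cs[x] = a)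
    (hc : Commute x y) : False := by
  have hb := T.b_eq_of_commute hx hy hc (coprime_of_pow_of_pow hq hp
    (by rintro rfl; exact hqa hpa) hxo ⟨1, by rw [hyo, pow_one]⟩)
  have hc0 := T.hc
  refine cover_lemma (G := Ce[y]) T.ha h2 ?_ (x := ⟨x, mem_C.mpr hc⟩) hq hqa
    (by rwa [← orderOf_coe]) ?_
  · intro w r hr hra hw
    obtain ⟨z, hzo, hz⟩ : ∃ z, orderOf z = r ∧ Ce[z] = Ce[y] := by
      by_cases hrp : r = p
      · exact ⟨y, hrp ▸ hyo, rfl⟩
      · exact T.exists_same_C hy hr hra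
          (by rw [hyo, Nat.prime_dvd_prime_iff_eq hr hp]; exact hrp)
    have hco : (orderOf z).Coprime (orderOf (w : G)) := by
      rw [hzo, orderOf_coe]; exact (Nat.Prime.coprime_iff_not_dvd hr).mpr hw
    have e := cs_mul_eq (mem_C'.mp (hz.ge w.2)) hco
    rw [hz, ← cs_subgroup, hy] at e
    rcases T.all _ (mul_ne_one_of_coprime hco (ne_one_of_ord hr hzo)) with h | h | h
    · exact absurd (by rw [← h, e]; exact dvd_mul_left _ _) T.not_c_dvd_a
    · right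
      rw [h, hb] at e
      exact (Nat.eq_of_mul_eq_mul_right (by omega) e).symm
    · left
      rw [h] at e
      exact Nat.eq_of_mul_eq_mul_right (by omega : 0 < c) (by rw [← e, one_mul])
  · rw [cs_subgroup]
    have e := relIndex_mul_index (inf_le_right : Ce[x] ⊓ Ce[y] ≤ Ce[y])
    rw [inf_relIndex_right, index_inf_of_coprime (by rw [hx, hy]; exact T.cop), hx, hy] at e
    exact Nat.eq_of_mul_eq_mul_right (by omega) e

theorem not_B_of_mem_inf {x y w : G} {p q r : ℕ} (hp : p.Prime) (hq : q.Prime) (hr : r.Prime)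
    (hpq : p ≠ q) (hy : orderOf y = p) (hx : orderOf x = q) (hw : ∃ k, orderOf w = r ^ k)
    (hn : ¬ Commute x y) (hwE : w ∈ Ce[x] ⊓ Ce[y]) : cs[w] ≠ b := by
  intro hb
  have h1 : Commute w x := mem_C.mp hwE.1
  have h2 : Commute w y := mem_C.mp hwE.2
  by_cases hrq : r = q
  · exact hn (mem_C.mp (T.le_of_B hb h2 (coprime_of_pow_of_pow hr hp (hrq ▸ hpq.symm) hw
      ⟨1, by rw [hy, pow_one]⟩) (mem_C'.mpr h1)))
  · exact hn (mem_C'.mp (T.le_of_B hb h1 (coprime_of_pow_of_pow hr hq hrq hw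
      ⟨1, by rw [hx, pow_one]⟩) (mem_C'.mpr h2)))

theorem exists_c_elt {p : ℕ} (hp : p.Prime) (hpa : p ∣ a) : ∃ y : G, orderOf y = p ∧ cs[y] = c := by
  obtain ⟨y, -, ho, hi⟩ := exists_central_of_not_dvd hp (hpa.trans T.a_dvd_card) (L := ⊤)
    (by rw [index_top]; exact hp.one_lt.ne' ∘ Nat.dvd_one.mp)
  rw [top_inf_eq] at hi
  exact ⟨y, ho, T.eq_c_of_not_dvd (ne_one_of_ord hp ho) hpa hi⟩

theorem false_of_two_primes (hcb : c ∣ b)
    (h2 : ∀ p : ℕ, p.Prime → p ∣ a → ∃ p' : ℕ, p'.Prime ∧ p' ∣ a ∧ p' ≠ p) : False := by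
  obtain ⟨p, hp, hpa⟩ := Nat.exists_prime_and_dvd T.ha.ne'
  obtain ⟨q, hq, hqc⟩ := Nat.exists_prime_and_dvd T.hc.ne'
  have hqa : ¬ q ∣ a := (T.symm hcb).not_dvd_c hq hqc
  have hpq : p ≠ q := by rintro rfl; exact hqa hpa
  obtain ⟨y, hyo, hy⟩ := T.exists_c_elt hp hpa
  obtain ⟨x, hxo, hx⟩ := (T.symm hcb).exists_c_elt hq hqc
  have hn : ¬ Commute x y := T.no_commute h2 hp hq hpa hqa hyo hy ⟨1, by rw [hxo, pow_one]⟩ hx
  have hE : (Ce[x] ⊓ Ce[y]).index = a * c := by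
    rw [index_inf_of_coprime (by rw [hx, hy]; exact T.cop), hx, hy]
  have hacb : a * c ∣ b := T.cop.mul_dvd_of_dvd_of_dvd T.hab hcb
  have hac : 0 < a * c := Nat.mul_pos (by have := T.ha; omega) (by have := T.hc; omega)
  have key : ∀ u : G, cs[u] = b → Nat.card Ce[u] ∣ Nat.card ↥(Ce[x] ⊓ Ce[y]) := by
    intro u hu
    obtain ⟨m, hm⟩ := hacb
    have e1 := cs_mul_card u
    rw [← (Ce[x] ⊓ Ce[y]).index_mul_card, hE, hu, hm, mul_assoc] at e1
    exact Dvd.intro_left m (Nat.eq_of_mul_eq_mul_left hac e1)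
  have cop : ∀ r : ℕ, r.Prime → r ∣ a → ¬ r ∣ Nat.card ↥(Ce[x] ⊓ Ce[y]) := by
    intro r hr hra hd
    have : Fact r.Prime := ⟨hr⟩
    obtain ⟨w, hw⟩ := exists_prime_orderOf_dvd_card' r hd
    rw [← orderOf_coe] at hw
    rcases T.all w (ne_one_of_ord hr hw) with h | h | h
    · obtain ⟨x', hx'o, hx'⟩ := (T.symm hcb).exists_same_C h hq hqc
        (by rw [hw, Nat.prime_dvd_prime_iff_eq hq hr]; rintro rfl; exact hqa hra)
      exact T.no_commute h2 hp hq hpa hqa hyo hy ⟨1, by rw [hx'o, pow_one]⟩ (by rw [hx', h])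
        (mem_C'.mp (hx' ▸ mem_C_comm.mp w.2.2))
    · exact T.not_B_of_mem_inf hp hq hr hpq hyo hxo ⟨1, by rw [hw, pow_one]⟩ hn w.2 h
    · exact T.no_commute h2 hr hq hra hqa hw h ⟨1, by rw [hxo, pow_one]⟩ hx (mem_C'.mp w.2.1)
  have hne : Nat.card ↥(Ce[x] ⊓ Ce[y]) ≠ 1 := by
    intro h1
    obtain ⟨u, hu⟩ := T.exB
    have h3 := key u hu
    rw [h1, Nat.dvd_one, card_eq_one] at h3
    exact T.ne_one_of_cs (T.ha.trans T.a_lt_b) hu (mem_bot.mp (h3 ▸ self_mem_C u))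
  obtain ⟨r, hr, hd⟩ := Nat.exists_prime_and_dvd hne
  have : Fact r.Prime := ⟨hr⟩
  obtain ⟨w, hw⟩ := exists_prime_orderOf_dvd_card' r hd
  rw [← orderOf_coe] at hw
  have hco : (orderOf y).Coprime (orderOf (w : G)) := by
    rw [hyo, hw, Nat.coprime_primes hp hr]
    rintro rfl
    exact cop _ hp hpa hd
  have hyw : Commute y w := mem_C'.mp w.2.2
  have e := C_mul_of_coprime hyw hco
  rcases T.all _ (mul_ne_one_of_coprime hco (ne_one_of_ord hp hyo)) with h | h | h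
  · exact T.not_c_dvd_a (by rw [← h, ← hy]; exact cs_dvd_cs_mul hyw hco)
  · refine cop p hp hpa ((hyo ▸ orderOf_dvd_natCard (s := Ce[y * w]) ?_ :
      p ∣ Nat.card Ce[y * (w : G)]).trans (key _ h))
    rw [e]
    exact ⟨self_mem_C y, mem_C.mpr hyw⟩
  · have h3 : Ce[y * w] = Ce[y] := eq_of_le_of_index_eq (e ▸ inf_le_left) (h.trans hy.symm)
    have h4 := T.maxC hy (ne_one_of_ord hr hw) (h3.ge.trans (e.le.trans inf_le_right))
    exact hn (mem_C.mp (h4 ▸ mem_C_comm.mp w.2.1))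

theorem isSolvable_of_dvd (hcb : c ∣ b) : Group.IsSolvable G := by
  rcases pow_or_two_primes T.ha with ⟨p, hp, hpa, i, hi⟩ | h2
  swap
  · exact (T.false_of_two_primes hcb h2).elim
  rcases pow_or_two_primes T.hc with ⟨q, hq, hqc, j, hj⟩ | h2
  swap
  · exact ((T.symm hcb).false_of_two_primes T.hab h2).elim
  have hqa : ¬ q ∣ a := (T.symm hcb).not_dvd_c hq hqc
  have hpq : p ≠ q := by rintro rfl; exact hqa hpa
  obtain ⟨y, hyo, hy⟩ := T.exists_c_elt hp hpa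
  obtain ⟨x, hxo, hx⟩ := (T.symm hcb).exists_c_elt hq hqc
  by_cases hn : Commute x y
  · have hb := T.b_eq_of_commute hx hy hn (by rw [hxo, hyo, Nat.coprime_primes hq hp]; exact hpq.symm)
    refine H1.isSolvable_of_two_primes hp hq fun r hr hd => ?_
    by_contra hne
    push Not at hne
    have : Fact r.Prime := ⟨hr⟩
    obtain ⟨R⟩ : Nonempty (Sylow r G) := inferInstance
    have h1 : ¬ r ∣ b := by
      rw [hb, hi, hj]
      intro h
      rcases (Nat.Prime.dvd_mul hr).mp h with h | h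
      · exact hne.1 ((Nat.prime_dvd_prime_iff_eq hr hp).mp (hr.dvd_of_dvd_pow h))
      · exact hne.2 ((Nat.prime_dvd_prime_iff_eq hr hq).mp (hr.dvd_of_dvd_pow h))
    have := sylow_le_center_of_not_dvd_cs R fun g hg => by
      by_cases h : g = 1
      · rw [h, cs_one] at hg
        exact h1 (hg.trans (one_dvd b))
      · rcases T.all g h with e | e | e
        · exact h1 ((e ▸ hg).trans T.hab)
        · exact h1 (e ▸ hg)
        · exact h1 ((e ▸ hg).trans hcb)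
    rw [T.hZ, le_bot_iff] at this
    exact R.ne_bot_of_dvd_card hd this
  · refine isSolvable_of_kazarin (E := Ce[x] ⊓ Ce[y]) (i := i) (j := j) hp hq
      (by rw [index_inf_of_coprime (by rw [hx, hy]; exact T.cop), hx, hy, hi, hj]) ?_
    intro w hw r hr hwo
    by_cases h : w = 1
    · exact ⟨p, hp, 0, by rw [h, cs_one, pow_zero]⟩
    rcases T.all w h with e | e | e
    · exact ⟨p, hp, i, e.trans hi⟩
    · exact absurd e (T.not_B_of_mem_inf hp hq hr hpq hyo hxo hwo hn hw)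
    · exact ⟨q, hq, j, e.trans hj⟩

end Tri

end Cfsg.Agent.H15
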