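import Mathlib
import Cfsg.Agent.H63.SLDefs
import Cfsg.Agent.H83.Base

/-! The doubled root subgroups (project STD-LIE2, piece HAT). -/

set_option autoImplicit false
set_option linter.unusedSectionVars false

namespace Cfsg.Agent.H15.SLHat

open Cfsg Cfsg.Agent.H63 Cfsg.Agent.H63.SL Cfsg.Agent.H34 Cfsg.Agent.H40 Subgroup
open scoped commutatorElement

universe u v

variable {ι Φ : Type} [Fintype ι] [DecidableEq ι] {R : RS ι Φ}
  {F : Type v} [Field F] {G : Type u} [Group G] {L : Subgroup G} {x : Φ → F → G} {t : G}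

theorem x_mem_UU {S : Set Φ} {s : Φ} (hs : s ∈ S) (a : F) : x s a ∈ UU x S :=
  subset_closure ⟨s, hs, subset_closure ⟨a, rfl⟩⟩

theorem mem_cent_UU {S : Set Φ} {g : G} :
    g ∈ C[UU x S] ↔ ∀ s ∈ S, ∀ a, Commute g (x s a) := by
  constructor
  · intro h s hs a
    exact (h _ (x_mem_UU hs a)).symm
  · intro h
    have : UU x S ≤ C1[g] := by
      refine (closure_le _).2 ?_
      rintro y ⟨s, hs, hy⟩
      refine (closure_le (K := C1[g])).2 ?_ hy
      rintro _ ⟨a, rfl⟩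
      exact mem_centralizer_singleton_iff.2 (h s hs a).symm
    exact fun y hy => mem_centralizer_singleton_iff.1 (this hy)

/-- `g` centralizes `Y_r`. -/
def CY (R : RS ι Φ) (x : Φ → F → G) (r : Φ) (g : G) : Prop :=
  ∀ s, 0 ≤ R.pair r s → ∀ a, Commute g (x s a)

theorem mem_CY {r : Φ} {g : G} : g ∈ C[YR R x r] ↔ CY R x r g := mem_cent_UU

/-- `g` centralizes `Y_r` and moves `t` to `t x_r(a)`. -/
def D (R : RS ι Φ) (x : Φ → F → G) (t : G) (r : Φ) (g : G) (a : F) : Prop :=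
  CY R x r g ∧ g * t * g⁻¹ = t * x r a

theorem conj_of_comm {a b : G} (h : Commute a b) : a * b * a⁻¹ = b := by
  rw [h.eq, mul_inv_cancel_right]

theorem comm_conj {g a b : G} (h : Commute a (g⁻¹ * b * g)) : Commute (g * a * g⁻¹) b := by
  have : g * a * g⁻¹ * b = g * (a * (g⁻¹ * b * g)) * g⁻¹ := by group
  rw [Commute, SemiconjBy, this, h.eq]; group

section Pin

variable (h : Pin R x)
include h

theorem x_zero (r : Φ) : x r 0 = 1 := by
  have := h.add r 0 0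
  rw [add_zero] at this
  exact left_eq_mul.1 this

theorem add_self (a : F) : a + a = 0 := by rw [← two_mul, h.two, zero_mul]

theorem x_sq (r : Φ) (a : F) : x r a * x r a = 1 := by rw [← h.add, add_self h, x_zero h]

theorem x_inv (r : Φ) (a : F) : (x r a)⁻¹ = x r a := inv_eq_of_mul_eq_one_right (x_sq h r a)

theorem x_inj {r : Φ} {a b : F} (e : x r a = x r b) : a = b := by
  have := h.inj r (a + b) (by rw [h.add, e, x_sq h])
  linear_combination this - add_self h b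

theorem x_conj {r s k : Φ} (hk : R.rc k = R.rc r + R.rc s) (a b : F) :
    x r a * x s b * (x r a)⁻¹ = x k (a * b) * x s b := by
  rw [← h.rel r s k hk, commutatorElement_def]; group

theorem eq_zero_of_comm {r s k : Φ} (hk : R.rc k = R.rc r + R.rc s) {a : F}
    (hc : Commute (x r a) (x s 1)) : a = 0 := by
  have := h.rel r s k hk a 1
  rw [commutatorElement_eq_one_iff_commute.2 hc, mul_one] at this
  exact h.inj k a this.symm

end Pin

/-- The standing hypotheses. -/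
structure St (R : RS ι Φ) (L : Subgroup G) (x : Φ → F → G) (t : G) : Prop where
  rf : RootFacts R
  ctx : Ctx R L x t
  r2 : R2 L t

namespace St

variable (h : St R L x t)
include h

theorem pin : Pin R x := h.ctx.mod.pin

theorem xL (r : Φ) (a : F) : x r a ∈ L := h.ctx.mod.gen ▸ x_mem_UU (Set.mem_univ r) a

theorem tL {l : G} (hl : l ∈ L) : Commute l t := h.ctx.tc l hl

theorem tx (r : Φ) (a : F) : Commute (x r a) t := h.tL (h.xL r a)

theorem tt : t * t = 1 := by rw [← pow_two, ← h.ctx.t2, pow_orderOf_eq_one]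

theorem t_inv : t⁻¹ = t := inv_eq_of_mul_eq_one_right h.tt

theorem t_not : t ∉ L := fun ht => by
  have := h.ctx.mod.zodd t ⟨ht, h.ctx.tc⟩
  rw [h.ctx.t2] at this
  exact absurd this (by decide)

theorem cy_x (r : Φ) (a : F) : CY R x r (x r a) := fun s hs b => h.pin.com r s hs a b

theorem cy_K {k : G} (hk : k ∈ C[L]) (r : Φ) : CY R x r k := fun s _ b => (hk _ (h.xL s b)).symm

theorem cy_self {r : Φ} {g : G} (hg : CY R x r g) (a : F) : Commute g (x r a) :=
  hg r (by rw [R.pair_self]; norm_num) a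

theorem D_x (r : Φ) (a : F) : D R x t r (x r a) 0 :=
  ⟨h.cy_x r a, by rw [conj_of_comm (h.tx r a), x_zero h.pin, mul_one]⟩

theorem D_K {k : G} (hk : k ∈ C[L]) (hc : Commute k t) (r : Φ) : D R x t r k 0 :=
  ⟨h.cy_K hk r, by rw [conj_of_comm hc, x_zero h.pin, mul_one]⟩

theorem D_mul {r : Φ} {g g' : G} {a a' : F} (h1 : D R x t r g a) (h2 : D R x t r g' a') :
    D R x t r (g * g') (a + a') := by
  refine ⟨fun s hs b => (h1.1 s hs b).mul_left (h2.1 s hs b), ?_⟩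
  calc g * g' * t * (g * g')⁻¹ = g * (g' * t * g'⁻¹) * g⁻¹ := by group
    _ = g * t * g⁻¹ * (g * x r a' * g⁻¹) := by rw [h2.2]; group
    _ = _ := by rw [h1.2, conj_of_comm (h.cy_self h1.1 a'), h.pin.add, mul_assoc]

theorem D_inv {r : Φ} {g : G} {a : F} (h1 : D R x t r g a) : D R x t r g⁻¹ a := by
  refine ⟨fun s hs b => (h1.1 s hs b).inv_left, ?_⟩
  have h2 : g * (t * x r a) * g⁻¹ = t := by
    calc g * (t * x r a) * g⁻¹ = g * t * g⁻¹ * (g * x r a * g⁻¹) := by group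
      _ = _ := by rw [h1.2, conj_of_comm (h.cy_self h1.1 a), mul_assoc, x_sq h.pin, mul_one]
  conv_lhs => rw [← h2]
  group

theorem D_uniq {r : Φ} {g : G} {a a' : F} (h1 : D R x t r g a) (h2 : D R x t r g a') : a = a' :=
  x_inj h.pin (mul_left_cancel (h1.2.symm.trans h2.2))

theorem D_comm {r : Φ} {g : G} (h1 : D R x t r g 0) : Commute g t := by
  have := h1.2
  rw [x_zero h.pin, mul_one, mul_inv_eq_iff_eq_mul] at this
  exact this

theorem norm_of {g : G} (hg : Commute g t) : g ∈ N[L] :=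
  h.ctx.cN (mem_centralizer_singleton_iff.2 hg)

theorem D_ker {r : Φ} {g : G} (h1 : D R x t r g 0) :
    ∃ c, ∃ k ∈ C[L], Commute k t ∧ g = x r c * k := by
  obtain ⟨c, k, hk, rfl⟩ := h.ctx.lf.f1 r g (h.norm_of (h.D_comm h1)) fun s a hs => h1.1 s hs a
  refine ⟨c, k, hk, ?_, rfl⟩
  simpa using (h.tx r c).inv_left.mul_left (h.D_comm h1)

/-- Transport along an element of `L` permuting the root subgroups. -/
theorem D_conj {n : G} (hn : n ∈ L) (w : Equiv.Perm Φ) (hw : ∀ r s, R.pair (w r) (w s) = R.pair r s)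
    (χ : Φ → F) (hχ : ∀ s, χ s ≠ 0) (hx : ∀ s a, n * x s a * n⁻¹ = x (w s) (χ s * a))
    {r : Φ} {g : G} {a : F} (h1 : D R x t r g a) : D R x t (w r) (n * g * n⁻¹) (χ r * a) := by
  constructor
  · intro s hs b
    obtain ⟨s, rfl⟩ := w.surjective s
    refine comm_conj ?_
    have := hx s ((χ s)⁻¹ * b)
    rw [mul_inv_cancel_left₀ (hχ s)] at this
    rw [← this]
    simpa [mul_assoc] using h1.1 s (hw r s ▸ hs) _
  · calc n * g * n⁻¹ * t * (n * g * n⁻¹)⁻¹ = n * (g * (n⁻¹ * t * n⁻¹⁻¹) * g⁻¹) * n⁻¹ := by group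
      _ = n * t * n⁻¹ * (n * x r a * n⁻¹) := by
        rw [conj_of_comm (h.tL (inv_mem hn)), h1.2]; group
      _ = _ := by rw [conj_of_comm (h.tL hn), hx]

theorem nnL (r : Φ) (c : Fˣ) : nn R x r c ∈ L :=
  mul_mem (mul_mem (h.xL _ _) (h.xL _ _)) (h.xL _ _)

theorem onto [Finite F] (hL : Lace R) (hP : PinStmt.{u, v}) (hs : Start R x t) (r : Φ) (a : F) :
    ∃ g, D R x t r g a := by
  obtain ⟨r0, a0, ha0, g0, hg0, e0⟩ := hs
  have h1 : ∀ w ∈ R.W, ∃ g, D R x t (w r0) g a0 := fun w hw => by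
    induction hw using R.W_induction with
    | one => exact ⟨g0, mem_CY.1 hg0, e0⟩
    | step i w _ ih =>
      obtain ⟨g, hg⟩ := ih
      have := h.D_conj (h.nnL (R.simple i) 1) (R.τ (R.simple i))
        (fun r s => R.pair_W (R.τ_mem_W _) r s) (fun _ => 1) (fun _ => one_ne_zero)
        (fun s a => by simpa using (hP R hL x h.pin (R.simple i) s 1 a).1) hg
      rw [one_mul, R.τ_simple] at this
      exact ⟨_, this⟩
  obtain ⟨w, hw, rfl⟩ := h.rf.trans r0 r
  obtain ⟨g, hg⟩ := h1 w hw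
  by_cases ha : a = 0
  · exact ⟨_, ha ▸ h.D_x (w r0) 0⟩
  have h2 : Function.Injective fun c : F => c * c := fun c d e => by
    have e' : c * c = d * d := e
    have : (c + d) * (c + d) = 0 := by linear_combination e' + (c * d + d * d) * h.pin.two
    have h3 := mul_self_eq_zero.1 this
    linear_combination h3 - add_self h.pin d
  obtain ⟨c, hc⟩ := Finite.surjective_of_injective h2 (a / a0)
  have hc' : c * c = a / a0 := hc
  have hc0 : c ≠ 0 := by
    rintro rfl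
    exact div_ne_zero ha ha0 (by rw [← hc', mul_zero])
  have := h.D_conj (mul_mem (h.nnL (w r0) (Units.mk0 c hc0)) (h.nnL (w r0) 1)) 1 (fun _ _ => rfl)
    (fun s => ((Units.mk0 c hc0 ^ R.pair (w r0) s : Fˣ) : F)) (fun _ => Units.ne_zero _)
    (fun s a => (hP R hL x h.pin (w r0) s (Units.mk0 c hc0) a).2) hg
  rw [R.pair_self, zpow_two, Units.val_mul, Units.val_mk0, hc', div_mul_cancel₀ _ ha0] at this
  exact ⟨_, this⟩

theorem pair_sum {γ δ α : Φ} (hα : R.rc α = R.rc γ + R.rc δ) :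
    R.pair γ δ = -1 ∧ R.pair δ γ = -1 ∧ R.pair γ α = 1 ∧ R.pair δ α = 1 ∧ R.pair α γ = 1 ∧
      R.pair α δ = 1 := by
  have h1 := (h.rf.sum γ δ).2 ⟨α, hα⟩
  have h2 := h.rf.symm γ δ
  have h3 := h.rf.pair_add γ γ δ α hα
  have h4 := h.rf.pair_add δ γ δ α hα
  have h5 := h.rf.symm γ α
  have h6 := h.rf.symm δ α
  rw [R.pair_self] at h3 h4
  omega

section br

variable {γ δ α : Φ} (hα : R.rc α = R.rc γ + R.rc δ) {p : G} {a : F} (hp : D R x t γ p a)
include hα hp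

theorem y_t (b : F) : (p⁻¹ * (x δ b * p * (x δ b)⁻¹)) * t * (p⁻¹ * (x δ b * p * (x δ b)⁻¹))⁻¹ =
    t * x α (b * a) := by
  obtain ⟨-, -, h3, -, h5, -⟩ := h.pair_sum hα
  have e1 := x_conj h.pin (hα.trans (add_comm _ _)) b a
  have c1 := (hp.1 α (by omega) (b * a)).inv_left
  have c2 := (h.cy_self hp.1 a).inv_left
  calc _ = p⁻¹ * (x δ b * (p * ((x δ b)⁻¹ * t * (x δ b)⁻¹⁻¹) * p⁻¹) * (x δ b)⁻¹) * p⁻¹⁻¹ := by group
    _ = p⁻¹ * ((x δ b * t * (x δ b)⁻¹) * (x δ b * x γ a * (x δ b)⁻¹)) * p⁻¹⁻¹ := by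
      rw [conj_of_comm (h.tx δ b).inv_left, hp.2]; group
    _ = (p⁻¹ * t * p⁻¹⁻¹) * (p⁻¹ * x α (b * a) * p⁻¹⁻¹) * (p⁻¹ * x γ a * p⁻¹⁻¹) := by
      rw [conj_of_comm (h.tx δ b), e1]; group
    _ = t * (x γ a * x α (b * a) * (x γ a)⁻¹) := by
      rw [(h.D_inv hp).2, conj_of_comm c1, conj_of_comm c2, x_inv h.pin]; group
    _ = _ := by rw [conj_of_comm (h.pin.com γ α (by omega) _ _)]

theorem y_B (b : F) {β : Φ} (h1 : 0 ≤ R.pair γ β) (h2 : 0 ≤ R.pair α β) (c : F) :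
    Commute (p⁻¹ * (x δ b * p * (x δ b)⁻¹)) (x β c) := by
  refine (hp.1 β h1 c).inv_left.mul_left (comm_conj ?_)
  have h3 := h.rf.pair_add β γ δ α hα
  rw [h.rf.symm β α, h.rf.symm β γ, h.rf.symm β δ] at h3
  by_cases h4 : 0 ≤ R.pair δ β
  · have := conj_of_comm (h.pin.com δ β h4 b c).inv_left
    rw [inv_inv] at this
    rw [this]
    exact hp.1 β h1 c
  have h5 : R.pair δ β = -1 := by
    rcases h.rf.vals δ β with e | e | e | e | e
    · rw [e, R.pair_self] at h4; omega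
    · rw [e, R.pair_neg_right, (h.pair_sum hα).2.2.2.2.2] at h2; omega
    all_goals omega
  obtain ⟨k, hk⟩ := (h.rf.sum δ β).1 h5
  have h6 := x_conj h.pin hk b c
  rw [x_inv h.pin] at h6 ⊢
  rw [h6]
  have h7 := h.rf.pair_add γ δ β k hk
  rw [(h.pair_sum hα).1] at h7
  exact (hp.1 k (by omega) _).mul_right (hp.1 β h1 c)

variable (ho : ∀ r a, ∃ g, D R x t r g a)
include ho

theorem y_dec (b : F) :
    ∃ z f, D R x t α z (b * a) ∧ p⁻¹ * (x δ b * p * (x δ b)⁻¹) = z * x γ f := by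
  obtain ⟨-, -, h3, -, h5, -⟩ := h.pair_sum hα
  obtain ⟨z, hz⟩ := ho α (b * a)
  have e := h.y_t hα hp b
  have hB := fun β c h1 h2 => h.y_B hα hp b (β := β) h1 h2 c
  generalize p⁻¹ * (x δ b * p * (x δ b)⁻¹) = y at e hB ⊢
  have hc : Commute (z⁻¹ * y) t := by
    have : z⁻¹ * y * t * (z⁻¹ * y)⁻¹ = t := by
      calc _ = z⁻¹ * (y * t * y⁻¹) * z := by group
        _ = z⁻¹ * (z * t * z⁻¹) * z := by rw [e, hz.2]
        _ = _ := by group
    exact mul_inv_eq_iff_eq_mul.1 this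
  obtain ⟨f, e', k, hk, h6⟩ := h.ctx.lf.f2 γ α h3 _ (h.norm_of hc) fun β c h1 h2 =>
    (hz.1 β h2 c).inv_left.mul_left (hB β c h1 h2)
  have hkt : Commute k t := by
    have := ((h.tx γ f).mul_left (h.tx α e')).inv_left.mul_left (h6 ▸ hc)
    rwa [inv_mul_cancel_left] at this
  have h7 := h.D_mul hz (h.D_mul (h.D_x α e') (h.D_K hk hkt α))
  rw [add_zero, add_zero] at h7
  refine ⟨_, f, h7, ?_⟩
  rw [mul_assoc z, ((h.D_mul (h.D_x α e') (h.D_K hk hkt α)).1 γ (by omega) f).eq, ← mul_assoc (x γ f),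
    ← h6, mul_inv_cancel_left]

theorem y_D (b : F) : D R x t α (p⁻¹ * (x δ b * p * (x δ b)⁻¹)) (b * a) := by
  obtain ⟨z, f, hz, e⟩ := h.y_dec hα hp ho b
  obtain ⟨p1, p2, p3, p4, p5, p6⟩ := h.pair_sum hα
  obtain ⟨ε, q1, q2⟩ := h.rf.rc1 γ δ p1
  obtain ⟨δ', hδ'⟩ := (h.rf.sum δ ε).1 q2
  obtain ⟨-, r2, r3, r4, r5, r6⟩ := h.pair_sum hδ'
  have q3 : R.pair γ δ' = -1 := by rw [h.rf.pair_add γ δ ε δ' hδ']; omega
  obtain ⟨α', hα'⟩ := (h.rf.sum γ δ').1 q3
  obtain ⟨-, s2, s3, s4, s5, s6⟩ := h.pair_sum hα'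
  obtain ⟨z', f', hz', e'⟩ := h.y_dec hα' hp ho b
  have q4 : R.pair α δ' = 0 := by
    rw [h.rf.symm, h.rf.pair_add δ' γ δ α hα]; omega
  have q5 : R.pair α' δ = 0 := by
    rw [h.rf.symm, h.rf.pair_add δ γ δ' α' hα']; omega
  have hδ : R.rc δ = R.rc (R.neg ε) + R.rc δ' := by rw [hδ', R.rc_neg]; ring
  have q6 : R.pair γ (R.neg ε) = 0 := by rw [R.pair_neg_right, q1, neg_zero]
  have cl := x_conj h.pin hδ 1
  set l := x (R.neg ε) 1 with hl
  have c1 : Commute p l := hp.1 _ q6.ge 1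
  have c2 : Commute (x γ f') l := h.pin.com _ _ q6.ge _ _
  have c3 : Commute z' (x δ b) := hz'.1 _ q5.ge _
  have e1 := x_conj h.pin (hα.trans (add_comm _ _)) b f'
  have key : l * z' * l⁻¹ * x γ f' = z * x γ f * (z' * (x α (b * f') * x γ f')) := by
    calc l * z' * l⁻¹ * x γ f' = l * (z' * x γ f') * l⁻¹ := by
          conv_lhs => rw [← conj_of_comm c2.symm]
          group
      _ = (l * p * l⁻¹)⁻¹ * ((l * x δ' b * l⁻¹) * (l * p * l⁻¹) * (l * x δ' b * l⁻¹)⁻¹) := by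
          rw [← e']; group
      _ = (p⁻¹ * (x δ b * p * (x δ b)⁻¹)) *
            (x δ b * (p⁻¹ * (x δ' b * p * (x δ' b)⁻¹)) * (x δ b)⁻¹) := by
          rw [conj_of_comm c1.symm, cl, one_mul]; group
      _ = z * x γ f * ((x δ b * z' * (x δ b)⁻¹) * (x δ b * x γ f' * (x δ b)⁻¹)) := by
          rw [e, e']; group
      _ = _ := by rw [conj_of_comm c3.symm, e1]
  have key2 : x γ f = z⁻¹ * (l * z' * l⁻¹) * (z' * x α (b * f'))⁻¹ := by
    have : l * z' * l⁻¹ = z * x γ f * (z' * x α (b * f')) :=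
      mul_right_cancel (key.trans (by group))
    rw [this]; group
  have c4 : Commute (l * z' * l⁻¹) (x δ' 1) := by
    refine comm_conj ?_
    have := cl 1
    rw [hl, x_inv h.pin] at this ⊢
    rw [this]
    exact (hz'.1 _ q5.ge _).mul_right (hz'.1 _ (by omega) _)
  have c5 : Commute (x γ f) (x δ' 1) := by
    rw [key2]
    exact ((hz.1 _ q4.ge _).inv_left.mul_left c4).mul_left
      ((hz'.1 _ (by omega) _).mul_left (h.pin.com _ _ q4.ge _ _)).inv_left
  rw [e, eq_zero_of_comm h.pin hα' c5, x_zero h.pin, mul_one]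
  exact hz

end br

end St

end Cfsg.Agent.H15.SLHat
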