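import Mathlib
import Cfsg.Agent.H15.BSW1
import Cfsg.Agent.H15.IndTwo
import Cfsg.Agent.H11.Isometry
import Cfsg.Agent.H14.InduceChar
import Cfsg.Agent.H92.BHM

/-!
# An element whose class size is the order of a self-centralizing abelian subgroup
-/

set_option autoImplicit false

namespace Cfsg.Agent.H15

open Subgroup Cfsg.Agent.H92 Cfsg.Agent.H11
open scoped ComplexConjugate

universe u

variable {G : Type u} [Group G]

theorem SelfC.hom_eq_one [Finite G] {H : Subgroup G} (hS : SelfC H) {x : G} (hxH : x ∉ H)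
    (c : H →* H) (hc : ∀ h : H, (c h : G) = x⁻¹ * h * x) {lam : H →* ℂˣ} (h : lam = lam.comp c) :
    lam = 1 := by
  have hinj : Function.Injective fun h : H => h⁻¹ * c h := by
    intro a b e
    have e1 : (a : G)⁻¹ * (x⁻¹ * a * x) = (b : G)⁻¹ * (x⁻¹ * b * x) := by
      have := congrArg Subtype.val e
      simpa [hc] using this
    by_contra hne
    apply hxH
    refine hS.mem (a := (b : G) * (a : G)⁻¹) (mul_mem b.2 (inv_mem a.2)) ?_ ?_
    · intro e2
      exact hne (Subtype.ext (mul_inv_eq_one.mp e2).symm)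
    · calc x * (b * (a : G)⁻¹) = x * b * ((a : G)⁻¹ * (x⁻¹ * a * x)) * (x⁻¹ * (a : G)⁻¹ * x) := by
            group
        _ = b * (a : G)⁻¹ * x := by rw [e1]; group
  ext k
  obtain ⟨a, rfl⟩ := Finite.surjective_of_injective hinj k
  have : lam (c a) = lam a := (DFunLike.congr_fun h a).symm
  simp [this]

theorem SelfC.ind_norm_le [Fintype G] {H : Subgroup G} (hS : SelfC H) {lam mu : H →* ℂˣ}
    (hl : lam ≠ 1) (hm : mu ≠ 1) :
    (classInner (indFun H ((fun h => (lam h : ℂ)) - fun h => (mu h : ℂ)))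
      (indFun H ((fun h => (lam h : ℂ)) - fun h => (mu h : ℂ)))).re ≤ 2 := by
  classical
  set φ : H → ℂ := (fun h => (lam h : ℂ)) - fun h => (mu h : ℂ) with hφ
  have hgen : IsGeneralizedCharacter G (indFun H φ) := H14.IsGeneralizedCharacter.indFun H
    (isGen_sub (isGen_of_irr (isIrrCharacter_monoidHom lam))
      (isGen_of_irr (isIrrCharacter_monoidHom mu)))
  rw [H14.classInner_indFun_left H φ (isClassFunction_of_isGen hgen)]
  have e1 : (fun h : H => indFun H φ h) =
      (Nat.card H : ℂ)⁻¹ • ∑ x : G, fun h : H => extendByZero H φ (x⁻¹ * h * x) := by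
    ext h
    simp [indFun, Finset.sum_apply]
  have key : ∀ x : G, (classInner φ fun h : H => extendByZero H φ (x⁻¹ * h * x)).re ≤
      if x ∈ H then 2 else 0 := by
    intro x
    by_cases hx : x ∈ normalizer (H : Set G)
    · let c : H →* H := (H.normalizerMonoidHom ⟨x⁻¹, inv_mem hx⟩).toMonoidHom
      have hc : ∀ h : H, (c h : G) = x⁻¹ * h * x := by
        intro h
        simp [c]
      have e2 : (fun h : H => extendByZero H φ (x⁻¹ * h * x)) =
          (fun h => ((lam.comp c) h : ℂ)) - fun h => ((mu.comp c) h : ℂ) := by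
        ext h
        rw [← hc h, H14.extendByZero_coe]
        rfl
      rw [e2, hφ, classInner_sub_left, classInner_sub_right, classInner_sub_right,
        classInner_monoidHom, classInner_monoidHom, classInner_monoidHom, classInner_monoidHom]
      by_cases hxH : x ∈ H
      · rw [if_pos hxH]
        split_ifs <;> norm_num
      · rw [if_neg hxH, if_neg fun h => hl (hS.hom_eq_one hxH c hc h),
          if_neg (c := mu = mu.comp c) fun h => hm (hS.hom_eq_one hxH c hc h)]
        split_ifs <;> norm_num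
    · have e2 : (fun h : H => extendByZero H φ (x⁻¹ * h * x)) = 0 := by
        ext h
        by_cases h1 : h = 1
        · subst h1
          have : x⁻¹ * ((1 : H) : G) * x = ((1 : H) : G) := by simp
          rw [this, H14.extendByZero_coe]
          simp [hφ]
        · refine H14.extendByZero_of_not_mem H φ fun hm => hx ?_
          rw [← inv_mem_iff]
          exact hS.mem_normalizer h.2 (fun e => h1 (Subtype.ext e)) (by simpa using hm)
      rw [e2, classInner_zero_right]
      split_ifs <;> norm_num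
  rw [e1, classInner_smul_right, classInner_sum_right]
  have e3 : conj ((Nat.card H : ℂ)⁻¹) = (((Nat.card H : ℝ)⁻¹ : ℝ) : ℂ) := by simp
  rw [e3, Complex.re_ofReal_mul, Complex.re_sum]
  have e4 := Finset.sum_le_sum fun x (_ : x ∈ Finset.univ) => key x
  have e5 : (∑ x : G, if x ∈ H then (2 : ℝ) else 0) = 2 * Nat.card H := by
    rw [← Finset.sum_filter, Finset.sum_const, ← Fintype.card_subtype, ← Nat.card_eq_fintype_card]
    simp [mul_comm]
  rw [e5] at e4
  have hpos : (0 : ℝ) < Nat.card H := by exact_mod_cast Nat.card_pos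
  calc _ ≤ (Nat.card H : ℝ)⁻¹ * (2 * Nat.card H) := by gcongr
    _ = 2 := by field_simp

theorem irr_mul_of_coprime [Fintype G] {χ : G → ℂ} (hχ : IsIrrCharacter G χ) {x y : G}
    (h : (cs[x]).Coprime cs[y]) : χ 1 * χ (x * y) = χ x * χ y := by
  have h1 := sum_irr_conj_mul hχ x y
  have h2 : ∀ g : G, χ (g * x * g⁻¹ * y) = χ (x * y) := by
    intro g
    obtain ⟨d, -, hd⟩ := mul_mem_conjSet_of_coprime h (a := g * x * g⁻¹) (b := y)
      ⟨g, trivial, rfl⟩ (self_mem_conjSet _ _)
    rw [← hd]
    exact isClassFunction_of_isGen (isGen_of_irr hχ) _ _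
  simp only [h2, Finset.sum_const, Finset.card_univ, nsmul_eq_mul, ← Nat.card_eq_fintype_card] at h1
  have h3 : (Nat.card G : ℂ) ≠ 0 := by exact_mod_cast Nat.card_pos.ne'
  have h4 : χ 1 ≠ 0 := irr_apply_one_ne_zero hχ
  field_simp at h1
  rw [← h1]; ring

variable [Fintype G] {H : Subgroup G} (hS : SelfC H) {s : G}
  (hcop : ∀ k ∈ H, k ≠ 1 → (cs[s]).Coprime cs[k])
  (hoff : ∀ k ∈ H, ∀ g : G, g * (s * k) * g⁻¹ ∉ H)
include hS hcop hoff

theorem SelfC.inner_eq [Fintype H] {ψ : G → ℂ} (hψ : IsIrrCharacter G ψ) (hs : ψ s ≠ 0)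
    {lam mu : H →* ℂˣ} (hl : lam ≠ 1) (hm : mu ≠ 1) :
    classInner (fun h : H => ψ h) (fun h => (lam h : ℂ)) =
      classInner (fun h : H => ψ h) (fun h => (mu h : ℂ)) := by
  set φ : H → ℂ := (fun h => (lam h : ℂ)) - fun h => (mu h : ℂ) with hφ
  have hgen : IsGeneralizedCharacter G (indFun H φ) := H14.IsGeneralizedCharacter.indFun H
    (isGen_sub (isGen_of_irr (isIrrCharacter_monoidHom lam))
      (isGen_of_irr (isIrrCharacter_monoidHom mu)))
  have hcl := isClassFunction_of_isGen (isGen_of_irr hψ)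
  suffices h0 : classInner (indFun H φ) ψ = 0 by
    rw [H14.classInner_indFun_left H φ hcl, classInner_eq_zero_comm, hφ, classInner_sub_right,
      sub_eq_zero] at h0
    exact h0
  have h1 : indFun H φ 1 = 0 := H14.indFun_eq_zero_of_forall H φ 1 fun x hx => by
    have : (⟨x * 1 * x⁻¹, hx⟩ : H) = 1 := Subtype.ext (by simp)
    rw [this]; simp [hφ]
  obtain ⟨n, hn⟩ := exists_nat_classInner_self hgen
  have hle := hS.ind_norm_le hl hm
  rw [← hφ, hn] at hle
  have hn2 : n ≤ 2 := by exact_mod_cast hle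
  interval_cases n
  · have : indFun H φ = 0 := classInner_self_eq_zero.mp (by simpa using hn)
    rw [this, classInner_zero_left]
  · exfalso
    rcases irr_or_neg_of_classInner_self hgen (by simpa using hn) with h | h
    · exact irr_apply_one_ne_zero h h1
    · exact irr_apply_one_ne_zero h (by simp [h1])
  · obtain ⟨α, β, hα, hβ, hne, e⟩ := exists_sub_of_classInner_self_eq_two hgen (by simpa using hn) h1
    have hv : ∀ k ∈ H, α (s * k) = β (s * k) := by
      intro k hk
      have := H14.indFun_eq_zero_of_not_conj H φ (s * k) (hoff k hk)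
      rw [e] at this
      exact sub_eq_zero.mp this
    have hvs : α s = β s := by simpa using hv 1 (one_mem H)
    have hv1 : α 1 = β 1 := by
      rw [e] at h1
      exact sub_eq_zero.mp h1
    have hz : α s = 0 := by
      by_contra hz
      apply hne
      ext g
      by_cases hg : ∃ x : G, x * g * x⁻¹ ∈ H
      · obtain ⟨x, hx⟩ := hg
        rw [← isClassFunction_of_isGen (isGen_of_irr hα) g x,
          ← isClassFunction_of_isGen (isGen_of_irr hβ) g x]
        by_cases h1 : x * g * x⁻¹ = 1
        · rw [h1, hv1]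
        · have a1 := irr_mul_of_coprime hα (hcop _ hx h1)
          have a2 := irr_mul_of_coprime hβ (hcop _ hx h1)
          rw [← hv _ hx, ← hv1, ← hvs, a1] at a2
          exact mul_left_cancel₀ hz a2
      · push Not at hg
        have := H14.indFun_eq_zero_of_not_conj H φ g hg
        rw [e] at this
        exact sub_eq_zero.mp this
    rw [e, classInner_sub_left, classInner_irr_of_ne hα hψ (by rintro rfl; exact hs hz),
      classInner_irr_of_ne hβ hψ (by rintro rfl; exact hs (hvs ▸ hz)), sub_zero]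

theorem SelfC.const {ψ : G → ℂ} (hψ : IsIrrCharacter G ψ) (hs : ψ s ≠ 0) {k k' : G} (hk : k ∈ H)
    (hk' : k' ∈ H) (h1 : k ≠ 1) (h1' : k' ≠ 1) : ψ k = ψ k' := by
  classical
  have := Fintype.ofFinite H
  have := Fintype.ofFinite (IrrCharacter H)
  have hcomm : ∀ a b : H, a * b = b * a := fun a b => Subtype.ext (hS.comm a.2 b.2)
  have hcl := isClassFunction_restrict (isClassFunction_of_isGen (isGen_of_irr hψ)) H
  obtain ⟨m, hm⟩ : ∃ m : ℂ, ∀ χ : IrrCharacter H, (χ : H → ℂ) ≠ (fun _ => 1) →
      classInner (fun h : H => ψ h) χ = m := by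
    by_cases h : ∃ lam : H →* ℂˣ, lam ≠ 1
    · obtain ⟨lam, hl⟩ := h
      refine ⟨classInner (fun h : H => ψ h) (fun h => (lam h : ℂ)), fun χ hχ => ?_⟩
      obtain ⟨mu, hmu⟩ := exists_monoidHom_of_apply_one_eq_one (isCharacter_of_irr χ.2)
        (irr_apply_one_of_comm hcomm χ.2)
      rw [hmu]
      refine hS.inner_eq hcop hoff hψ hs ?_ hl
      rintro rfl
      exact hχ (by rw [hmu]; simp)
    · push Not at h
      refine ⟨0, fun χ hχ => ?_⟩
      obtain ⟨mu, hmu⟩ := exists_monoidHom_of_apply_one_eq_one (isCharacter_of_irr χ.2)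
        (irr_apply_one_of_comm hcomm χ.2)
      exact absurd (by rw [hmu, h mu]; simp) hχ
  have e1 := classFun_apply_eq_sum hcl ⟨k, hk⟩
  have e2 := classFun_apply_eq_sum hcl ⟨k', hk'⟩
  have e3 := sum_degree_mul_apply_of_ne_one (g := (⟨k, hk⟩ : H)) fun e => h1 (congrArg Subtype.val e)
  have e4 := sum_degree_mul_apply_of_ne_one (g := (⟨k', hk'⟩ : H))
    fun e => h1' (congrArg Subtype.val e)
  simp only [fun χ : IrrCharacter H => irr_apply_one_of_comm hcomm χ.2, one_mul] at e3 e4
  rw [← sub_eq_zero]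
  change ψ ((⟨k, hk⟩ : H) : G) - ψ ((⟨k', hk'⟩ : H) : G) = 0
  rw [e1, e2, ← Finset.sum_sub_distrib]
  calc _ = ∑ χ : IrrCharacter H, m * ((χ : H → ℂ) ⟨k, hk⟩ - (χ : H → ℂ) ⟨k', hk'⟩) := by
        refine Finset.sum_congr rfl fun χ _ => ?_
        by_cases hχ : (χ : H → ℂ) = fun _ => 1
        · rw [hχ]; simp
        · rw [hm χ hχ]; ring
    _ = 0 := by rw [← Finset.mul_sum, Finset.sum_sub_distrib, e3, e4]; simp

theorem SelfC.isConj_mul {k k' : G} (hk : k ∈ H) (hk' : k' ∈ H) (h1 : k ≠ 1) (h1' : k' ≠ 1) :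
    IsConj (s * k) (s * k') := by
  have := Fintype.ofFinite (IrrCharacter G)
  rw [isConj_iff_forall_irr]
  intro χ hχ
  have a1 := irr_mul_of_coprime hχ (hcop k hk h1)
  have a2 := irr_mul_of_coprime hχ (hcop k' hk' h1')
  refine mul_left_cancel₀ (irr_apply_one_ne_zero hχ) ?_
  rw [a1, a2]
  by_cases hs : χ s = 0
  · rw [hs]; simp
  · rw [hS.const hcop hoff hχ hs hk hk' h1 h1']

/-- `s` is central modulo the core of its centralizer, or isolated. -/
theorem SelfC.isolated (hcs : cs[s] = Nat.card H)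
    (hd : ∀ k ∈ H, ∀ g : G, g⁻¹ * k * g ∈ Ce[s] → k = 1) :
    s ∈ (Ce[s]).normalCore ∨ ∀ g : G, Commute s (g * s * g⁻¹) → g * s * g⁻¹ = s := by
  classical
  set K := Ce[s] with hK
  have := Fintype.ofFinite H
  have := Fintype.ofFinite (G ⧸ K)
  let F : G → ℕ := fun u => (Finset.univ.filter fun x : G ⧸ K => u • x = x).card
  have hF : ∀ u v : G, IsConj u v → F u = F v := by
    intro u v h
    obtain ⟨c, rfl⟩ := isConj_iff.mp h
    refine Finset.card_bij (fun x _ => c • x) ?_ ?_ ?_
    · intro x hx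
      simp only [Finset.mem_filter, Finset.mem_univ, true_and] at hx ⊢
      rw [smul_smul, inv_mul_cancel_right, mul_smul, hx]
    · intro x _ y _ e
      exact smul_left_cancel c e
    · intro y hy
      simp only [Finset.mem_filter, Finset.mem_univ, true_and] at hy
      refine ⟨c⁻¹ • y, ?_, smul_inv_smul c y⟩
      simp only [Finset.mem_filter, Finset.mem_univ, true_and]
      rw [eq_inv_smul_iff, ← mul_smul, ← mul_smul, hy]
  have hone : ∀ x : G ⧸ K, (Finset.univ.filter fun k : H => (s * k) • x = x).card = 1 := by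
    intro x
    have hinj : Function.Injective fun k : H => (k : G) • x := by
      intro a b e
      induction x using QuotientGroup.induction_on with
      | H g =>
        have e1 : ((a * g : G) : G ⧸ K) = (b * g : G) := e
        rw [QuotientGroup.eq] at e1
        have := hd ((a : G)⁻¹ * b) (mul_mem (inv_mem a.2) b.2) g (by
          convert e1 using 1; group)
        exact Subtype.ext (inv_mul_eq_one.mp this)
    have hbij : Function.Bijective fun k : H => (k : G) • x :=
      (Nat.bijective_iff_injective_and_card _).mpr ⟨hinj, hcs.symm⟩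
    obtain ⟨k, hk⟩ := hbij.2 (s⁻¹ • x)
    rw [Finset.card_eq_one]
    refine ⟨k, ?_⟩
    ext k'
    simp only [Finset.mem_filter, Finset.mem_univ, true_and, Finset.mem_singleton]
    rw [mul_smul, ← eq_inv_smul_iff, ← hk]
    exact hinj.eq_iff
  have hsum : ∑ k : H, F (s * k) = Nat.card H := by
    simp only [F, Finset.card_filter]
    rw [Finset.sum_comm]
    simp only [← Finset.card_filter, hone]
    rw [Finset.sum_const, Finset.card_univ, ← Nat.card_eq_fintype_card, smul_eq_mul, mul_one, ← hcs]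
    rfl
  rw [← Finset.add_sum_erase _ _ (Finset.mem_univ (1 : H))] at hsum
  simp only [OneMemClass.coe_one, mul_one] at hsum
  have hfix : ∀ g : G, s • (g : G ⧸ K) = g ↔ g⁻¹ * s * g ∈ K := by
    intro g
    change ((s * g : G) : G ⧸ K) = g ↔ _
    rw [eq_comm, QuotientGroup.eq, mul_assoc]
  by_cases h0 : ∃ k : H, k ≠ 1 ∧ F (s * k) ≠ 0
  · right
    obtain ⟨k0, hk0, hF0⟩ := h0
    have h1 : (Finset.univ.erase (1 : H)).card • 1 ≤ ∑ k ∈ Finset.univ.erase (1 : H), F (s * k) := by
      refine Finset.card_nsmul_le_sum _ _ _ fun k hk => ?_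
      rw [hF _ _ (hS.isConj_mul hcop hoff k.2 k0.2
        (fun e => (Finset.mem_erase.mp hk).1 (Subtype.ext e)) fun e => hk0 (Subtype.ext e))]
      omega
    rw [Finset.card_erase_of_mem (Finset.mem_univ _), Finset.card_univ, ← Nat.card_eq_fintype_card,
      smul_eq_mul, mul_one] at h1
    have h2 : F s ≤ 1 := by
      have : 0 < Nat.card H := Nat.card_pos
      omega
    intro g hg
    have h3 := Finset.card_le_one.mp h2 (g : G ⧸ K) (by
      simp only [Finset.mem_filter, Finset.mem_univ, true_and]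
      rw [hfix, hK, ← mem_C_conj]
      exact mem_C.mpr hg) ((1 : G) : G ⧸ K) (by
      simp only [Finset.mem_filter, Finset.mem_univ, true_and]
      rw [hfix]
      simpa using self_mem_C s)
    rw [QuotientGroup.eq, mul_one, inv_mem_iff] at h3
    rw [(mem_C.mp h3).eq]
    group
  · left
    push Not at h0
    rw [Finset.sum_eq_zero fun k hk => h0 k (Finset.mem_erase.mp hk).1, add_zero] at hsum
    have h1 : (Finset.univ.filter fun x : G ⧸ K => s • x = x) = Finset.univ :=
      Finset.eq_univ_of_card _ (by rw [← Nat.card_eq_fintype_card]; exact hsum.trans hcs.symm)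
    intro g
    have h2 : ((g⁻¹ : G) : G ⧸ K) ∈ Finset.univ.filter fun x : G ⧸ K => s • x = x := by
      rw [h1]; exact Finset.mem_univ _
    simp only [Finset.mem_filter, Finset.mem_univ, true_and] at h2
    simpa using (hfix _).mp h2

end Cfsg.Agent.H15
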