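import Mathlib
import Cfsg.Agent.H15.CS2
import Cfsg.Agent.H15.CS3
import Cfsg.Agent.H3.Fitting
import Cfsg.Agent.H5.Semiregular
import Cfsg.Agent.H92.QFrob

/-!
# Three class sizes, `c ∤ b`: the centralizers of index `c`
-/

set_option autoImplicit false
set_option linter.unusedSectionVars false

namespace Cfsg.Agent.H15

open Subgroup Cfsg.Agent.H92

universe u

variable {G : Type u} [Group G] [Finite G]

theorem C_zpowers (x : G) : centralizer (zpowers x : Set G) = Ce[x] := by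
  ext g
  rw [← le_C_iff, zpowers_le, mem_C_comm]

theorem exists_orderOf_prime_mem {H : Subgroup G} {r : ℕ} (hr : r.Prime) (h : r ∣ Nat.card H) :
    ∃ w ∈ H, orderOf w = r := by
  have : Fact r.Prime := ⟨hr⟩
  obtain ⟨w, hw⟩ := exists_prime_orderOf_dvd_card' r h
  exact ⟨w, w.2, by rw [orderOf_coe, hw]⟩

namespace Tri

variable {a b c : ℕ} (T : Tri G a b c)
include T

theorem minC (hcb : ¬ c ∣ b) {x v : G} (hx : cs[x] = c) (h : Ce[v] ≤ Ce[x]) : Ce[v] = Ce[x] := by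
  have hd := hx ▸ cs_dvd_of_le h
  have hv : v ≠ 1 := by
    rintro rfl
    rw [cs_one] at hd
    exact hcb (hd.trans (one_dvd b))
  rcases T.all v hv with e | e | e
  · exact absurd (e ▸ hd) T.not_c_dvd_a
  · exact absurd (e ▸ hd) hcb
  · exact eq_of_le_of_index_eq h (e.trans hx.symm)

theorem le_of_C (hcb : ¬ c ∣ b) {u w : G} (hu : cs[u] = c) (hc : Commute u w)
    (hco : (orderOf u).Coprime (orderOf w)) : Ce[u] ≤ Ce[w] := by
  have e := C_mul_of_coprime hc hco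
  rw [← T.minC hcb hu (e ▸ inf_le_left : Ce[u * w] ≤ Ce[u]), e]
  exact inf_le_right

theorem selfC_or (hcb : ¬ c ∣ b) {z : G} {p : ℕ} (hp : p.Prime) (hzo : orderOf z = p)
    (hz : cs[z] = c) : SelfC Ce[z] ∨ (IsPGroup p Ce[z] ∧ ∃ v ∈ Ce[z], ¬ Ce[z] ≤ Ce[v]) := by
  have : Fact p.Prime := ⟨hp⟩
  by_cases h : ∀ v ∈ Ce[z], Ce[z] ≤ Ce[v]
  · exact Or.inl fun y hy h1 => (T.maxC hz h1 (h y hy)).symm
  push Not at h
  refine Or.inr ⟨?_, h⟩
  by_contra hP
  obtain ⟨v, hv, hn⟩ := h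
  apply hn
  obtain ⟨r, hr, hd, hrp⟩ : ∃ r : ℕ, r.Prime ∧ r ∣ Nat.card Ce[z] ∧ r ≠ p := by
    by_contra hcon
    push Not at hcon
    exact hP (IsPGroup.iff_card.mpr ((eq_pow_iff_forall hp Nat.card_pos.ne').mpr hcon))
  obtain ⟨w, hw, hwo⟩ := exists_orderOf_prime_mem hr hd
  have hwz : Ce[z] = Ce[w] := T.maxC hz (ne_one_of_ord hr hwo)
    (T.le_of_C hcb hz (mem_C'.mp hw) (by rw [hzo, hwo, Nat.coprime_primes hp hr]; exact hrp.symm))
  intro g hg
  rw [mem_C_comm]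
  refine mem_of_forall_primePow fun y hy s hs _ hyo => mem_C_comm.mp ?_
  have hyz : y ∈ Ce[z] := zpowers_le.mpr hv hy
  by_cases hsp : s = p
  · rw [hwz] at hyz hg
    exact T.le_of_C hcb (hwz ▸ hz) (mem_C'.mp hyz) (coprime_of_pow_of_pow hr hs (hsp ▸ hrp)
      ⟨1, by rw [hwo, pow_one]⟩ hyo) hg
  · exact T.le_of_C hcb hz (mem_C'.mp hyz) (coprime_of_pow_of_pow hp hs (Ne.symm hsp)
      ⟨1, by rw [hzo, pow_one]⟩ hyo) hg

theorem false_of_pgroup (hcb : ¬ c ∣ b) {z : G} {p : ℕ} (hp : p.Prime) (hpa : p ∣ a)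
    (hzo : orderOf z = p) (hz : cs[z] = c) (hP : IsPGroup p Ce[z]) {v : G} (hv : v ∈ Ce[z])
    (hn : ¬ Ce[z] ≤ Ce[v]) : False := by
  have : Fact p.Prime := ⟨hp⟩
  have hpc := T.not_dvd_c hp hpa
  obtain ⟨n, hn'⟩ := IsPGroup.iff_card.mp hP
  have hG : c * p ^ n = Nat.card G := by rw [← hz, ← hn', cs_mul_card]
  have pC : ∀ u : G, cs[u] = c → IsPGroup p Ce[u] := fun u hu =>
    IsPGroup.of_card ((card_C_eq_of_cs_eq (hu.trans hz.symm)).trans hn')
  have hap : ∃ k, a = p ^ k :=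
    eq_pow_of_dvd_pow hp (T.cop.dvd_of_dvd_mul_left (hG ▸ T.a_dvd_card))
  have noB : ∀ u : G, (∃ k, orderOf u = p ^ k) → cs[u] ≠ b := by
    intro u hu hb
    obtain ⟨g, hg⟩ := exists_conj_mem_C hp (hz ▸ hpc) hu
    obtain ⟨r, hr, hd, hrp⟩ : ∃ r : ℕ, r.Prime ∧ r ∣ Nat.card Ce[u] ∧ r ≠ p := by
      by_contra hcon
      push Not at hcon
      obtain ⟨i, hi⟩ := (eq_pow_iff_forall hp Nat.card_pos.ne').mpr hcon
      have e := cs_mul_card u
      rw [hb, hi, ← hG] at e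
      exact hcb ((Nat.Coprime.pow_right i ((Nat.Prime.coprime_iff_not_dvd hp).mpr hpc).symm
        ).dvd_of_dvd_mul_right (e ▸ dvd_mul_right _ _))
    obtain ⟨w, hw, hwo⟩ := exists_orderOf_prime_mem hr hd
    have h1 := T.le_of_B hb (mem_C'.mp hw) (coprime_of_pow_of_pow hp hr hrp.symm hu
      ⟨1, by rw [hwo, pow_one]⟩) hg
    exact not_dvd_of_eq_pow hr hp hrp (orderOf_eq_pow_of_mem (pC _ (by rw [cs_conj, hz]))
      (mem_C_comm.mp h1)) (hwo ▸ dvd_rfl)
  have inO : ∀ x : G, (∃ k, orderOf x = p ^ k) → cs[x] = a → x ∈ pCore p G := by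
    intro x hx hxa
    obtain ⟨Q, hQ⟩ := exists_sylow_mem hx
    exact H3.le_pCore (Q.2.to_le (normalClosure_le_of_cs_pow hp (hxa ▸ hap) hQ Q.not_dvd_index))
      (subset_normalClosure rfl)
  have coreC : ∀ u : G, cs[u] = c → pCore p G ≤ Ce[u] := fun u hu =>
    H3.pCore_le_sylow ((pC u hu).toSylow (hu ▸ hpc))
  have hv1 : v ≠ 1 := by rintro rfl; exact hn (by rw [C_one]; exact le_top)
  by_cases hO : pCore p G = ⊥
  · have allC : ∀ u ∈ Ce[z], u ≠ 1 → cs[u] = c := by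
      intro u hu h1
      have hu' := orderOf_eq_pow_of_mem hP hu
      rcases T.all u h1 with e | e | e
      · exact absurd (mem_bot.mp (hO ▸ inO u hu' e)) h1
      · exact absurd e (noB u hu')
      · exact e
    obtain ⟨x, hx⟩ := T.exA
    have hxF := (mem_fitting_of_cs_pow hO (hx ▸ hap)).1
    have hF := not_dvd_card_fitting hO
    have : (fittingSubgroup G).Normal := H3.fitting_normal G
    have : Nontrivial (fittingSubgroup G) :=
      ⟨⟨⟨x, hxF⟩, 1, fun e => T.ne_one_of_cs T.ha hx (congrArg Subtype.val e)⟩⟩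
    have hN : Ce[z] ≤ normalizer (fittingSubgroup G : Set G) := by
      rw [normalizer_eq_top]; exact le_top
    letI := H5.conjAction Ce[z] (fittingSubgroup G) hN
    have hs := H5.semireg_conjAction hN fun u hu h1 => by
      rw [inf_comm]
      exact H3.inf_eq_bot_of_isPGroup_of_coprime (pC u (allC u hu h1))
        ((Nat.Prime.coprime_iff_not_dvd hp).mpr hF).symm
    obtain ⟨k, hk⟩ := orderOf_eq_pow_of_mem hP hv
    obtain ⟨v', hv', hvo⟩ := exists_orderOf_prime_mem (H := zpowers v) hp (by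
      rw [Nat.card_zpowers, hk]
      refine dvd_pow_self p ?_
      rintro rfl
      exact hv1 (orderOf_eq_one_iff.mp hk))
    have hv'' : v' ∈ Ce[z] := zpowers_le.mpr hv hv'
    have h1 := hs.mem_zpowers_of_commute hp (x := ⟨v', hv''⟩) (y := ⟨z, self_mem_C z⟩)
      (by rw [← orderOf_coe, hvo]) (by rw [← orderOf_coe, hzo]) (Subtype.ext (mem_C.mp hv''))
    obtain ⟨i, hi⟩ := mem_zpowers_iff.mp h1
    have h2 : v' ∈ zpowers z := mem_zpowers_iff.mpr ⟨i, congrArg Subtype.val hi⟩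
    apply hn
    rw [T.maxC (allC v hv hv1) (ne_one_of_ord hp hvo) (C_le_C_of_mem_zpowers hv')]
    exact C_le_C_of_mem_zpowers h2
  · have hnil : Group.IsNilpotent Ce[z] := hP.isNilpotent
    have hCO : centralizer (pCore p G : Set G) ≤ pCore p G := by
      obtain ⟨⟨w, hw⟩, hw1⟩ := ne_bot_iff_exists_ne_one.mp (H3.inf_centralizer_ne_bot_of_isNilpotent
        hnil (coreC z hz) (by rw [normalizer_eq_top]; exact le_top) hO)
      have hwc : cs[w] = c := T.eq_c_of_not_dvd (fun e => hw1 (Subtype.ext e)) hpa fun h =>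
        hpc (h.trans (hz ▸ cs_dvd_of_le (le_C_iff.mpr hw.2)))
      exact H3.le_pCore ((pC w hwc).to_le fun g hg => mem_C'.mpr (mem_centralizer_iff.mp hg w hw.1))
    have hPO : Ce[z] = pCore p G := by
      refine le_antisymm (fun u hu => ?_) (coreC z hz)
      by_cases h1 : u = 1
      · exact h1 ▸ one_mem _
      have hu' := orderOf_eq_pow_of_mem hP hu
      rcases T.all u h1 with e | e | e
      · exact inO u hu' e
      · exact absurd e (noB u hu')
      · exact hCO (le_C_iff.mp (coreC u e))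
    have : Ce[z].Normal := hPO ▸ inferInstance
    have hcop : (Nat.card Ce[z]).Coprime Ce[z].index := by
      rw [hn', hz]; exact Nat.Coprime.pow_left n ((Nat.Prime.coprime_iff_not_dvd hp).mpr hpc)
    obtain ⟨L, hL⟩ := exists_right_complement'_of_coprime hcop
    set D := Ce[z] ⊓ centralizer (L : Set G) with hD
    set Z := Ce[z] ⊓ centralizer (Ce[z] : Set G) with hZ
    have hY : Ce[z] ≤ D ⊔ Z := by
      rw [← subgroupOf_eq_top]
      refine eq_top_of_forall_conj_mem fun u => ?_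
      by_cases h : Ce[z] ≤ Ce[(u : G)]
      · exact ⟨1, by simpa [mem_subgroupOf] using mem_sup_right (S := D) (T := Z) (mem_inf.mpr ⟨u.2, le_C_iff.mp h⟩)⟩
      have h1 : (u : G) ≠ 1 := by
        intro e
        exact h (by rw [e, C_one]; exact le_top)
      have hua : cs[(u : G)] = a := by
        rcases T.all u h1 with e | e | e
        · exact e
        · exact absurd e (noB u (orderOf_eq_pow_of_mem hP u.2))
        · exact absurd (hPO.le.trans (coreC u e)) h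
      obtain ⟨k, hk, hle⟩ := exists_conj_le_C (K := Ce[z]) (H := L)
        (by rw [← hL.symm.index_eq_card]; exact hcop.symm) (Or.inr inferInstance) (x := u)
        (sup_eq_top_of_coprime_index (by rw [hz, hua]; exact T.cop.symm))
      exact ⟨⟨k, hk⟩, mem_subgroupOf.mpr (mem_sup_left (mem_inf.mpr
        ⟨mul_mem (mul_mem hk u.2) (inv_mem hk), le_C_iff.mp hle⟩))⟩
    have hD1 : D ≠ ⊥ := by
      intro e
      rw [e, bot_sup_eq] at hY
      exact hn (le_C_iff.mpr (hY hv).2)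
    obtain ⟨⟨d, hd⟩, hd1⟩ := ne_bot_iff_exists_ne_one.mp (H3.inf_centralizer_ne_bot_of_isNilpotent
      (H3.isNilpotent_of_le inf_le_left hnil : Group.IsNilpotent D) le_rfl le_normalizer hD1)
    have : d ∈ center G := by
      rw [← C_eq_top_iff, eq_top_iff, ← hL.sup_eq_top]
      refine sup_le (hY.trans (sup_le (le_C_iff.mpr hd.2) fun g hg => ?_)) (le_C_iff.mpr hd.1.2)
      exact mem_C'.mpr (mem_centralizer_iff.mp hg.2 d hd.1.1)
    rw [T.hZ] at this
    exact hd1 (Subtype.ext this)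

theorem exists_selfC (hcb : ¬ c ∣ b) : ∃ H : Subgroup G, SelfC H ∧ H ≠ ⊥ ∧ H.index = c := by
  obtain ⟨p, hp, hpa⟩ := Nat.exists_prime_and_dvd T.ha.ne'
  obtain ⟨z, hzo, hz⟩ := T.exists_c_elt hp hpa
  rcases T.selfC_or hcb hp hzo hz with h | ⟨h, v, hv, hn⟩
  · exact ⟨_, h, fun e => ne_one_of_ord hp hzo (mem_bot.mp (e ▸ self_mem_C z)), hz⟩
  · exact (T.false_of_pgroup hcb hp hpa hzo hz h hv hn).elim

end Tri

theorem SelfC.not_dvd_index {H : Subgroup G} (hS : SelfC H) {r : ℕ} (hr : r.Prime)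
    (h : r ∣ Nat.card H) : ¬ r ∣ H.index := by
  have : Fact r.Prime := ⟨hr⟩
  obtain ⟨w, hw, hwo⟩ := exists_orderOf_prime_mem hr h
  obtain ⟨R, hR⟩ := exists_sylow_mem (g := w) ⟨1, by rw [hwo, pow_one]⟩
  obtain ⟨z, -, hzo, hz⟩ := exists_center_sylow R (h.trans (card_subgroup_dvd_card H))
  have hzH : z ∈ H := hS w hw (ne_one_of_ord hr hwo) ▸ mem_C_comm.mp (hz hR)
  exact not_dvd_index_of_sylow_le R (hS z hzH (ne_one_of_ord hr hzo) ▸ hz)

theorem SelfC.exists_conj_mem {H : Subgroup G} (hS : SelfC H) {r : ℕ} (hr : r.Prime)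
    (h : r ∣ Nat.card H) {w : G} (hw : ∃ k, orderOf w = r ^ k) : ∃ g : G, g * w * g⁻¹ ∈ H := by
  have : Fact r.Prime := ⟨hr⟩
  obtain ⟨R, hR⟩ := exists_sylow_le_of_not_dvd_index (hS.not_dvd_index hr h)
  obtain ⟨g, hg⟩ := exists_conj_mem_sylow R hw
  exact ⟨g, hR hg⟩

theorem SelfC.coprime_card_C {H : Subgroup G} (hS : SelfC H) {x : G} (h1 : x ≠ 1)
    (hx : cs[x] ≠ H.index) : (Nat.card Ce[x]).Coprime (Nat.card H) := by
  refine Nat.coprime_of_dvd fun r hr h2 h3 => hx ?_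
  obtain ⟨w, hw, hwo⟩ := exists_orderOf_prime_mem hr h2
  obtain ⟨g, hg⟩ := hS.exists_conj_mem hr h3 (w := w) ⟨1, by rw [hwo, pow_one]⟩
  have h4 : g * x * g⁻¹ ∈ H := by
    rw [← hS _ hg (ne_one_of_ord hr (by rw [orderOf_conj, hwo])), mem_C_conj]
    simpa [mul_assoc] using mem_C_comm.mp hw
  rw [← cs_conj g, hS _ h4 (by simpa using h1)]

theorem Tri.card_selfC {a b c : ℕ} (T : Tri G a b c) {H : Subgroup G} (hS : SelfC H)
    (hH : H.index = c) : Nat.card H = a := by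
  obtain ⟨x, hx⟩ := T.exA
  have e : a * Nat.card Ce[x] = c * Nat.card H := by rw [← hH, index_mul_card, ← hx, cs_mul_card]
  refine Nat.dvd_antisymm ?_ (T.cop.dvd_of_dvd_mul_left (e ▸ dvd_mul_right _ _))
  exact (hS.coprime_card_C (T.ne_one_of_cs T.ha hx) (by rw [hx, hH]; exact T.a_ne_c)
    ).symm.dvd_of_dvd_mul_right (e ▸ dvd_mul_left _ _)

end Cfsg.Agent.H15
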