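import Mathlib
import Cfsg.Agent.H15.CS4
import Cfsg.Agent.H15.Even3
import Cfsg.Agent.H92.BHM
import Cfsg.Agent.H92.Ito
import Cfsg.Agent.H4.CoprimeAction
import Cfsg.Agent.H6.ZStar
import Cfsg.Agent.S0033
import Cfsg.Agent.S0205
import Cfsg.Agent.S4134

/-!
# Centreless non-solvable groups with at most three non-trivial class sizes
-/

set_option autoImplicit false
set_option linter.unusedSectionVars false

namespace Cfsg.Agent.H15

open Subgroup Cfsg.Agent.H92

universe u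

variable {G : Type u} [Group G] [Finite G]

theorem isSolvable_of_two_sizes {n : ℕ} (h : ∀ x : G, cs[x] = 1 ∨ cs[x] = n) :
    Group.IsSolvable G := by
  by_cases hex : ∃ x : G, cs[x] ≠ 1
  · obtain ⟨x, hx⟩ := hex
    have hn := (h x).resolve_left hx
    obtain ⟨p, hp, a, -, h2⟩ := S4134.result n (by have := cs_pos x; omega) h ⟨x, hn⟩
    obtain ⟨P⟩ : Nonempty (Sylow p G) := inferInstance
    obtain ⟨-, ⟨N, hN, hc, hab, -⟩, -⟩ := h2 P
    refine isSolvable_of_normal N H3.isSolvable_of_isMulCommutative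
      (isSolvable_of_isPGroup (p := p) ?_)
    obtain ⟨k, hk⟩ := IsPGroup.iff_card.mp P.2
    exact IsPGroup.of_card (hc.symm.index_eq_card.trans hk)
  · push Not at hex
    exact isSolvable_of_comm fun a b => mem_center_iff.mp (cs_eq_one_iff.mp (hex b)) a

/-- The configuration: `H` self-centralizing of index `c` and odd order, `s` an involution
of class size `a`. -/
structure TriS (a b c : ℕ) (H : Subgroup G) (s : G) : Prop where
  T : Tri G a b c
  hns : ¬ Group.IsSolvable G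
  hS : SelfC H
  hH : H.index = c
  h2a : ¬ 2 ∣ a
  hso : orderOf s = 2
  hs : cs[s] = a

namespace TriS

variable {a b c : ℕ} {H : Subgroup G} {s : G} (X : TriS a b c H s)
include X

theorem card_H : Nat.card H = a := X.T.card_selfC X.hS X.hH

theorem card_G : Nat.card G = c * a := by rw [← X.hH, ← X.card_H, index_mul_card]

theorem card_K : Nat.card Ce[s] = c := by
  have e := cs_mul_card s
  rw [X.hs, X.card_G, mul_comm c] at e
  exact Nat.eq_of_mul_eq_mul_left (by have := X.T.ha; omega) e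

theorem s_ne : s ≠ 1 := ne_one_of_ord Nat.prime_two X.hso

theorem cs_H {k : G} (hk : k ∈ H) (h1 : k ≠ 1) : cs[k] = c := by rw [X.hS k hk h1, X.hH]

theorem le_O {N : Subgroup G} [N.Normal] (h : (Nat.card N).Coprime a) : N ≤ Ce[s].normalCore :=
  normal_le_normalCore.mpr (normal_le_C_of_coprime N (X.hs ▸ h))

theorem cop_O : (Nat.card Ce[s].normalCore).Coprime a :=
  Nat.Coprime.coprime_dvd_left (X.card_K ▸ card_dvd_of_le (normalCore_le _)) X.T.cop.symm

theorem ne_c {x : G} (h1 : x ≠ 1) (h : (orderOf x).Coprime a) : cs[x] ≠ c := by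
  intro hx
  have e := cs_mul_card x
  rw [hx, X.card_G] at e
  have e2 := Nat.eq_of_mul_eq_mul_left (by have := X.T.hc; omega) e
  exact h1 (orderOf_eq_one_iff.mp (h.eq_one_of_dvd (e2 ▸ orderOf_dvd_natCard _ (self_mem_C x))))

theorem cop_of_mem_K {x : G} (hx : x ∈ Ce[s]) : (orderOf x).Coprime a :=
  Nat.Coprime.coprime_dvd_left (X.card_K ▸ orderOf_dvd_natCard _ hx) X.T.cop.symm

theorem eq_one_of_mem {x : G} (hx : x ∈ H) (h : (orderOf x).Coprime a) : x = 1 :=
  orderOf_eq_one_iff.mp (h.eq_one_of_dvd (X.card_H ▸ orderOf_dvd_natCard _ hx))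

theorem centralizer_le_O {V : Subgroup G} [V.Normal] (h1 : V ≠ ⊥) (hV : V ≤ Ce[s].normalCore) :
    centralizer (V : Set G) ≤ Ce[s].normalCore := by
  obtain ⟨⟨v, hv⟩, hv1⟩ := ne_bot_iff_exists_ne_one.mp h1
  have hv1' : v ≠ 1 := fun e => hv1 (Subtype.ext e)
  have h2 := X.hS.coprime_card_C hv1' (X.hH ▸ X.ne_c hv1' (X.cop_of_mem_K (normalCore_le _ (hV hv))))
  refine X.le_O (Nat.Coprime.coprime_dvd_left (card_dvd_of_le fun g hg => ?_) (X.card_H ▸ h2))
  exact mem_C'.mpr (mem_centralizer_iff.mp hg v hv)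

theorem false_of_normal [H.Normal] : False := by
  apply X.hns
  have hsup : Ce[s] ⊔ H = ⊤ := sup_eq_top_of_coprime_index (by rw [X.hs, X.hH]; exact X.T.cop)
  have hK : Group.IsSolvable Ce[s] := by
    obtain ⟨m, hm⟩ := X.T.hab
    refine isSolvable_of_two_sizes (n := m) fun k => ?_
    by_cases h1 : (k : G) = 1
    · left
      rw [show k = 1 from Subtype.ext h1, cs_one]
    have hle : Ce[(k : G)] ≤ Ce[s] := by
      intro g hg
      obtain ⟨y, hy, h, hh, rfl⟩ := mem_sup_of_normal_right.mp (hsup ▸ mem_top g)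
      have e : h * k * h⁻¹ * (k : G)⁻¹ = y⁻¹ * k * y * (k : G)⁻¹ := by
        have := (mem_C.mp hg).eq
        calc h * k * h⁻¹ * (k : G)⁻¹ = y⁻¹ * (y * h * k) * h⁻¹ * (k : G)⁻¹ := by group
          _ = _ := by rw [this]; group
      have e1 : h * k * h⁻¹ * (k : G)⁻¹ = 1 := by
        refine X.eq_one_of_mem ?_ (X.cop_of_mem_K ?_)
        · have := ‹H.Normal›.conj_mem _ (inv_mem hh) k
          simpa [mul_assoc] using mul_mem hh this
        · rw [e]
          exact mul_mem (mul_mem (mul_mem (inv_mem hy) k.2) hy) (inv_mem k.2)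
      by_cases hh1 : h = 1
      · rwa [hh1, mul_one]
      · refine absurd (X.eq_one_of_mem (X.hS h hh hh1 ▸ mem_C'.mpr ?_) (X.cop_of_mem_K k.2)) h1
        rw [mul_inv_eq_one, mul_inv_eq_iff_eq_mul] at e1
        exact e1
    have e := relIndex_mul_index hle
    rw [← cs_subgroup, X.hs] at e
    have ha := X.T.ha
    rcases X.T.all k h1 with h | h | h
    · left
      rw [h] at e
      exact Nat.eq_of_mul_eq_mul_right (by omega : 0 < a) (by rw [e, one_mul])
    · right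
      rw [h, hm, mul_comm a] at e
      exact Nat.eq_of_mul_eq_mul_right (by omega) e
    · exact absurd h (X.ne_c h1 (X.cop_of_mem_K k.2))
  have hH : Group.IsSolvable H :=
    isSolvable_of_comm fun x y => Subtype.ext (X.hS.comm x.2 y.2)
  have := H52.isSolvable_sup_of_le_normalizer hK hH (by rw [normalizer_eq_top]; exact le_top)
  rw [hsup] at this
  exact solvable_of_surjective (f := (⊤ : Subgroup G).subtype) fun g => ⟨⟨g, mem_top g⟩, rfl⟩

theorem false_of_core_eq_bot (hO : Ce[s].normalCore = ⊥) : False := by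
  classical
  have := Fintype.ofFinite G
  have hsZ : s ∉ center G := by rw [X.T.hZ]; exact X.s_ne
  have hoff : ∀ k ∈ H, ∀ g : G, g * (s * k) * g⁻¹ ∉ H := by
    intro k hk g hg
    have h2 : ∀ y : G, orderOf y = 2 → y ∉ H := fun y hy hyH =>
      X.h2a (X.card_H ▸ hy ▸ orderOf_dvd_natCard _ hyH)
    by_cases h1 : k = 1
    · exact h2 _ (by rw [orderOf_conj, h1, mul_one, X.hso]) hg
    have h3 : s * k ≠ 1 := fun e =>
      h2 k (by rw [eq_inv_of_mul_eq_one_right e, orderOf_inv, X.hso]) hk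
    have h4 : cs[s * k] = c := by rw [← cs_conj g]; exact X.cs_H hg (by simpa using h3)
    have := classStab_normal k
    have h5 : classStab k ≤ ⊥ := hO ▸ X.le_O
      (Nat.Coprime.coprime_dvd_left (X.cs_H hk h1 ▸ card_classStab_dvd k) X.T.cop.symm)
    refine hsZ (mem_center_iff.mpr fun g => ?_)
    exact commutatorElement_eq_one_iff_mul_comm.mp (mem_bot.mp (h5 (commutator_mem_classStab
      (by rw [X.hs, X.cs_H hk h1]; exact X.T.cop) (by rw [h4, X.cs_H hk h1]) g)))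
  rcases X.hS.isolated (fun k hk h1 => by rw [X.hs, X.cs_H hk h1]; exact X.T.cop) hoff
    (X.hs.trans X.card_H.symm) (fun k hk g hg => X.eq_one_of_mem hk
      (by rw [← H92.orderOf_conj' g k]; exact X.cop_of_mem_K hg)) with h | h
  · exact X.s_ne (mem_bot.mp (hO ▸ h))
  have hz := H6.zstar G (u := s) ⟨X.hso, h⟩
  have hN : pPrimeCore 2 G ≠ ⊥ := by
    intro e
    refine hsZ (mem_center_iff.mpr fun g => ?_)
    have := mem_bot.mp (e ▸ hz g)
    rw [mul_inv_eq_one, mul_inv_eq_iff_eq_mul] at this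
    exact this.symm
  obtain ⟨M, r, -, hM, hM1, -, ⟨hab, -⟩, -⟩ := H3.exists_minimal_normal_elementary_le
    (pPrimeCore 2 G) (S0205.result (Nat.odd_iff.mpr (by
      have := H3.not_dvd_card_pPrimeCore 2 G; omega))) hN
  have hcop : ¬ (Nat.card M).Coprime a := fun h => hM1 (le_bot_iff.mp (hO ▸ X.le_O h))
  obtain ⟨q, hq, h1, h2⟩ := Nat.Prime.not_coprime_iff_dvd.mp hcop
  obtain ⟨w, hw, hwo⟩ := exists_orderOf_prime_mem hq h1
  obtain ⟨g, hg⟩ := X.hS.exists_conj_mem hq (X.card_H ▸ h2) (w := w) ⟨1, by rw [hwo, pow_one]⟩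
  have hwM := hM.conj_mem w hw g
  have hC := X.hS _ hg (ne_one_of_ord hq (by rw [orderOf_conj, hwo]))
  have hMH : M ≤ H := fun y hy => hC ▸ mem_C.mpr (comm_of_isMulCommutative hab hy hwM)
  have : H = centralizer (M : Set G) := le_antisymm
    (fun y hy => mem_centralizer_iff.mpr fun m hm => X.hS.comm (hMH hm) hy)
    (fun y hy => hC ▸ mem_C'.mpr (mem_centralizer_iff.mp hy _ hwM))
  have : H.Normal := this ▸ inferInstance
  exact X.false_of_normal

theorem O_le_C {x : G} (hx : cs[x] = a) : Ce[s].normalCore ≤ Ce[x] :=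
  normal_le_C_of_coprime _ (hx ▸ X.cop_O)

theorem mem_O (hO : Ce[s].normalCore ≠ ⊥) {x : G} (hx : cs[x] = a) : x ∈ Ce[s].normalCore :=
  X.centralizer_le_O hO le_rfl (le_C_iff.mp (X.O_le_C hx))

theorem nil_O : Group.IsNilpotent Ce[s].normalCore := by
  obtain ⟨p, hp, hpa⟩ := Nat.exists_prime_and_dvd X.T.ha.ne'
  obtain ⟨h, hh, hho⟩ := exists_orderOf_prime_mem hp (X.card_H ▸ hpa)
  refine S0033.aux hp _ _ rfl (MulAut.conjNormal h) (fun g hg => Subtype.ext ?_)
    (by rw [← map_pow, ← hho, pow_orderOf_eq_one, map_one])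
  have e : h * g * h⁻¹ = g := congrArg Subtype.val hg
  refine X.eq_one_of_mem (X.hS h hh (ne_one_of_ord hp hho) ▸ mem_C'.mpr ?_)
    (X.cop_of_mem_K (normalCore_le _ g.2))
  rwa [mul_inv_eq_iff_eq_mul] at e

theorem mem_pCore {r : ℕ} (hr : r.Prime) {x : G} (hx : x ∈ Ce[s].normalCore)
    (ho : ∃ k, orderOf x = r ^ k) : x ∈ pCore r G := by
  have : Fact r.Prime := ⟨hr⟩
  exact H3.le_pCore_of_le_fitting ((isPGroup_zpowers_iff x).mpr ho)
    ((zpowers_le.mpr hx).trans (H3.le_fitting X.nil_O)) (mem_zpowers x)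

theorem pCore_le {r : ℕ} (hr : r.Prime) (hra : ¬ r ∣ a) : pCore r G ≤ Ce[s].normalCore :=
  X.le_O (H3.coprime_card_of_isPGroup (H3.pCore_isPGroup r G)
    ((Nat.Prime.coprime_iff_not_dvd hr).mpr hra))

theorem eq_b (hO : Ce[s].normalCore ≠ ⊥) {y : G} (hy : y ∉ Ce[s].normalCore) {l : ℕ}
    (hl : l.Prime) (hla : ¬ l ∣ a) (hyo : ∃ k, orderOf y = l ^ k) : cs[y] = b := by
  have h1 : y ≠ 1 := by rintro rfl; exact hy (one_mem _)
  rcases X.T.all y h1 with e | e | e
  · exact absurd (X.mem_O hO e) hy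
  · exact e
  · exact absurd e (X.ne_c h1 (coprime_of_pow_of_not_dvd hl hyo hla))

theorem claimA (hO : Ce[s].normalCore ≠ ⊥) {y v : G} (hy : y ∉ Ce[s].normalCore) {l r : ℕ}
    (hl : l.Prime) (hr : r.Prime) (hla : ¬ l ∣ a) (hra : ¬ r ∣ a) (hrl : r ≠ l)
    (hR : pCore r G ≠ ⊥) (hyo : ∃ k, orderOf y = l ^ k) (hvo : ∃ k, orderOf v = r ^ k)
    (hc : Commute v y) : cs[v] ≠ b := by
  intro hv
  have : Fact r.Prime := ⟨hr⟩
  have h1 := X.T.le_of_B hv hc (coprime_of_pow_of_pow hr hl hrl hvo hyo)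
  have h2 := H4.thompson_p_times_q (p := r) (P := zpowers v) (Q := zpowers y) (U := pCore r G)
    ((isPGroup_zpowers_iff v).mpr hvo)
    (by rw [Nat.card_zpowers]; exact coprime_of_pow_of_pow hl hr hrl.symm hyo ⟨1, (pow_one r).symm⟩)
    (H3.pCore_isPGroup r G) (by rw [C_zpowers, zpowers_le]; exact mem_C.mpr hc)
    (by rw [normalizer_eq_top]; exact le_top) (by rw [normalizer_eq_top]; exact le_top)
    (by rw [C_zpowers, C_zpowers]; exact inf_le_right.trans h1)
  rw [C_zpowers] at h2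
  exact hy (X.centralizer_le_O hR (X.pCore_le hr hra) (le_C_iff.mp h2))

theorem false_of_core_ne_bot (hO : Ce[s].normalCore ≠ ⊥) : False := by
  have h2O : 2 ∣ Ce[s].normalCore.index := by
    by_contra h
    have := X.nil_O
    exact X.hns (isSolvable_of_normal Ce[s].normalCore inferInstance
      (S0205.result (Nat.odd_iff.mpr (by rw [← index_eq_card]; omega))))
  obtain ⟨j, hjo, hj⟩ := exists_not_mem_of_dvd_index Nat.prime_two h2O
  have hjb := X.eq_b hO hj Nat.prime_two X.h2a hjo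
  by_cases hex : ∃ r : ℕ, r.Prime ∧ r ≠ 2 ∧ r ∣ Nat.card Ce[s].normalCore
  · obtain ⟨r, hr, hr2, hrO⟩ := hex
    have : Fact r.Prime := ⟨hr⟩
    have hra : ¬ r ∣ a := fun h => hr.one_lt.ne' (Nat.eq_one_of_dvd_coprimes X.cop_O hrO h)
    have hR : pCore r G ≠ ⊥ := by
      obtain ⟨w, hw, hwo⟩ := exists_orderOf_prime_mem hr hrO
      intro e
      exact ne_one_of_ord hr hwo (mem_bot.mp (e ▸ X.mem_pCore hr hw ⟨1, by rw [hwo, pow_one]⟩))
    have noB : ∀ u : G, cs[u] = b → ¬ Ce[s].normalCore ≤ Ce[u] := by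
      intro u hu hle
      obtain ⟨S⟩ : Nonempty (Sylow r Ce[j]) := inferInstance
      have hS : (S : Subgroup Ce[j]).map Ce[j].subtype ≤ pCore r G := by
        rintro _ ⟨v, hv, rfl⟩
        have hvo : ∃ k, orderOf (v : G) = r ^ k := by
          rw [orderOf_coe]; exact orderOf_eq_pow_of_mem S.2 hv
        change (v : G) ∈ _
        by_cases h1 : (v : G) = 1
        · exact h1 ▸ one_mem _
        rcases X.T.all v h1 with e | e | e
        · exact X.mem_pCore hr (X.mem_O hO e) hvo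
        · exact absurd e (X.claimA hO hj Nat.prime_two hr X.h2a hra hr2 hR hjo hvo (mem_C.mp v.2))
        · exact absurd e (X.ne_c h1 (coprime_of_pow_of_not_dvd hr hvo hra))
      obtain ⟨n, hn⟩ := H3.exists_card_pCore (p := r) (G := G)
      have h3 : r ^ n ∣ Nat.card Ce[j] := by
        rw [← hn, card_C_eq_of_cs_eq (hjb.trans hu.symm)]
        exact card_dvd_of_le ((X.pCore_le hr hra).trans hle)
      have h4 := eq_of_le_of_card_ge hS (by
        rw [hn, H3.card_map_subtype]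
        exact Nat.le_of_dvd Nat.card_pos (S.pow_dvd_card_of_pow_dvd_card h3))
      exact hj (X.centralizer_le_O hR (X.pCore_le hr hra)
        (le_C_iff.mp (h4 ▸ map_subtype_le _)))
    obtain ⟨⟨w, hw⟩, hw1⟩ := ne_bot_iff_exists_ne_one.mp (H3.inf_centralizer_ne_bot_of_isNilpotent
      X.nil_O (X.pCore_le hr hra) (by rw [normalizer_eq_top]; exact le_top) hR)
    have hw1' : w ≠ 1 := fun e => hw1 (Subtype.ext e)
    have hwo := orderOf_eq_pow_of_mem (H3.pCore_isPGroup r G) hw.1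
    have key : ∀ x : G, orderOf x = 2 → cs[x] = a → Ce[x] = Ce[w] := by
      intro x hxo hx
      have hxO := X.mem_O hO hx
      have hco : (orderOf x).Coprime (orderOf w) :=
        coprime_of_pow_of_pow Nat.prime_two hr hr2.symm ⟨1, hxo⟩ hwo
      have e := C_mul_of_coprime (mem_centralizer_iff.mp hw.2 x hxO) hco
      have h1 := mul_ne_one_of_coprime hco (ne_one_of_ord Nat.prime_two hxo)
      rcases X.T.all _ h1 with h | h | h
      · refine X.T.maxA hx hw1' ?_
        rw [← eq_of_le_of_index_eq (e ▸ inf_le_left : Ce[x * w] ≤ Ce[x]) (h.trans hx.symm), e]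
        exact inf_le_right
      · exact absurd (e ▸ le_inf (X.O_le_C hx) (le_C_iff.mpr hw.2)) (noB _ h)
      · exact absurd h (X.ne_c h1 (X.cop_of_mem_K
          (normalCore_le _ (mul_mem hxO (X.pCore_le hr hra hw.1)))))
    have : Ce[s].Normal := ⟨fun k hk g => by
      rw [key s X.hso X.hs, ← key (g * s * g⁻¹) (by rw [orderOf_conj, X.hso])
        (by rw [cs_conj, X.hs]), mem_C_conj]
      simpa [mul_assoc] using hk⟩
    rw [normalCore_eq_self, X.hs] at h2O
    exact X.h2a h2O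
  · push Not at hex
    have hR : pCore 2 G ≠ ⊥ := fun e =>
      X.s_ne (mem_bot.mp (e ▸ X.mem_pCore Nat.prime_two (X.mem_O hO X.hs) ⟨1, X.hso⟩))
    obtain ⟨i, hi⟩ : ∃ i, c = 2 ^ i := by
      refine (eq_pow_iff_forall Nat.prime_two (by have := X.T.hc; omega)).mpr fun r hr hrc => ?_
      by_contra hr2
      have hra : ¬ r ∣ a := fun h => X.T.not_dvd_c hr h hrc
      have hout : ∀ w : G, orderOf w = r → w ∉ Ce[s].normalCore := fun w hw h =>
        hex r hr hr2 (hw ▸ orderOf_dvd_natCard _ h)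
      obtain ⟨w, -, hwo⟩ := exists_orderOf_prime_mem (H := ⊤) hr
        (card_top (G := G) ▸ hrc.trans X.T.c_dvd_card)
      have hwb := X.eq_b hO (hout w hwo) hr hra ⟨1, by rw [hwo, pow_one]⟩
      obtain ⟨w', hw', hwo'⟩ := exists_orderOf_prime_mem (H := Ce[j]) hr (by
        rw [card_C_eq_of_cs_eq (hjb.trans hwb.symm), ← hwo]
        exact orderOf_dvd_natCard _ (self_mem_C w))
      exact X.claimA hO (hout w' hwo') hr Nat.prime_two hra X.h2a (Ne.symm hr2) hR
        ⟨1, by rw [hwo', pow_one]⟩ hjo (mem_C'.mp hw') hjb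
    refine X.hns (isSolvable_of_kazarin (E := H) (i := i) (j := 0) Nat.prime_two Nat.prime_two
      (by rw [X.hH, hi, pow_zero, mul_one]) fun w hw _ _ _ => ⟨2, Nat.prime_two, ?_⟩)
    by_cases h1 : w = 1
    · exact ⟨0, by rw [h1, cs_one, pow_zero]⟩
    · exact ⟨i, (X.cs_H hw h1).trans hi⟩

theorem false : False := by
  by_cases hO : Ce[s].normalCore = ⊥
  · exact X.false_of_core_eq_bot hO
  · exact X.false_of_core_ne_bot hO

end TriS

theorem Tri.comm {a b c : ℕ} (T : Tri G a b c) (hns : ¬ Group.IsSolvable G) {t : G}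
    (ht : orderOf t = 2) : ∀ x ∈ Ce[t], ∀ y ∈ Ce[t], x * y = y * x := by
  have hcb : ¬ c ∣ b := fun h => hns (T.isSolvable_of_dvd h)
  obtain ⟨H, hS, -, hH⟩ := T.exists_selfC hcb
  by_cases h2a : 2 ∣ a
  · obtain ⟨g, hg⟩ := hS.exists_conj_mem Nat.prime_two (T.card_selfC hS hH ▸ h2a) (w := t) ⟨1, ht⟩
    have e := hS _ hg (ne_one_of_ord Nat.prime_two (by rw [orderOf_conj, ht]))
    intro x hx y hy
    have h1 : ∀ x ∈ Ce[t], g * x * g⁻¹ ∈ H := fun x hx => by
      rw [← e, mem_C_conj]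
      simpa [mul_assoc] using hx
    have := hS.comm (h1 x hx) (h1 y hy)
    calc x * y = g⁻¹ * (g * x * g⁻¹ * (g * y * g⁻¹)) * g := by group
      _ = y * x := by rw [this]; group
  refine comm_of_fc (fun u w hu hw hwo hle => ?_) ht
  rcases T.all w hw with e | e | e
  · obtain ⟨k, hk⟩ := hwo
    obtain ⟨s, hs, hso⟩ := exists_orderOf_prime_mem (H := zpowers w) Nat.prime_two (by
      rw [Nat.card_zpowers, hk]
      refine dvd_pow_self 2 ?_
      rintro rfl
      exact hw (orderOf_eq_one_iff.mp hk))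
    have := T.maxA e (ne_one_of_ord Nat.prime_two hso) (C_le_C_of_mem_zpowers hs)
    exact (TriS.false ⟨T, hns, hS, hH, h2a, hso, this ▸ e⟩).elim
  · exact T.minB e hle
  · exact T.minC hcb e hle

/-- A centreless non-solvable group with at most three non-trivial class sizes has abelian
involution centralizers. -/
theorem comm_of_three_sizes (hns : ¬ Group.IsSolvable G) (hZ : center G = ⊥)
    (h : {n : ℕ | ∃ x : G, x ≠ 1 ∧ cs[x] = n}.ncard ≤ 3) {t : G} (ht : orderOf t = 2) :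
    ∀ x ∈ Ce[t], ∀ y ∈ Ce[t], x * y = y * x := by
  by_cases hfc : ∀ u w : G, u ≠ 1 → w ≠ 1 → cs[w] ∣ cs[u] → cs[u] = cs[w]
  · exact comm_of_fc (fun u w hu hw _ hle =>
      eq_of_le_of_index_eq hle (hfc u w hu hw (cs_dvd_of_le hle))) ht
  push Not at hfc
  obtain ⟨u, w, hu, hw, hd, hne⟩ := hfc
  have one_lt : ∀ x : G, x ≠ 1 → 1 < cs[x] := fun x hx => one_lt_cs_iff.mpr (by rwa [hZ])
  have central : ∀ p : ℕ, p.Prime → p ∣ Nat.card G → ∃ z : G, z ≠ 1 ∧ ¬ p ∣ cs[z] := by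
    intro p hp hd
    obtain ⟨y, -, ho, hi⟩ := exists_central_of_not_dvd hp hd (L := ⊤)
      (by rw [index_top]; exact hp.one_lt.ne' ∘ Nat.dvd_one.mp)
    rw [top_inf_eq] at hi
    exact ⟨y, ne_one_of_ord hp ho, hi⟩
  obtain ⟨p, hp, hpa⟩ := Nat.exists_prime_and_dvd (one_lt w hw).ne'
  obtain ⟨z, hz, hpz⟩ := central p hp (hpa.trans (cs_dvd_card w))
  have h1 : cs[w] ≠ cs[z] := fun e => hpz (e ▸ hpa)
  have h2 : cs[u] ≠ cs[z] := fun e => hpz (e ▸ hpa.trans hd)
  have hfin : {n : ℕ | ∃ x : G, x ≠ 1 ∧ cs[x] = n}.Finite :=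
    (Set.finite_range fun x : G => cs[x]).subset fun n ⟨x, _, hx⟩ => ⟨x, hx⟩
  have heq : ({cs[w], cs[u], cs[z]} : Set ℕ) = {n : ℕ | ∃ x : G, x ≠ 1 ∧ cs[x] = n} := by
    refine Set.eq_of_subset_of_ncard_le ?_ ?_ hfin
    · rintro n (rfl | rfl | rfl)
      exacts [⟨w, hw, rfl⟩, ⟨u, hu, rfl⟩, ⟨z, hz, rfl⟩]
    · rw [Set.ncard_eq_three.mpr ⟨_, _, _, hne.symm, h1, h2, rfl⟩]
      exact h
  have hall : ∀ x : G, x ≠ 1 → cs[x] = cs[w] ∨ cs[x] = cs[u] ∨ cs[x] = cs[z] := fun x hx =>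
    (heq.ge ⟨x, hx, rfl⟩ :)
  refine Tri.comm ⟨hZ, one_lt w hw, one_lt z hz, hd, hne.symm, h2, ?_, hall, ⟨w, rfl⟩, ⟨u, rfl⟩,
    ⟨z, rfl⟩⟩ hns ht
  refine Nat.coprime_of_dvd fun r hr h3 h4 => ?_
  obtain ⟨y, hy, hry⟩ := central r hr (h3.trans (cs_dvd_card w))
  rcases hall y hy with e | e | e
  · exact hry (e ▸ h3)
  · exact hry (e ▸ h3.trans hd)
  · exact hry (e ▸ h4)

end Cfsg.Agent.H15
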