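import Mathlib
import Cfsg.Agent.H74.CksDefs

/-! Project CKS: the pieces RLW and RL (characters of the torus in rank at most two). -/

set_option autoImplicit false
set_option linter.unusedSectionVars false

namespace Cfsg.Agent.H15.CksRl

open Cfsg.Agent.H35 Cfsg.Agent.H74.Cks Subgroup MulAction

section W

variable {A : Type} [CommGroup A]

/-- The automorphisms fixing or inverting `x`. -/
def Pm (x : A) : Subgroup (MulAut A) where
  carrier := {d | d x = x ∨ d x = x⁻¹}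
  one_mem' := Or.inl rfl
  mul_mem' := by
    rintro d d' (h | h) (h' | h') <;> simp [h, h']
  inv_mem' := by
    rintro d (h | h)
    · exact Or.inl (d.injective (by simp [h]))
    · exact Or.inr (d.injective (by simp [h]))

theorem exists_pm {a : MulAut A} (ha : a * a = 1) {z : A} (hz : z ≠ 1) : ∃ x, x ≠ 1 ∧ a ∈ Pm x := by
  by_cases h : a z = z
  · exact ⟨z, hz, Or.inl h⟩
  · refine ⟨z⁻¹ * a z, fun e => h (inv_mul_eq_one.1 e).symm, Or.inr ?_⟩
    rw [map_mul, map_inv, ← MulAut.mul_apply, ha, MulAut.one_apply, mul_inv_rev, inv_inv]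

theorem rlw : RlwStmt := by
  intro A _ _ a b m hm ha hb hr tr
  rcases subsingleton_or_nontrivial A with h0 | h0
  · rw [Nat.card_of_subsingleton (1 : A)]
    omega
  obtain ⟨z, hz⟩ := exists_ne (1 : A)
  obtain ⟨x, x1, hx⟩ := exists_pm ha hz
  obtain ⟨y, y1, hy⟩ := exists_pm hb hz
  have eb : b = a * (a * b) := by rw [← mul_assoc, ha, one_mul]
  have ai : a⁻¹ = a := inv_eq_of_mul_eq_one_right ha
  have bi : b⁻¹ = b := inv_eq_of_mul_eq_one_right hb
  have ar : a * (a * b) * a⁻¹ = (a * b)⁻¹ := by rw [mul_inv_rev, bi, ← eb]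
  generalize a * b = r at hr eb ar
  have az : ∀ j : ℤ, a * r ^ j = r ^ (-j) * a := fun j => by
    rw [zpow_neg, ← inv_zpow, ← ar, conj_zpow, inv_mul_cancel_right]
  have nf : ∀ w, w ≠ 1 → ∃ j : ℤ, ∃ s ∈ Pm x, (r ^ j * s) x = w := fun w hw => by
    obtain ⟨d, hd, rfl⟩ := tr x w x1 hw
    have ka : ∀ d : MulAut A, (∃ j : ℤ, ∃ s ∈ Pm x, r ^ j * s = d) →
        ∃ j : ℤ, ∃ s ∈ Pm x, r ^ j * s = a * d := by
      rintro _ ⟨j, s, hs, rfl⟩
      exact ⟨-j, a * s, mul_mem hx hs, by rw [← mul_assoc, ← az, mul_assoc]⟩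
    have kb : ∀ d : MulAut A, (∃ j : ℤ, ∃ s ∈ Pm x, r ^ j * s = d) →
        ∃ j : ℤ, ∃ s ∈ Pm x, r ^ j * s = b * d := by
      rintro _ ⟨j, s, hs, rfl⟩
      rw [eb, mul_assoc]
      exact ka _ ⟨1 + j, s, hs, by rw [zpow_add, zpow_one, mul_assoc]⟩
    obtain ⟨j, s, hs, e⟩ : ∃ j : ℤ, ∃ s ∈ Pm x, r ^ j * s = d := by
      clear hw
      induction hd using closure_induction_left with
      | one => exact ⟨0, 1, one_mem _, by simp⟩
      | mul_left c hc d _ ih => rcases hc with rfl | rfl; exacts [ka d ih, kb d ih]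
      | inv_mul_cancel c hc d _ ih =>
        rcases hc with rfl | rfl
        · rw [ai]; exact ka d ih
        · rw [bi]; exact kb d ih
    exact ⟨j, s, hs, by rw [e]⟩
  have st : ∀ (e j : ℤ) (s : MulAut A), s ∈ Pm x → a * r ^ e ∈ Pm ((r ^ j * s) x) →
      r ^ (2 * j + e) ∈ Pm x := fun e j s hs h => by
    have h1 : (r ^ j * s)⁻¹ * (a * r ^ e) * (r ^ j * s) ∈ Pm x := by
      rcases h with h | h
      · exact Or.inl (by rw [MulAut.mul_apply, MulAut.mul_apply, h, MulAut.inv_apply_self])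
      · exact Or.inr (by rw [MulAut.mul_apply, MulAut.mul_apply, h, map_inv, MulAut.inv_apply_self])
    have h2 := mul_mem (inv_mem hx) (mul_mem (mul_mem hs h1) (inv_mem hs))
    have h3 : a⁻¹ * (s * ((r ^ j * s)⁻¹ * (a * r ^ e) * (r ^ j * s)) * s⁻¹) = r ^ (2 * j + e) := by
      calc _ = a⁻¹ * (r ^ (-j) * a) * r ^ e * r ^ j := by group
        _ = _ := by rw [← az]; group
    exact h3 ▸ h2
  obtain ⟨i, s, hs, rfl⟩ := nf y y1
  have k1 := st 1 i s hs (by rwa [zpow_one, ← eb])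
  have km : r ^ (m : ℤ) ∈ Pm x := by rw [zpow_natCast, hr]; exact one_mem _
  have lin : ∀ u v k l : ℤ, r ^ k ∈ Pm x → r ^ l ∈ Pm x → r ^ (k * u + l * v) ∈ Pm x :=
    fun u v k l h h' => by
      rw [zpow_add, zpow_mul, zpow_mul]
      exact mul_mem (zpow_mem h u) (zpow_mem h' v)
  have le3 : r ∈ Pm x → Nat.card A ≤ 3 := fun h => by
    have h1 : (Set.univ : Set A) ⊆ {1, x, x⁻¹} := fun w _ => by
      by_cases hw : w = 1
      · exact Or.inl hw
      · obtain ⟨j, s, hs, rfl⟩ := nf w hw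
        exact Or.inr (mul_mem (zpow_mem h j) hs)
    have h2 := Set.ncard_le_ncard h1
    have h3 := Set.ncard_insert_le (1 : A) {x, x⁻¹}
    have h4 := Set.ncard_insert_le x {x⁻¹}
    rw [Set.ncard_univ] at h2
    rw [Set.ncard_singleton] at h4
    omega
  by_cases h6 : m = 6
  swap
  · have h8 : r ^ (8 : ℤ) ∈ Pm x := by
      rcases hm with rfl | rfl | rfl | rfl
      exacts [by simpa using lin 4 0 _ _ km km, by simpa using lin 2 0 _ _ km km, (h6 rfl).elim, km]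
    obtain ⟨c, hc⟩ : ∃ c, i * (i + 1) = c + c := Int.even_mul_succ_self i
    have h1 := lin (2 * i + 1) (-c) _ _ k1 h8
    rw [show (2 * i + 1) * (2 * i + 1) + 8 * -c = 1 by linear_combination 4 * hc, zpow_one] at h1
    exact ⟨(le3 h1).trans (by norm_num), fun _ => le3 h1⟩
  refine ⟨?_, fun h => (h h6).elim⟩
  subst h6
  have k3 : r ^ (3 : ℤ) ∈ Pm x := by
    have h1 := lin 3 (-i) _ _ k1 km
    rwa [show (2 * i + 1) * 3 + ((6 : ℕ) : ℤ) * -i = 3 by push_cast; ring] at h1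
  have nf3 : ∀ w, w ≠ 1 → ∃ j : Fin 3, ∃ s ∈ Pm x, (r ^ (j : ℕ) * s) x = w := fun w hw => by
    obtain ⟨j, s, hs, rfl⟩ := nf w hw
    refine ⟨⟨(j % 3).toNat, by omega⟩, (r ^ (3 : ℤ)) ^ (j / 3) * s, mul_mem (zpow_mem k3 _) hs, ?_⟩
    rw [← mul_assoc, ← zpow_natCast, ← zpow_mul, ← zpow_add,
      show (((j % 3).toNat : ℕ) : ℤ) + 3 * (j / 3) = j by omega]
  by_cases h2 : x * x = 1
  · have h1 : Nat.card A ≤ Nat.card (Option (Fin 3)) :=
      Nat.card_le_card_of_surjective (fun o : Option (Fin 3) => o.elim 1 fun j => (r ^ (j : ℕ)) x)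
        fun w => by
          by_cases hw : w = 1
          · exact ⟨none, hw.symm⟩
          · obtain ⟨j, s, hs, rfl⟩ := nf3 w hw
            refine ⟨some j, ?_⟩
            rcases hs with h | h
            · simp [h]
            · simp [h, inv_eq_of_mul_eq_one_right h2]
    simpa using h1
  obtain ⟨j, s, hs, e⟩ := nf _ h2
  have h3 := st 0 j s hs (by
    rw [e, zpow_zero, mul_one]
    rcases hx with h | h
    · exact Or.inl (by rw [map_mul, h])
    · exact Or.inr (by rw [map_mul, h, mul_inv_rev]))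
  have h4 := lin (-1) j _ _ h3 k3
  rw [show (2 * j + 0) * -1 + 3 * j = j by ring] at h4
  have h5 : x ^ 3 = 1 := by
    rcases mul_mem h4 hs with h | h
    · exact (x1 (mul_eq_left.1 (e.symm.trans h))).elim
    · rw [pow_three', e.symm.trans h, inv_mul_cancel]
  have : Fact (Nat.Prime 3) := ⟨Nat.prime_three⟩
  have h7 : IsPGroup 3 A := fun w => ⟨1, by
    by_cases hw : w = 1
    · simp [hw]
    · obtain ⟨j, s, -, rfl⟩ := nf w hw
      rw [pow_one, ← map_pow, h5, map_one]⟩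
  obtain ⟨c, hc⟩ := IsPGroup.iff_card.1 h7
  have h8 : Nat.card A ≤ Nat.card (Option (Fin 3 × Bool)) :=
    Nat.card_le_card_of_surjective (fun o : Option (Fin 3 × Bool) => o.elim 1 fun j =>
      (r ^ (j.1 : ℕ)) (if j.2 then x else x⁻¹)) fun w => by
        by_cases hw : w = 1
        · exact ⟨none, hw.symm⟩
        · obtain ⟨j, s, hs, rfl⟩ := nf3 w hw
          rcases hs with h | h
          · exact ⟨some (j, true), by simp [h]⟩
          · exact ⟨some (j, false), by simp [h]⟩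
  simp only [Nat.card_eq_fintype_card, Fintype.card_option, Fintype.card_prod, Fintype.card_fin,
    Fintype.card_bool] at h8
  rw [hc] at h8 ⊢
  rcases c with _ | _ | c
  · norm_num
  · norm_num
  · have := Nat.one_le_pow c 3 (by norm_num)
    rw [pow_succ, pow_succ] at h8
    omega

end W

theorem exists_pair {G Ω : Type} [Group G] [Finite G] [Fintype Ω] [MulAction G Ω]
    (two : IsMultiplyPretransitive G Ω 2) (tr : IsPretransitive G Ω) {f f' : Ω → ℂ}
    (h : ∑ x, f x = 0) (h' : ∑ x, f' x = 0) {y0 x0 : Ω} (hy : f y0 ≠ 0) (hx : f' x0 ≠ 0) :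
    ∃ g : G, ∑ x, f (g • x) * f' x ≠ 0 := by
  classical
  by_contra hc
  push Not at hc
  let _ := Fintype.ofFinite (stabilizer G y0)
  set F : Ω → ℂ := fun x => ∑ k : stabilizer G y0, f ((k : G) • x) with hF
  obtain ⟨y1, hy1⟩ : ∃ y1, y1 ≠ y0 := by
    by_contra h1
    push Not at h1
    rw [Finset.sum_eq_single y0 (fun x _ hx => (hx (h1 x)).elim) (by simp)] at h
    exact hy h
  have c1 : ∀ x, x ≠ y0 → F x = F y1 := fun x hx => by
    obtain ⟨k, h1, h2⟩ := is_two_pretransitive_iff.1 two hy1.symm hx.symm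
    rw [← h2, hF]
    exact Fintype.sum_equiv (Equiv.mulRight ⟨k, h1⟩) _ _ fun l => by simp [mul_smul]
  have c2 : ∀ x, F x = F y1 + if x = y0 then F y0 - F y1 else 0 := fun x => by
    split_ifs with e
    · rw [e]; ring
    · rw [c1 x e, add_zero]
  have s1 : ∑ x, F x = 0 := by
    rw [hF, Finset.sum_comm]
    exact Finset.sum_eq_zero fun k _ =>
      (Equiv.sum_comp (MulAction.toPerm (k : G)) f).trans h
  obtain ⟨g, hg⟩ := tr.exists_smul_eq x0 y0
  have s2 : ∑ x, F (g • x) * f' x = 0 := by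
    simp only [hF, Finset.sum_mul]
    rw [Finset.sum_comm]
    exact Finset.sum_eq_zero fun k _ => by simpa only [mul_smul] using hc (k * g)
  rw [Finset.sum_congr rfl fun x _ => by rw [c2 (g • x), add_mul], Finset.sum_add_distrib,
    ← Finset.mul_sum, h', mul_zero, zero_add, Finset.sum_eq_single x0 (fun x _ hx => by
      rw [if_neg fun e => hx (MulAction.injective g (e.trans hg.symm)), zero_mul]) (by simp),
    if_pos hg] at s2
  have e1 : F y0 = F y1 := sub_eq_zero.1 ((mul_eq_zero.1 s2).resolve_right hx)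
  rw [Finset.sum_congr rfl fun x _ => show F x = F y0 by rw [c2 x, e1]; simp] at s1
  have e2 : F y0 = Fintype.card (stabilizer G y0) * f y0 := by
    rw [hF]
    simp only [show ∀ k : stabilizer G y0, (k : G) • y0 = y0 from fun k => k.2]
    simp
  have : Nonempty Ω := ⟨y0⟩
  simp [e2, hy] at s1

theorem exists_proj {G : Type} [Group G] {B U T : Subgroup G} (hT : T ≤ B)
    (hn : B ≤ normalizer (U : Set G)) (hi : U ⊓ T = ⊥) (hd : ∀ b ∈ B, ∃ u ∈ U, ∃ t ∈ T, b = u * t) :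
    ∃ π : B →* T, (∀ b : B, (b : G) ∈ U → π b = 1) ∧ ∀ t : T, π ⟨t, hT t.2⟩ = t := by
  have ex : ∀ b : B, ∃ t : T, (b : G) * (t : G)⁻¹ ∈ U := fun b => by
    obtain ⟨u, hu, t, ht, e⟩ := hd b b.2
    exact ⟨⟨t, ht⟩, by rwa [e, mul_inv_cancel_right]⟩
  choose τ hτ using ex
  have uq : ∀ (b : B) (t : T), (b : G) * (t : G)⁻¹ ∈ U → τ b = t := fun b t h => by
    have h1 : (τ b : G) * (t : G)⁻¹ ∈ U ⊓ T :=
      ⟨by simpa [mul_assoc] using mul_mem (inv_mem (hτ b)) h, T.mul_mem (τ b).2 (T.inv_mem t.2)⟩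
    rw [hi, mem_bot, mul_inv_eq_one] at h1
    exact Subtype.ext h1
  refine ⟨MonoidHom.mk' τ fun a b => uq _ _ ?_, fun b hb => uq _ _ (by simpa using hb),
    fun t => uq _ _ (by simp)⟩
  simpa [mul_assoc] using
    mul_mem (hτ a) ((mem_normalizer_iff.1 (hn (hT (τ a).2)) _).1 (hτ b))

theorem weyl_act (bas : Bas1Stmt) {G : Type} [Group G] [Finite G] [IsSimpleGroup G] {p n : ℕ}
    [Fact p.Prime] (S : Sys G p n) (H : Subgroup G) (two : Two H) (su : S.Setup H) :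
    ∃ (A : Type) (_ : CommGroup A) (_ : Finite A) (Φ : BN.W S.bn →* MulAut A),
      Nat.card A = (H ⊓ S.T).relIndex S.T ∧ ∀ x y : A, x ≠ 1 → y ≠ 1 → ∃ w, Φ w x = y := by
  classical
  obtain ⟨nU, -, -, -, hi, hd, -⟩ := bas S
  obtain ⟨π, πU, πT⟩ := exists_proj (inf_le_left : S.T ≤ S.B) nU.ge hi hd
  let _ : CommGroup S.T :=
    { (inferInstance : Group S.T) with mul_comm := fun a b => Subtype.ext (S.comm _ a.2 _ b.2) }
  have πH : ∀ b : S.B, (b : G) ∈ H → (π b : G) ∈ H := fun b hb => by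
    have h1 : (H ⊓ S.U) ⊔ (H ⊓ S.T) ≤ ((H.subgroupOf S.T).comap π).map S.B.subtype :=
      sup_le (fun u hu => ⟨⟨u, nU.le (le_normalizer hu.2)⟩, by
          rw [SetLike.mem_coe, mem_comap, πU _ hu.2]
          exact one_mem _, rfl⟩)
        fun t ht => ⟨⟨t, ht.2.1⟩, by
          rw [SetLike.mem_coe, mem_comap, πT ⟨t, ht.2⟩]
          exact ht.1, rfl⟩
    obtain ⟨b', h2, e⟩ := h1 (su.2.le ⟨hb, b.2⟩)
    rwa [← show b' = b from Subtype.ext e]
  have nT : S.bn.N ≤ normalizer (S.T : Set G) := fun m hm =>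
    mem_normalizer_fintype fun t ht => ⟨S.bn.conj_mem m hm t ht,
      S.bn.N.mul_mem (S.bn.N.mul_mem hm ht.2) (S.bn.N.inv_mem hm)⟩
  let κ : S.bn.N →* MulAut S.T := S.T.normalizerMonoidHom.comp (inclusion nT)
  have κe : ∀ (m : S.bn.N) (t : S.T), (κ m t : G) = m * t * (m : G)⁻¹ := fun _ _ => rfl
  have κH : ∀ (m : S.bn.N) (t : S.T), (t : G) ∈ H → (κ m t : G) ∈ H := fun m t ht => by
    obtain ⟨h, hh, b, hb, e⟩ := su.1 (m : G)⁻¹
    have h1 := πH (⟨b, hb⟩ * ⟨κ m t, (κ m t).2.1⟩ * ⟨b, hb⟩⁻¹) (by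
      have h2 : b = h⁻¹ * (m : G)⁻¹ := by rw [e, inv_mul_cancel_left]
      change b * (κ m t : G) * b⁻¹ ∈ H
      rw [κe, h2]
      simpa [mul_assoc] using mul_mem (mul_mem (inv_mem hh) ht) hh)
    rwa [map_mul, map_mul, map_inv, πT, mul_inv_cancel_comm] at h1
  set A := (MonoidHom.domRestrictHom (H.subgroupOf S.T) ℂˣ).ker with hA
  have mA : ∀ θ : S.T →* ℂˣ, θ ∈ A ↔ ∀ t : S.T, (t : G) ∈ H → θ t = 1 := fun θ =>
    MonoidHom.domRestrict_eq_one_iff
  let _ : MulDistribMulAction S.bn.N A :=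
    { smul := fun m θ => ⟨θ.1.comp (κ m⁻¹).toMonoidHom,
        (mA _).2 fun t ht => (mA _).1 θ.2 _ (κH _ t ht)⟩
      one_smul := fun θ => Subtype.ext (MonoidHom.ext fun t => by
        change θ.1 (κ 1⁻¹ t) = _
        rw [inv_one, map_one, MulAut.one_apply])
      mul_smul := fun m m' θ => Subtype.ext (MonoidHom.ext fun t => by
        change θ.1 (κ (m * m')⁻¹ t) = θ.1 (κ m'⁻¹ (κ m⁻¹ t))
        rw [mul_inv_rev, map_mul, MulAut.mul_apply])
      smul_mul := fun m θ θ' => rfl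
      smul_one := fun m => rfl }
  have sm : ∀ (m : S.bn.N) (θ : A) (t : S.T), (m • θ).1 t = θ.1 (κ m⁻¹ t) := fun _ _ _ => rfl
  have fin : Finite (S.T →* ℂˣ) := Finite.of_equiv _
    (CommGroup.monoidHom_mulEquiv_of_hasEnoughRootsOfUnity S.T ℂ).some.symm.toEquiv
  refine ⟨A, inferInstance, inferInstance, QuotientGroup.lift _
    (MulDistribMulAction.toMulAut S.bn.N A) fun m hm => ?_, ?_, fun θ θ' h1 h2 => ?_⟩
  · refine MulEquiv.ext fun θ => Subtype.ext (MonoidHom.ext fun t => ?_)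
    change θ.1 (κ m⁻¹ t) = θ.1 t
    congr 1
    refine Subtype.ext ?_
    rw [κe, coe_inv, S.comm _ (inv_mem (mem_subgroupOf.1 hm)) _ t.2, mul_inv_cancel_right]
  · rw [hA, CommGroup.card_domRestrictHom_ker ℂ, inf_relIndex_right]
    rfl
  let _ := Fintype.ofFinite (G ⧸ H)
  have ex : ∀ x : G ⧸ H, ∃ b : S.B, (((b : G)) : G ⧸ H) = x := fun x => by
    obtain ⟨g, rfl⟩ := QuotientGroup.mk_surjective x
    obtain ⟨h, hh, b, hb, e⟩ := su.1 g⁻¹
    exact ⟨⟨b, hb⟩⁻¹, QuotientGroup.eq.2 (by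
      rw [← inv_inv g, e]; simpa using hh)⟩
  choose β hβ using ex
  have eq : ∀ (η : A) (b : S.B) (x : G ⧸ H),
      (η.1 (π (β ((b : G) • x))) : ℂ) = η.1 (π b) * η.1 (π (β x)) := fun η b x => by
    have h3 : ((β ((b : G) • x))⁻¹ * (b * β x) : S.B).1 ∈ H := QuotientGroup.eq.1 (by
      rw [hβ]
      conv_lhs => rw [← hβ x]
      rfl)
    have h4 := (mA _).1 η.2 _ (πH _ h3)
    rw [map_mul, map_mul, map_inv, map_inv, inv_mul_eq_one, map_mul, map_mul] at h4
    rw [h4, Units.val_mul]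
  have s0 : ∀ η : A, η ≠ 1 → ∑ x, (η.1 (π (β x)) : ℂ) = 0 := fun η hη => by
    obtain ⟨t, ht⟩ : ∃ t, η.1 t ≠ 1 := by
      by_contra hc
      push Not at hc
      exact hη (Subtype.ext (MonoidHom.ext hc))
    have h3 := Equiv.sum_comp (MulAction.toPerm (t : G)) fun x : G ⧸ H => (η.1 (π (β x)) : ℂ)
    simp only [MulAction.toPerm_apply] at h3
    rw [Finset.sum_congr rfl fun x _ => eq η ⟨t, t.2.1⟩ x, ← Finset.mul_sum, πT] at h3
    exact (mul_left_eq_self₀.1 h3).resolve_left fun e => ht (Units.val_eq_one.1 e)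
  obtain ⟨g, hg⟩ := exists_pair two.two inferInstance (s0 θ h1) (s0 θ'⁻¹ (inv_ne_one.2 h2))
    (y0 := (1 : G)) (x0 := (1 : G)) (Units.ne_zero _) (Units.ne_zero _)
  obtain ⟨b, hb, b', hb', e⟩ := BN.mem_cell_iff.1 (BN.mem_cell_bruhat (P := S.bn) g)
  set m : S.bn.N := ⟨_, BN.rep_mem (BN.bruhat S.bn g)⟩ with hm
  set Z := ∑ x : G ⧸ H, (θ.1 (π (β ((m : G) • x))) : ℂ) * (θ'⁻¹).1 (π (β x)) with hZ
  have sh : ∀ c : S.B, ∑ x : G ⧸ H, (θ.1 (π (β ((m : G) • (c : G) • x))) : ℂ) *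
      (θ'⁻¹).1 (π (β x)) * (θ'⁻¹).1 (π c) = Z := fun c => by
    refine Fintype.sum_equiv (MulAction.toPerm (c : G)) _ _ fun x => ?_
    rw [MulAction.toPerm_apply, eq θ'⁻¹ c x]
    ring
  have z0 : Z ≠ 0 := fun h0 => hg (by
    have h3 := sh ⟨b', hb'⟩
    rw [h0, ← Finset.sum_mul, mul_eq_zero] at h3
    rw [Finset.sum_congr rfl fun x _ => by
      rw [e, mul_smul, mul_smul, eq θ ⟨b, hb⟩, mul_assoc], ← Finset.mul_sum]
    exact mul_eq_zero_of_right _ (h3.resolve_right (Units.ne_zero _)))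
  refine ⟨QuotientGroup.mk m⁻¹, Subtype.ext (MonoidHom.ext fun t => ?_)⟩
  change θ.1 (κ m⁻¹⁻¹ t) = θ'.1 t
  have h3 := sh ⟨t, t.2.1⟩
  rw [Finset.sum_congr rfl fun x _ => by
    rw [show (m : G) • (t : G) • x = (κ m t : G) • (m : G) • x by
      rw [κe, ← mul_smul, ← mul_smul, inv_mul_cancel_right], eq θ ⟨κ m t, (κ m t).2.1⟩, πT, πT,
      mul_assoc (θ.1 (κ m t) : ℂ), mul_right_comm], ← Finset.mul_sum, ← hZ] at h3
  have h4 := (mul_left_eq_self₀.1 h3).resolve_right z0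
  rw [← Units.val_mul, Units.val_eq_one] at h4
  rw [inv_inv]
  exact mul_inv_eq_one.1 h4

theorem rl (bas : Bas1Stmt) : RlStmt := by
  have key : ∀ {G : Type} [Group G] {p n : ℕ} (S : Sys G p n) {A : Type} [CommGroup A]
      (Φ : BN.W S.bn →* MulAut A) (D : Set (MulAut A)), (∀ i, Φ (S.w i) ∈ D) →
      ∀ w, Φ w ∈ closure D := by
    intro G _ p n S A _ Φ D hD w
    have h1 : closure (Set.range (BN.gens S.bn).s) ≤ (closure D).comap Φ := (closure_le _).2 (by
      rintro _ ⟨i, rfl⟩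
      obtain ⟨i, rfl⟩ := S.e.surjective i
      exact subset_closure (hD i))
    exact h1 ((BN.gens S.bn).closure_eq ▸ mem_top w)
  have sq : ∀ {G : Type} [Group G] {p n : ℕ} (S : Sys G p n) {A : Type} [CommGroup A]
      (Φ : BN.W S.bn →* MulAut A) (i : Fin n), Φ (S.w i) * Φ (S.w i) = 1 := fun S _ _ Φ i => by
    rw [← map_mul, (BN.gens S.bn).s_mul_s, map_one]
  refine ⟨fun S H two su => ?_, fun S hm H two su => ?_⟩
  · obtain ⟨A, _, _, Φ, hc, tr⟩ := weyl_act bas S H two su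
    rw [← hc]
    refine (rlw (Φ (S.w 0)) 1 2 (Or.inl rfl) (sq S Φ 0) (one_mul 1)
      (by rw [mul_one, pow_two, sq]) fun x y hx hy => ?_).2 (by norm_num)
    obtain ⟨w, hw⟩ := tr x y hx hy
    exact ⟨_, key S Φ _ (fun i => Or.inl (by rw [Subsingleton.elim i 0])) w, hw⟩
  · obtain ⟨A, _, _, Φ, hc, tr⟩ := weyl_act bas S H two su
    rw [← hc]
    have h1 := rlw (Φ (S.w 0)) (Φ (S.w 1)) (S.m 0 1) (Or.inr hm) (sq S Φ 0) (sq S Φ 1)
      (by rw [← map_mul, ← map_pow, pow_orderOf_eq_one, map_one]) fun x y hx hy => by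
        obtain ⟨w, hw⟩ := tr x y hx hy
        refine ⟨_, key S Φ _ (fun i => ?_) w, hw⟩
        fin_cases i
        exacts [Or.inl rfl, Or.inr rfl]
    split_ifs with h6
    exacts [h1.1, h1.2 h6]

end Cfsg.Agent.H15.CksRl
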