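import Mathlib
import Cfsg.Agent.H15.SLHat2

/-! Project DN2, piece BAD: the sets of bad elements, in an abstract root system. -/

set_option autoImplicit false
set_option linter.unusedSectionVars false

namespace Cfsg.Agent.H15.D2B

open Cfsg Cfsg.Agent.H63 Cfsg.Agent.H63.SL Cfsg.Agent.H34 Cfsg.Agent.H40 Cfsg.Agent.H15.SLHat
  Subgroup

universe u v

section Grp

variable {G : Type u} [Group G]

theorem cj_mul (g a b : G) : g * (a * b) * g⁻¹ = g * a * g⁻¹ * (g * b * g⁻¹) := by group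

theorem comm_of_cj {a b : G} (h : a * b * a⁻¹ = b) : Commute a b := by
  rw [mul_inv_eq_iff_eq_mul] at h
  exact h

theorem inv_cj {p z u : G} (hz : Commute p z) (z2 : z * z = 1) (e : p * u * p⁻¹ = z * u) :
    p⁻¹ * u * p = z * u := by
  have : p * (z * u) * p⁻¹ = u := by rw [cj_mul, conj_of_comm hz, e, ← mul_assoc, z2, one_mul]
  conv_lhs => rw [← this]
  group

theorem inv_cj' {p z u : G} (hz : Commute p z) (z2 : z * z = 1) (e : p * u * p⁻¹ = u * z) :
    p⁻¹ * u * p = u * z := by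
  have : p * (u * z) * p⁻¹ = u := by rw [cj_mul, conj_of_comm hz, e, mul_assoc, z2, mul_one]
  conv_lhs => rw [← this]
  group

theorem swap {p d1 d2 y1 y2 : G} (hd : Commute d1 d2) (h1 : d1 * p * d1⁻¹ = p * y1)
    (h2 : d2 * p * d2⁻¹ = p * y2) : y2 * (d2 * y1 * d2⁻¹) = y1 * (d1 * y2 * d1⁻¹) := by
  have e : d2 * (d1 * p * d1⁻¹) * d2⁻¹ = d1 * (d2 * p * d2⁻¹) * d1⁻¹ := by
    calc _ = (d2 * d1) * p * (d2 * d1)⁻¹ := by group
      _ = _ := by rw [← hd.eq]; group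
  rw [h1, h2, cj_mul, cj_mul d1, h1, h2, mul_assoc, mul_assoc p] at e
  exact mul_left_cancel e

end Grp

variable {ι Φ : Type} [Fintype ι] [DecidableEq ι] {R : RS ι Φ}
  {F : Type v} [Field F] {G : Type u} [Group G] {L : Subgroup G} {x : Φ → F → G} {t : G}

theorem zo [Finite F] (hF : Nat.card F = 2) (a : F) : a = 0 ∨ a = 1 := by
  obtain ⟨y, -, hy⟩ := (Nat.card_eq_two_iff' (0 : F)).1 hF
  by_cases h : a = 0
  · exact .inl h
  · exact .inr ((hy a h).trans (hy 1 one_ne_zero).symm)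

/-- The bad elements for the orthogonal roots `r`, `b`. -/
structure Pi (R : RS ι Φ) (x : Φ → F → G) (t : G) (r b : Φ) (p : G) : Prop where
  orth : R.pair r b = 0
  com : ∀ s, 0 ≤ R.pair r s → s ≠ b → s ≠ R.neg b → Commute p (x s 1)
  pos : p * x b 1 * p⁻¹ = x r 1 * x b 1
  neg : p * x (R.neg b) 1 * p⁻¹ = x r 1 * x (R.neg b) 1
  mov : p * t * p⁻¹ = t * x r 1

theorem Pi.symm {r b : Φ} {p : G} (h : Pi R x t r b p) : Pi R x t r (R.neg b) p :=
  ⟨by rw [R.pair_neg_right, h.orth, neg_zero],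
    fun s h0 h1 h2 => h.com s h0 (by rwa [R.neg_neg] at h2) h1, h.neg,
    by rw [R.neg_neg]; exact h.pos, h.mov⟩

theorem Pi.com1 {r b : Φ} {p : G} (h : Pi R x t r b p) {s : Φ} (hs : 0 < R.pair r s) :
    Commute p (x s 1) :=
  h.com s hs.le (fun e => by rw [e, h.orth] at hs; exact absurd hs (lt_irrefl _))
    (fun e => by rw [e, R.pair_neg_right, h.orth, neg_zero] at hs; exact absurd hs (lt_irrefl _))

theorem Pi.self {r b : Φ} {p : G} (h : Pi R x t r b p) : Commute p (x r 1) :=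
  h.com1 (by rw [R.pair_self]; norm_num)

variable (h : St R L x t) (h2 : ∀ a : F, a = 0 ∨ a = 1)
include h

theorem le_one {r s : Φ} (e : s ≠ r) : R.pair r s ≤ 1 := by
  rcases h.rf.vals r s with e' | rfl | e' | e' | e'
  · exact absurd e' e
  · rw [R.pair_neg_right, R.pair_self]; norm_num
  all_goals omega

theorem Pi.cj {r b : Φ} {p : G} (hp : Pi R x t r b p) {n : G} (hn : n ∈ L) {w : Equiv.Perm Φ}
    (hw : w ∈ R.W) (hx : ∀ s, n * x s 1 * n⁻¹ = x (w s) 1) :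
    Pi R x t (w r) (w b) (n * p * n⁻¹) := by
  have k : ∀ a, n * p * n⁻¹ * (n * a * n⁻¹) * (n * p * n⁻¹)⁻¹ = n * (p * a * p⁻¹) * n⁻¹ :=
    fun a => by group
  refine ⟨by rw [R.pair_W hw, hp.orth], fun s h0 h1 h2 => ?_, ?_, ?_, ?_⟩
  · obtain ⟨s, rfl⟩ := w.surjective s
    rw [← R.W_neg hw] at h2
    rw [R.pair_W hw] at h0
    refine comm_of_cj ?_
    rw [← hx, k, conj_of_comm (hp.com s h0 (fun e => h1 (e ▸ rfl)) fun e => h2 (e ▸ rfl))]
  · rw [← hx, k, hp.pos, cj_mul, hx]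
  · rw [← R.W_neg hw, ← hx, k, hp.neg, cj_mul, hx]
  · rw [← conj_of_comm (h.tL hn), k, hp.mov, cj_mul, hx]

theorem Pi.mul {r b : Φ} {p g : G} (hp : Pi R x t r b p) (gt : Commute g t)
    (hg : ∀ s, 0 ≤ R.pair r s → Commute g (x s 1)) : Pi R x t r b (g * p) := by
  have k : ∀ a, g * p * a * (g * p)⁻¹ = g * (p * a * p⁻¹) * g⁻¹ := fun a => by group
  have hr := hg r (by rw [R.pair_self]; norm_num)
  refine ⟨hp.orth, fun s h0 h1 h2 => (hg s h0).mul_left (hp.com s h0 h1 h2), ?_, ?_, ?_⟩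
  · rw [k, hp.pos, conj_of_comm (hr.mul_right (hg b hp.orth.ge))]
  · rw [k, hp.neg, conj_of_comm (hr.mul_right (hg _ hp.symm.orth.ge))]
  · rw [k, hp.mov, conj_of_comm (gt.mul_right hr)]

theorem Pi.ipos {r b : Φ} {p : G} (hp : Pi R x t r b p) : p⁻¹ * x b 1 * p = x r 1 * x b 1 :=
  inv_cj hp.self (x_sq h.pin r 1) hp.pos

theorem Pi.imov {r b : Φ} {p : G} (hp : Pi R x t r b p) : p⁻¹ * t * p = t * x r 1 :=
  inv_cj' hp.self (x_sq h.pin r 1) hp.mov

theorem Pi.invL {r b : Φ} {p : G} (hp : Pi R x t r b p) {s : Φ} (hs : 0 ≤ R.pair r s) :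
    p⁻¹ * x s 1 * p ∈ L := by
  by_cases e1 : s = b
  · rw [e1, hp.ipos h]; exact mul_mem (h.xL _ _) (h.xL _ _)
  by_cases e2 : s = R.neg b
  · rw [e2, hp.symm.ipos h]; exact mul_mem (h.xL _ _) (h.xL _ _)
  rw [← (hp.com s hs e1 e2).inv_left.eq.symm, inv_mul_cancel_right]
  exact h.xL _ _

include h2

theorem ca {g : G} {s : Φ} (c : Commute g (x s 1)) (a : F) : Commute g (x s a) := by
  rcases h2 a with rfl | rfl
  · rw [x_zero h.pin]; exact Commute.one_right g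
  · exact c

theorem ker {r : Φ} {g : G} (gt : Commute g t) (hg : ∀ s, 0 ≤ R.pair r s → Commute g (x s 1)) :
    ∃ c, ∃ k ∈ C[L], Commute k t ∧ g = x r c * k :=
  h.D_ker ⟨fun s hs => ca h h2 (hg s hs), by rw [conj_of_comm gt, x_zero h.pin, mul_one]⟩

theorem Pi.uniq {r b : Φ} {p q : G} (hp : Pi R x t r b p) (hq : Pi R x t r b q) :
    ∃ c, ∃ k ∈ C[L], Commute k t ∧ q = p * (x r c * k) := by
  have k : ∀ a, p⁻¹ * q * a * (p⁻¹ * q)⁻¹ = p⁻¹ * (q * a * q⁻¹) * p := fun a => by group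
  have k' : ∀ a, p⁻¹ * (p * a * p⁻¹) * p = a := fun a => by group
  obtain ⟨c, k, hk, kt, e⟩ := ker h h2 (r := r) (g := p⁻¹ * q)
    (comm_of_cj (by rw [k, hq.mov, ← hp.mov, k'])) fun s hs => by
      by_cases e1 : s = b
      · exact comm_of_cj (by rw [e1, k, hq.pos, ← hp.pos, k'])
      by_cases e2 : s = R.neg b
      · exact comm_of_cj (by rw [e2, k, hq.neg, ← hp.neg, k'])
      exact (hp.com s hs e1 e2).inv_left.mul_left (hq.com s hs e1 e2)
  exact ⟨c, k, hk, kt, by rw [← e, mul_inv_cancel_left]⟩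

theorem Pi.odd {r b : Φ} {p : G} (hp : Pi R x t r b p) {k : G} (hk : k ∈ C[L])
    (hkt : Commute k t) (ho : Odd (orderOf k)) : p * k * p⁻¹ ∈ C[L] := by
  obtain ⟨c, k', hk', -, e⟩ := ker h h2 (r := r) (g := p * k * p⁻¹)
    (comm_conj (by rw [hp.imov h]; exact hkt.mul_right (hk _ (h.xL _ _)).symm))
    fun s hs => comm_conj (hk _ (hp.invL h hs)).symm
  have h2 : Commute (x r c) k' := hk' _ (h.xL r c)
  have h3 : (x r c * k') ^ orderOf k = 1 := by rw [← e, conj_pow, pow_orderOf_eq_one]; group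
  obtain ⟨m, hm⟩ := ho
  rw [h2.mul_pow, hm, pow_succ, pow_mul, pow_two, x_sq h.pin, one_pow, one_mul,
    mul_eq_one_iff_eq_inv] at h3
  rw [e, h3]
  exact mul_mem (inv_mem (pow_mem hk' _)) hk'

/-- The basic commutator formula. -/
theorem Pi.form {r1 b1 r2 b2 r3 δ : Φ} (e1 : R.rc r2 = R.rc δ + R.rc r1)
    (e2 : R.rc r2 = R.rc r3 + R.rc b1) (e3 : R.rc r1 = R.rc r3 + R.rc b2)
    (e4 : R.rc b1 = R.rc δ + R.rc b2)
    (hc : ∀ s, 0 ≤ R.pair r1 s → 0 ≤ R.pair r2 s → s ≠ b1 → s ≠ b2 → 0 ≤ R.pair r3 s)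
    {p p0 : G} (hp : Pi R x t r1 b1 p) (hp0 : Pi R x t r2 b2 p0) :
    ∃ p1 a, Pi R x t r2 b2 p1 ∧ x δ 1 * p * (x δ 1)⁻¹ = p * (p1 * (x r3 1 * x r1 a)) ∧
      p1 * p1 = x r2 a ∧ ∀ k ∈ C[L], Commute k t → Odd (orderOf k) → Commute p1 k := by
  obtain ⟨a1, a2, a3, a4, a5, a6⟩ := h.pair_sum e1
  obtain ⟨b1', b2', b3, b4, b5, b6⟩ := h.pair_sum e2
  obtain ⟨c1, c2, c3, c4, c5, c6⟩ := h.pair_sum e3
  obtain ⟨d1, d2, d3, d4, d5, d6⟩ := h.pair_sum e4
  have f1 : R.pair r3 δ = 0 := by have := h.rf.pair_add r3 δ r1 r2 e1; omega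
  have P := h.pin
  have sq := x_sq P
  have cm : ∀ {r s : Φ}, 0 ≤ R.pair r s → ∀ a b, Commute (x r a) (x s b) := fun hs => P.com _ _ hs
  set d := x δ 1 with hd
  have dd : d⁻¹ = d := x_inv P δ 1
  have dz1 : ∀ a, d * x r1 a * d⁻¹ = x r2 a * x r1 a := fun a => by
    simpa using x_conj P e1 1 a
  have du2 : d * x b2 1 * d⁻¹ = x b1 1 * x b2 1 := by simpa using x_conj P e4 1 1
  have zu1 : x r3 1 * x b1 1 * (x r3 1)⁻¹ = x r2 1 * x b1 1 := by simpa using x_conj P e2 1 1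
  have zu2 : x r3 1 * x b2 1 * (x r3 1)⁻¹ = x r1 1 * x b2 1 := by simpa using x_conj P e3 1 1
  have dz2 : ∀ a, Commute d (x r2 a) := cm (by omega) 1
  have dz3 : Commute d (x r3 1) := (cm (by omega) 1 1).symm
  have du1 : Commute d (x b1 1) := cm (by omega) 1 1
  have pz1 := hp.self
  have pz2 : Commute p (x r2 1) := hp.com1 (by omega)
  have pu2 : Commute p (x b2 1) := hp.com1 (by omega)
  have qz1 : Commute p0 (x r1 1) := hp0.com1 (by omega)
  have qu1 : Commute p0 (x b1 1) := hp0.com1 (by omega)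
  have z12 : ∀ a b, Commute (x r1 a) (x r2 b) := cm (by omega)
  obtain ⟨y, hy⟩ : ∃ y, y = p⁻¹ * (d * p * d⁻¹) := ⟨_, rfl⟩
  have ky : ∀ a, y * a * y⁻¹ = p⁻¹ * (d * (p * (d * a * d⁻¹) * p⁻¹) * d⁻¹) * p := fun a => by
    have : d * a * d⁻¹ = d⁻¹ * a * d := by rw [dd]
    rw [this, hy]; group
  have yc : ∀ a, Commute p a → Commute p (d * a * d⁻¹) → Commute y a := fun a c1 c2 =>
    comm_of_cj (by
      rw [ky, conj_of_comm c2]
      calc _ = p⁻¹ * (d * d * a * (d * d)⁻¹) * p := by group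
        _ = a := by rw [hd, sq, one_mul, inv_one, mul_one, ← c1.inv_left.eq.symm]; group)
  have yz1 : Commute y (x r1 1) := yc _ pz1 (by rw [dz1]; exact pz2.mul_right pz1)
  have yz2 : Commute y (x r2 1) := yc _ pz2 (by rw [conj_of_comm (dz2 1)]; exact pz2)
  have ip : ∀ {a}, Commute p a → p⁻¹ * a * p = a := fun c => by
    rw [← c.inv_left.eq.symm]; group
  have icj : ∀ a b, p⁻¹ * (a * b) * p = p⁻¹ * a * p * (p⁻¹ * b * p) := fun a b => by group
  have yt : y * t * y⁻¹ = t * x r2 1 := by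
    rw [ky, conj_of_comm (h.tx δ 1), hp.mov, cj_mul, conj_of_comm (h.tx δ 1), dz1, icj,
      hp.imov h, ip (pz2.mul_right pz1), mul_assoc, ← (z12 1 1).eq, ← mul_assoc (x r1 1), sq,
      one_mul]
  have yu1 : y * x b1 1 * y⁻¹ = x r2 1 * x b1 1 := by
    rw [ky, conj_of_comm du1, hp.pos, cj_mul, conj_of_comm du1, dz1, icj, hp.ipos h,
      ip (pz2.mul_right pz1), mul_assoc, ← mul_assoc (x r1 1), sq, one_mul]
  have yu2 : y * x b2 1 * y⁻¹ = x r2 1 * x r1 1 * x b2 1 := by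
    rw [ky, du2, cj_mul p, hp.pos, conj_of_comm pu2, cj_mul, cj_mul, dz1, conj_of_comm du1, du2,
      mul_assoc _ (x b1 1), ← mul_assoc (x b1 1), sq, one_mul,
      ip ((pz2.mul_right pz1).mul_right pu2)]
  have k0 : ∀ a, y * p0⁻¹ * x r3 1 * a * (y * p0⁻¹ * x r3 1)⁻¹ =
      y * (p0⁻¹ * (x r3 1 * a * (x r3 1)⁻¹) * p0) * y⁻¹ := fun a => by group
  have iq : ∀ {a}, Commute p0 a → p0⁻¹ * a * p0 = a := fun c => by
    rw [← c.inv_left.eq.symm]; group
  have y0t : Commute (y * p0⁻¹ * x r3 1) t := comm_of_cj (by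
    rw [k0, conj_of_comm (h.tx r3 1), hp0.imov h, cj_mul, yt, conj_of_comm yz2, mul_assoc, sq,
      mul_one])
  have y0s : ∀ s, 0 ≤ R.pair r1 s → 0 ≤ R.pair r2 s → Commute (y * p0⁻¹ * x r3 1) (x s 1) := by
    intro s s1 s2
    by_cases g1 : s = b1
    · refine comm_of_cj ?_
      rw [g1, k0, zu1, iq (hp0.self.mul_right qu1), cj_mul, yu1, conj_of_comm yz2, ← mul_assoc, sq,
        one_mul]
    by_cases g2 : s = b2
    · refine comm_of_cj ?_
      have : p0⁻¹ * (x r1 1 * x b2 1) * p0 = p0⁻¹ * x r1 1 * p0 * (p0⁻¹ * x b2 1 * p0) := by group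
      rw [g2, k0, zu2, this, iq qz1, hp0.ipos h, cj_mul, cj_mul, yu2, conj_of_comm yz1,
        conj_of_comm yz2, mul_assoc, ← mul_assoc (x r2 1), sq, one_mul, ← mul_assoc, sq, one_mul]
    have g3 : s ≠ R.neg b1 := fun e => by rw [e, R.pair_neg_right] at s2; omega
    have g4 : s ≠ R.neg b2 := fun e => by rw [e, R.pair_neg_right] at s1; omega
    have ps := hp.com s s1 g1 g3
    refine (Commute.mul_left (yc _ ps ?_) (hp0.com s s2 g2 g4).inv_left).mul_left
      (cm (hc s s1 s2 g1 g2) 1 1)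
    by_cases g5 : 0 ≤ R.pair δ s
    · rw [conj_of_comm (cm g5 1 1)]; exact ps
    have g6 : R.pair δ s = -1 := by
      rcases h.rf.vals δ s with e | e | e | e | e
      · rw [e, R.pair_self] at g5; omega
      · rw [e, R.pair_neg_right] at s2; omega
      all_goals omega
    obtain ⟨s', hs'⟩ := (h.rf.sum δ s).1 g6
    have g7 := h.rf.pair_add r1 δ s s' hs'
    have g8 := h.rf.pair_add s δ r1 r2 e1
    have g9 := h.rf.symm s δ
    have g10 := h.rf.symm s r1
    have g11 := h.rf.symm s r2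
    have g12 := (h.pair_sum hs').2.2.1
    have := x_conj P hs' 1 1
    rw [mul_one] at this
    rw [this]
    refine (hp.com s' (by omega) (fun e => g2 ?_) fun e => ?_).mul_right ps
    · rw [e, e4] at hs'
      exact R.rc_inj (add_left_cancel hs').symm
    · rw [e, R.pair_neg_right] at g12; omega
  obtain ⟨a, e, k, hk, hy0⟩ := h.ctx.lf.f2 r1 r2 (by omega) _ (h.norm_of y0t)
    fun s b s1 s2 => ca h h2 (y0s s s1 s2) b
  have kx : ∀ s b, Commute k (x s b) := fun s b => (hk _ (h.xL s b)).symm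
  have kt : Commute k t := by
    have := ((h.tx r1 a).mul_left (h.tx r2 e)).inv_left.mul_left y0t
    rwa [hy0, inv_mul_cancel_left] at this
  have hp1 : Pi R x t r2 b2 (x r2 e * k * p0) :=
    hp0.mul h ((h.tx _ _).mul_left kt) fun s hs => (cm hs e 1).mul_left (kx s 1)
  obtain ⟨p1, hq⟩ : ∃ p1, p1 = x r2 e * k * p0 := ⟨_, rfl⟩
  rw [← hq] at hp1
  have rz1 : Commute p1 (x r1 a) := ca h h2 (hp1.com1 (by omega)) a
  have rz3 : Commute p1 (x r3 1) := hp1.com1 (by omega)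
  have z13 : Commute (x r1 a) (x r3 1) := cm (by omega) _ _
  have ey : y = p1 * (x r3 1 * x r1 a) := by
    have c : Commute (x r2 e * k) (x r3 1) := (cm (by omega) _ _).mul_left (kx _ _)
    calc y = y * p0⁻¹ * x r3 1 * (x r3 1)⁻¹ * p0 := by group
      _ = x r1 a * (x r2 e * k * x r3 1) * p0 := by rw [hy0, x_inv P]; group
      _ = x r1 a * x r3 1 * p1 := by rw [c.eq, hq]; group
      _ = _ := by rw [z13.eq, (rz3.mul_right rz1).eq]
  refine ⟨p1, a, hp1, by rw [← ey, hy, mul_inv_cancel_left], ?_, fun k hk kt ko => ?_⟩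
  · have e1 : y * (d * y * d⁻¹) = 1 := by
      calc _ = p⁻¹ * (d * d) * p * (d * d)⁻¹ := by rw [hy]; group
        _ = 1 := by rw [hd, sq]; group
    have dp : Commute d p1 := (hp1.com1 (by omega)).symm
    rw [ey, cj_mul, cj_mul, conj_of_comm dp, conj_of_comm dz3, dz1] at e1
    have : p1 * p1 * (x r3 1 * x r3 1) * x r2 a * (x r1 a * x r1 a) = 1 := by
      rw [← e1]
      simp only [mul_assoc]
      rw [rz1.symm.left_comm, rz3.symm.left_comm, z13.left_comm, (z12 a a).left_comm]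
    rw [sq, sq, mul_one, mul_one, mul_eq_one_iff_eq_inv, x_inv P] at this
    exact this
  · have h1 : Commute d (p⁻¹⁻¹ * k * p⁻¹) := by
      rw [inv_inv]; exact hp.odd h h2 hk kt ko _ (h.xL δ 1)
    have h3 : Commute d k := hk _ (h.xL δ 1)
    have h4 : Commute y k := by
      rw [hy]; simpa [mul_assoc] using (comm_conj h1).mul_left h3.inv_left
    have h5 : Commute (x r3 1 * x r1 a) k := hk _ (mul_mem (h.xL _ _) (h.xL _ _))
    have := h4.mul_left h5.inv_left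
    rwa [ey, mul_inv_cancel_right] at this

/-- Two bad elements with squares in the root subgroup. -/
theorem Pi.cmp [Finite G] {r b : Φ} {p q : G} {a c : F} (hp : Pi R x t r b p)
    (hq : Pi R x t r b q) (p2 : p * p = x r a) (q2 : q * q = x r c)
    (ho : ∀ k ∈ C[L], Commute k t → Odd (orderOf k) → Commute p k) :
    ∃ e, (q = p * x r e ∧ c = a) ∨ (q = p * (x r e * t) ∧ c = a + 1) := by
  obtain ⟨e, k, hk, kt, rfl⟩ := hp.uniq h h2 hq
  obtain ⟨k0, hk0, k0t, ko, hk'⟩ := h.K_dec hk kt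
  have P := h.pin
  have pk := ho k0 hk0 k0t ko
  have kx : ∀ s b, Commute k0 (x s b) := fun s b => (hk0 _ (h.xL s b)).symm
  have px : ∀ b, Commute p (x r b) := ca h h2 hp.self
  have key : ∀ b, x r b * (k0 * k0) = x r c → k0 = 1 ∧ c = b := fun b e => by
    have e1 : k0 * k0 = x r (b + c) := by rw [P.add, ← e, ← mul_assoc, x_sq P, one_mul]
    have e2 : k0 = 1 := eq_one_of_odd ko (n := 2) (by
      rw [show 2 ^ 2 = 2 * 2 from rfl, pow_mul, pow_two, pow_two, e1, x_sq P])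
    rw [e2, mul_one, mul_one] at e
    exact ⟨e2, (x_inj P e).symm⟩
  refine ⟨e, ?_⟩
  rcases hk' with rfl | rfl
  · obtain ⟨e1, e2⟩ := key a (by
      rw [← q2, ← p2]
      calc _ = p * p * (x r e * x r e) * (k * k) := by rw [x_sq P, mul_one]
        _ = _ := by
          simp only [mul_assoc]
          rw [pk.symm.left_comm, (px e).symm.left_comm, (kx r e).left_comm])
    exact .inl ⟨by rw [e1, mul_one], e2⟩
  · obtain ⟨e1, e2⟩ := key (a + 1) (by
      have tp : t * p = p * (t * x r 1) := by rw [← hp.imov h]; group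
      rw [← q2, P.add, ← p2]
      calc _ = p * p * (x r e * x r e) * (t * t) * x r 1 * (k0 * k0) := by
            rw [x_sq P, h.tt, mul_one, mul_one]
        _ = _ := by
          simp only [mul_assoc]
          rw [pk.symm.left_comm, ← mul_assoc t p, tp]
          simp only [mul_assoc]
          rw [(px e).symm.left_comm, (kx r e).left_comm, k0t.left_comm,
            (P.com r r (by rw [R.pair_self]; norm_num) 1 e).left_comm, (h.tx r 1).left_comm,
            (h.tx r e).symm.left_comm])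
    exact .inr ⟨by rw [e1, mul_one], e2⟩

end Cfsg.Agent.H15.D2B
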