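import Mathlib
import Cfsg.Agent.H37.FkKit
import Cfsg.Agent.H97.FactorSat
import Cfsg.Agent.H98.GroupNormal

/-!
# Piece QUOT of S5161: `S ∩ O²(K) ≤ T O²(N(T))` for `T` strongly closed in `S`
-/

set_option autoImplicit false
open Subgroup

namespace Cfsg.Agent.H15.FkQuot
open Cfsg Cfsg.Agent.H37.FK

universe u

variable {K : Type u} [Group K]

theorem sc_of {S T : Subgroup K} (h : IsStronglyClosed T S) :
    (groupFusionSystem S).StronglyClosed T := by
  refine ⟨h.1, fun R hR φ hφ x => ?_⟩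
  obtain ⟨-, h1, g, hg⟩ := hφ
  have := h1 x
  rw [hg] at this ⊢
  exact h.2 _ (hR x.2) g this

theorem O2_conj {N : Subgroup K} {n x : K} (hn : n ∈ N) (hx : x ∈ O2 N) : n * x * n⁻¹ ∈ O2 N := by
  induction hx using closure_induction with
  | mem y hy =>
    refine subset_closure ⟨mul_mem (mul_mem hn hy.1) (inv_mem hn), ?_⟩
    have := MulEquiv.orderOf_eq (MulAut.conj n) y
    rw [MulAut.conj_apply] at this
    rw [this]; exact hy.2
  | one => simp
  | mul a b _ _ ha hb =>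
    have : n * (a * b) * n⁻¹ = n * a * n⁻¹ * (n * b * n⁻¹) := by group
    rw [this]; exact mul_mem ha hb
  | inv a _ ha =>
    have : n * a⁻¹ * n⁻¹ = (n * a * n⁻¹)⁻¹ := by group
    rw [this]; exact inv_mem ha

theorem sup_conj {T : Subgroup K} {n x : K} (hn : n ∈ normalizer (T : Set K))
    (hx : x ∈ T ⊔ O2 (normalizer (T : Set K))) : n * x * n⁻¹ ∈ T ⊔ O2 (normalizer (T : Set K)) := by
  have : T ⊔ O2 (normalizer (T : Set K)) ≤
      (T ⊔ O2 (normalizer (T : Set K))).comap (MulAut.conj n).toMonoidHom :=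
    sup_le (fun y hy => mem_sup_left ((mem_normalizer_iff.1 hn y).1 hy))
      fun y hy => mem_sup_right (O2_conj hn hy)
  exact this hx

/-- every conjugation map between subgroups of `S` is induced modulo `T` by an element of `N(T)` -/
theorem exists_mod [Finite K] (S : Sylow 2 K) {T P : Subgroup K}
    (hT : IsStronglyClosed T (S : Subgroup K)) {f : K → K}
    (hf : H97.Mor (groupFusionSystem (S : Subgroup K)) P f) :
    ∃ n ∈ normalizer (T : Set K), ∀ x ∈ P, (f x)⁻¹ * (n * x * n⁻¹) ∈ T := by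
  obtain ⟨g, hg, e⟩ := H97.Mor.exists_ext_mod S.isPGroup' (H98.group_isSaturated S) (sc_of hT) hf
  obtain ⟨-, h1, n, hn⟩ := H97.mor_group_iff.1 hg
  refine ⟨n, ?_, fun x hx => by rw [← hn x (mem_sup_left hx)]; exact e x hx⟩
  refine mem_normalizer_fintype fun x hx => hT.2 x hx n ?_
  rw [← hn x (mem_sup_right hx)]
  exact h1 x (mem_sup_right hx)

theorem quot : QuotStmt.{u} := by
  intro K _ _ S T hT
  have e0 : O2 (⊤ : Subgroup K) = pResidual 2 K := by
    unfold O2 pResidual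
    congr 1
    ext g
    simp
  rw [e0, ← H98.group_hyp_eq S, H97.hyp_le_iff]
  intro P hP α hα hc x hx
  obtain ⟨n, hn, e⟩ := exists_mod S hT (H97.mor_of_mem_autGroup hP hα)
  set N := normalizer (T : Set K) with hN
  set H := T ⊔ O2 N with hH
  have SN : (S : Subgroup K) ≤ N := fun s hs =>
    mem_normalizer_fintype fun y hy => sc_normal hT hs hy
  have cj : ∀ {a y : K}, a ∈ N → y ∈ H → a * y * a⁻¹ ∈ H := fun ha hy => sup_conj ha hy
  let C : Subgroup K :=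
    { carrier := {g | g ∈ N ∧ x⁻¹ * (g * x * g⁻¹) ∈ H}
      one_mem' := ⟨one_mem _, by simp⟩
      mul_mem' := by
        rintro a b ⟨ha, ha'⟩ ⟨hb, hb'⟩
        refine ⟨mul_mem ha hb, ?_⟩
        have : x⁻¹ * (a * b * x * (a * b)⁻¹) =
          x⁻¹ * (a * x * a⁻¹) * (a * (x⁻¹ * (b * x * b⁻¹)) * a⁻¹) := by group
        rw [this]; exact mul_mem ha' (cj ha hb')
      inv_mem' := by
        rintro a ⟨ha, ha'⟩
        refine ⟨inv_mem ha, ?_⟩
        have : x⁻¹ * (a⁻¹ * x * a⁻¹⁻¹) = a⁻¹ * (x⁻¹ * (a * x * a⁻¹))⁻¹ * a⁻¹⁻¹ := by group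
        rw [this]; exact cj (inv_mem ha) (inv_mem ha') }
  have pw : ∀ k : ℕ, (H97.ext (α ^ k) x)⁻¹ * (n ^ k * x * (n ^ k)⁻¹) ∈ H := by
    intro k
    induction k with
    | zero => simp
    | succ k ih =>
      rw [pow_succ', H97.ext_mul]
      have h1 := e _ (H97.ext_mem (α ^ k) hx)
      have : (H97.ext α (H97.ext (α ^ k) x))⁻¹ * (n ^ (k + 1) * x * (n ^ (k + 1))⁻¹) =
        (H97.ext α (H97.ext (α ^ k) x))⁻¹ * (n * H97.ext (α ^ k) x * n⁻¹) *
          (n * ((H97.ext (α ^ k) x)⁻¹ * (n ^ k * x * (n ^ k)⁻¹)) * n⁻¹) := by group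
      rw [this]; exact mul_mem (mem_sup_left h1) (cj hn ih)
  have c1 : n ^ orderOf α ∈ C := ⟨pow_mem hn _, by
    have := pw (orderOf α)
    rwa [pow_orderOf_eq_one, H97.ext_one] at this⟩
  obtain ⟨a, m, hm, hd⟩ := Nat.exists_eq_two_pow_mul_odd (orderOf_pos n).ne'
  have c2 : n ^ 2 ^ a ∈ C := ⟨pow_mem hn _, by
    have o : n ^ 2 ^ a ∈ H := mem_sup_right (subset_closure ⟨pow_mem hn _, by
      refine Odd.of_dvd_nat hm (orderOf_dvd_of_pow_eq_one ?_)
      rw [← pow_mul, ← hd, pow_orderOf_eq_one]⟩)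
    have : x⁻¹ * (n ^ 2 ^ a * x * (n ^ 2 ^ a)⁻¹) = x⁻¹ * n ^ 2 ^ a * x⁻¹⁻¹ * (n ^ 2 ^ a)⁻¹ := by group
    rw [this]
    exact mul_mem (cj (inv_mem (SN (hP hx))) o) (inv_mem o)⟩
  have c3 : n ∈ C := by
    have co : Nat.Coprime (orderOf α) (2 ^ a) := Nat.Coprime.pow_right a hc
    have := Nat.gcd_eq_gcd_ab (orderOf α) (2 ^ a)
    rw [co] at this
    have e1 : n = (n ^ orderOf α) ^ Nat.gcdA (orderOf α) (2 ^ a) *
        (n ^ 2 ^ a) ^ Nat.gcdB (orderOf α) (2 ^ a) := by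
      rw [← zpow_natCast, ← zpow_natCast n (2 ^ a), ← zpow_mul, ← zpow_mul, ← zpow_add, ← this]
      simp
    rw [e1]
    exact mul_mem (zpow_mem c1 _) (zpow_mem c2 _)
  have : x⁻¹ * H97.ext α x =
    x⁻¹ * (n * x * n⁻¹) * ((H97.ext α x)⁻¹ * (n * x * n⁻¹))⁻¹ := by group
  rw [this]
  exact mul_mem c3.2 (inv_mem (mem_sup_left (e x hx)))

end Cfsg.Agent.H15.FkQuot
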