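import Mathlib
import Cfsg.Agent.H78.G40B
import Cfsg.Agent.H86.G40Cvg

/-! Project L40G, piece CV2C: the centraliser of the four-group in the symplectic case. -/

set_option autoImplicit false

namespace Cfsg.Agent.H15.G40Cv2c

open Subgroup Cfsg.Agent.H83 Cfsg.Agent.H46.L40 Cfsg.Agent.H78.G40
open Cfsg.Agent.H86.G40Cvg (comm_cj)

universe u

local notation "C[" A "]" => Subgroup.centralizer (SetLike.coe A)
local notation "N[" A "]" => Subgroup.normalizer (SetLike.coe A)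

theorem four {W : Type u} [Group W] {p q x b y : W} (hp : p * p = 1) (hq : q * q = 1)
    (hpq : p * q * (p * q) = 1) (hb : b ∈ closure ({p, q} : Set W))
    (hy : y ∈ closure ({p, q} : Set W)) (hy' : x * y * x⁻¹ ∈ closure ({p, q} : Set W))
    (b1 : b ≠ 1) (xb : x * b * x⁻¹ = b) (odd : Odd (orderOf x)) : x * y * x⁻¹ = y := by
  have hc : q * p = p * q := by
    rw [← inv_eq_of_mul_eq_one_right hpq, mul_inv_rev, inv_eq_of_mul_eq_one_right hp,
      inv_eq_of_mul_eq_one_right hq]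
  have hp' : ∀ t, p * (p * t) = t := fun t => by rw [← mul_assoc, hp, one_mul]
  have hc' : ∀ t, q * (p * t) = p * (q * t) := fun t => by rw [← mul_assoc, hc, mul_assoc]
  have el : ∀ t ∈ closure ({p, q} : Set W), t = 1 ∨ t = p ∨ t = q ∨ t = p * q := fun t ht => by
    induction ht using closure_induction'' with
    | mem t ht => rcases ht with rfl | rfl <;> simp
    | inv_mem t ht =>
      rcases ht with rfl | rfl
      · simp [inv_eq_of_mul_eq_one_right hp]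
      · simp [inv_eq_of_mul_eq_one_right hq]
    | one => simp
    | mul s t _ _ h1 h2 =>
      rcases h1 with h1 | h1 | h1 | h1 <;> rcases h2 with h2 | h2 | h2 | h2 <;>
        simp only [h1, h2, mul_assoc, hp, hq, hc, hp', hc', mul_one, one_mul, true_or, or_true]
  have bb : b * b = 1 := by
    rcases el b hb with h | h | h | h <;> rw [h]
    exacts [one_mul _, hp, hq, hpq]
  have key : ∀ y' ∈ closure ({p, q} : Set W),
      y' = y ∨ y' = b * y ∨ y = 1 ∨ y = b ∨ y' = 1 ∨ y' = b := fun y' h => by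
    rcases el b hb with h1 | h1 | h1 | h1
    · exact absurd h1 b1
    all_goals
      rcases el y hy with h2 | h2 | h2 | h2 <;> rcases el y' h with h3 | h3 | h3 | h3 <;>
        simp only [h1, h2, h3, mul_assoc, hp, hq, hc, hp', hc', mul_one, true_or, or_true]
  rcases key _ hy' with h | h | h | h | h | h
  · exact h
  · have h1 : Commute (x ^ 2) y := by
      have : x * (x * y * x⁻¹) * x⁻¹ = y := by
        rw [h, ← conj_mul, xb, h, ← mul_assoc, bb, one_mul]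
      calc x ^ 2 * y = x * (x * y * x⁻¹) * x⁻¹ * x ^ 2 := by rw [pow_two]; group
        _ = _ := by rw [this]
    obtain ⟨k, hk⟩ := odd
    have h2 : (x ^ 2) ^ (k + 1) = x := by
      rw [← pow_mul, mul_add, mul_one, show 2 * k + 2 = 2 * k + 1 + 1 from rfl, pow_succ, ← hk,
        pow_orderOf_eq_one, one_mul]
    have h3 := h1.pow_left (k + 1)
    rw [h2] at h3
    rw [h3.eq, mul_inv_cancel_right]
  · rw [h, mul_one, mul_inv_cancel]
  · rw [h, xb]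
  · rw [h]; exact (conj_eq_one_iff.1 h).symm
  · rw [h]; exact ((MulAut.conj x).injective (h.trans xb.symm)).symm

theorem modV {G : Type u} [Group G] {V Q : Subgroup G} {p q x b : G}
    (hQ : Q = closure {p, q} ⊔ V) (QV : Q ≤ C[V]) (sq : ∀ y ∈ Q, y * y ∈ V) (xV : x ∈ C[V])
    (xQ : x ∈ N[Q]) (odd : Odd (orderOf x)) (bQ : b ∈ Q) (bV : b ∉ V)
    (xb : b⁻¹ * (x * b * x⁻¹) ∈ V) : ∀ y ∈ Q, x * y * x⁻¹ * y⁻¹ ∈ V := by
  intro y hy
  have : (V.subgroupOf C[V]).Normal := ⟨fun n hn g => by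
    have h : (n : G) * g = g * n := g.2 n hn
    change (g : G) * n * (g : G)⁻¹ ∈ V
    rw [← h, mul_inv_cancel_right]
    exact hn⟩
  let π := QuotientGroup.mk' (V.subgroupOf C[V])
  have k : ∀ a : C[V], π a = 1 ↔ (a : G) ∈ V := fun a => QuotientGroup.eq_one_iff a
  have pQ : p ∈ Q := hQ ▸ mem_sup_left (subset_closure (by simp))
  have qQ : q ∈ Q := hQ ▸ mem_sup_left (subset_closure (by simp))
  have hS : ∀ t (ht : t ∈ Q), π ⟨t, QV ht⟩ ∈ closure {π ⟨p, QV pQ⟩, π ⟨q, QV qQ⟩} := fun t ht => by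
    have : Q ≤ ((closure {π ⟨p, QV pQ⟩, π ⟨q, QV qQ⟩}).comap π).map C[V].subtype := by
      refine hQ.le.trans (sup_le ((closure_le _).2 ?_) fun v hv => ?_)
      · rintro _ (rfl | rfl)
        exacts [⟨⟨_, QV pQ⟩, subset_closure (by simp), rfl⟩, ⟨⟨_, QV qQ⟩, subset_closure (by simp), rfl⟩]
      · have hv' : v ∈ C[V] := QV (hQ ▸ mem_sup_right hv)
        exact ⟨⟨v, hv'⟩, mem_comap.2 (((k ⟨v, hv'⟩).2 hv).symm ▸ one_mem _), rfl⟩
    obtain ⟨a, ha, rfl⟩ := this ht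
    exact ha
  have s2 : ∀ t (ht : t ∈ Q), π ⟨t, QV ht⟩ * π ⟨t, QV ht⟩ = 1 := fun t ht => by
    rw [← map_mul, k]; exact sq t ht
  have h := four (x := π ⟨x, xV⟩) (s2 p pQ) (s2 q qQ)
    (by rw [← map_mul]; exact s2 _ (mul_mem pQ qQ)) (hS b bQ) (hS y hy)
    (by rw [← map_inv, ← map_mul, ← map_mul]; exact hS _ ((mem_normalizer_iff.1 xQ y).1 hy))
    (fun e => bV ((k _).1 e))
    (by
      rw [eq_comm, ← inv_mul_eq_one, ← map_inv, ← map_inv, ← map_mul, ← map_mul, ← map_mul, k]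
      exact xb)
    (odd.of_dvd_nat ((orderOf_map_dvd π _).trans (orderOf_mk x xV).dvd))
  rw [← mul_inv_eq_one, ← map_inv, ← map_inv, ← map_mul, ← map_mul, ← map_mul, k] at h
  exact h

theorem cv2c : Cv2cS.{u} := by
  intro hK hO X _ e σ τ θ D fa fb fc G _ _ S ψ T hA hQ I hI
  have hV : ∀ x, x ∈ C[S.V] ↔ Commute S.z x ∧ Commute S.a x := fun x => by
    rw [Dat.V, V0, MonoidHom.map_closure, centralizer_closure, mem_centralizer_iff]
    simp only [Set.image_insert_eq, Set.image_singleton, Set.mem_insert_iff,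
      Set.mem_singleton_iff, forall_eq_or_imp, forall_eq]
    rfl
  have Vm : (V0.map e).map ψ = S.V := by
    rw [map_map, show ψ.comp e = S.φ from MonoidHom.ext T.he]
  have cψ : ∀ (B : Subgroup X) y, ψ y ∈ C[B.map ψ] ↔ y ∈ C[B] := fun B y =>
    ⟨fun h b hb => T.inj (by rw [map_mul, map_mul]; exact h _ ⟨b, hb, rfl⟩), fun h => by
      rintro _ ⟨b, hb, rfl⟩
      rw [← map_mul, ← map_mul, h b hb]⟩
  have tψ : ∀ y, Two (ψ y) ↔ Two y := fun y => exists_congr fun n => by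
    rw [← map_pow, map_eq_one_iff ψ T.inj]
  have AR : (As D).map ψ ≤ S.R := T.rg ▸ map_le_range ψ _
  have QA : ∀ i, Qs e D i ≤ As D := fun i => sup_le (closure_mono (by
    rintro _ (rfl | rfl)
    exacts [Or.inl ⟨i, rfl⟩, Or.inr ⟨i, rfl⟩])) fa.VA
  have inA : ∀ y ∈ S.R, y ∈ C[S.V] → Two y → y ∈ (As D).map ψ := fun y hy h1 h2 => by
    rw [← T.rg] at hy
    obtain ⟨y, rfl⟩ := hy
    rw [← Vm, cψ] at h1
    exact ⟨y, fc.two y h1 ((tψ y).1 h2), rfl⟩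
  have hm : ∀ x, x ∈ I ↔ x ∈ S.X ⊓ C[S.V] ∧ Odd (orderOf x) ∧ x ∈ C[(As D).map ψ] := fun x =>
    ⟨fun h => ⟨((hI.mem x).1 h).1, ((hI.mem x).1 h).2.1, hI.cA h⟩, fun h =>
      (hI.mem x).2 ⟨h.1, h.2.1, fun i y hy => by
        rw [← h.2.2 y (map_mono (QA i) hy), mul_inv_cancel_right, mul_inv_cancel]
        exact one_mem _⟩⟩
  have IN : I ≤ S.X ⊓ C[S.V] := fun x hx => ((hm x).1 hx).1
  have oc : ∀ g x : G, Odd (orderOf x) → Odd (orderOf (g * x * g⁻¹)) := fun g x h => by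
    rwa [← (MulAut.conj g).orderOf_eq x] at h
  have cN : ∀ g x, x ∈ S.X → Commute (g * S.z * g⁻¹) x → Commute (g * S.a * g⁻¹) x →
      g⁻¹ * x * g⁻¹⁻¹ ∈ S.X ⊓ C[S.V] := fun g x hx h1 h2 =>
    ⟨S.Xn.conj_mem x hx _, (hV _).2 ⟨comm_cj h1, comm_cj h2⟩⟩
  have nI : ∀ g, g ∈ N[S.R] → (∀ x, Commute S.z x → Commute S.a x →
      Commute (g * S.z * g⁻¹) x ∧ Commute (g * S.a * g⁻¹) x) → g ∈ N[I] := fun g hg h => by
    have gC : g ∈ N[C[S.V]] := inv_mem_iff.1 (mem_normalizer_fintype fun x hx =>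
      have h1 := (hV x).1 hx
      (hV _).2 ⟨comm_cj (h x h1.1 h1.2).1, comm_cj (h x h1.1 h1.2).2⟩)
    refine inv_mem_iff.1 (mem_normalizer_fintype fun x hx => ?_)
    obtain ⟨h1, h2, h3⟩ := (hm x).1 hx
    have h4 := (hV x).1 h1.2
    refine (hm _).2 ⟨cN g x h1.1 (h x h4.1 h4.2).1 (h x h4.1 h4.2).2, oc _ _ h2, fun y hy => ?_⟩
    refine comm_cj (h3 _ (inA _ ((mem_normalizer_iff.1 hg y).1 (AR hy))
      ((mem_normalizer_iff.1 gC y).1 (hA.le hy).2) ?_))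
    obtain ⟨n, hn⟩ := hA.isPGroup ⟨y, hy⟩
    have hn' : y ^ 2 ^ n = 1 := congrArg Subtype.val hn
    exact ⟨n, by rw [conj_pow, hn', mul_one, mul_inv_cancel]⟩
  obtain ⟨c1, c2, c3, c4, c5, c6⟩ := Cfsg.Agent.H86.G40Cvg.chk
  have ct : ∀ m, S.t * S.φ m * S.t⁻¹ = S.φ m := fun m => by rw [S.tL, mul_inv_cancel_right]
  have hφ : ∀ g m, S.φ g * S.φ m * (S.φ g)⁻¹ = S.φ (g * m * g⁻¹) := fun g m => by
    rw [map_mul, map_mul, map_inv]
  have φR : ∀ m, S.φ m ∈ N[S.R] := fun m => le_normalizer (subset_closure (Or.inl ⟨m, rfl⟩))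
  have hIP : I ⊓ PP S.R ≤ C[S.R] := by
    rintro x ⟨hx, hp⟩
    have h3 : x ∈ ((S.R ⊔ C[S.R] : Subgroup G) : Set G) := hp
    rw [coe_mul_of_right_le_normalizer_left _ _ (centralizer_le_normalizer _)] at h3
    obtain ⟨r, hr, c, hc, rfl⟩ := h3
    have h4 : r ∈ C[(As D).map ψ] := by
      have := C[(As D).map ψ].mul_mem (hI.cA hx) (C[(As D).map ψ].inv_mem (centralizer_le AR hc))
      simpa using this
    obtain ⟨n, hn⟩ : Two r := by
      have hr' : r ∈ ψ.range := T.rg ▸ hr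
      obtain ⟨r, rfl⟩ := hr'
      exact (tψ r).2 (fc.cA r ((cψ _ r).1 h4))
    have h5 : Commute r c := hc r hr
    have h6 := pow_orderOf_eq_one (r * c)
    rw [h5.mul_pow, mul_eq_one_iff_eq_inv] at h6
    have h7 : r ^ orderOf (r * c) ∈ S.R ⊓ C[S.R] :=
      ⟨S.R.pow_mem hr _, h6 ▸ C[S.R].inv_mem (C[S.R].pow_mem hc _)⟩
    rw [S.fn.zr, mem_bot] at h7
    have h8 : r = 1 := orderOf_eq_one_iff.1 (Nat.eq_one_of_dvd_coprimes
      ((Nat.coprime_two_left.2 ((hm _).1 hx).2.1).pow_left n) (orderOf_dvd_of_pow_eq_one hn)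
      (orderOf_dvd_of_pow_eq_one h7))
    simpa [h8] using hc
  obtain ⟨k1, k2, k3⟩ := hO G S I (fun x hx => (IN hx).1) hI.odd
    (nI _ S.fn.tN fun x h1 h2 => by rw [ct, ct]; exact ⟨h1, h2⟩)
    (nI _ (φR _) fun x h1 h2 => by rw [hφ, hφ, c1, c2, map_mul]; exact ⟨h1, h1.mul_left h2⟩)
    (nI _ (φR _) fun x h1 h2 => by rw [hφ, hφ, c3, c4, map_mul]; exact ⟨h1.mul_left h2, h2⟩)
    (nI _ (le_normalizer (subset_closure (Or.inr rfl))) fun x h1 h2 => by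
      have e : S.s * S.z * S.s⁻¹ = S.z := by
        rw [Dat.z, ← S.rl.ss, ← mul_assoc, mul_inv_cancel_right]
      rw [S.rl.sa, map_mul, e]
      exact ⟨h1, h2.mul_left h1⟩)
    (fun x hx => (IN hx).2) hIP
  have kI : ∀ x ∈ I, (S.φ y8)⁻¹ * x * (S.φ y8)⁻¹⁻¹ ∈ I := fun x hx => by
    have h1 := (hV x).1 (IN hx).2
    have h3 : Commute (S.φ w0) x := (k1 x hx).symm
    have h4 := cN (S.φ y8) x (IN hx).1 (by rw [hφ, c5]; exact h1.1)
      (by rw [hφ, c6, map_mul]; exact h3.mul_left h1.2)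
    have h5 := oc (S.φ y8)⁻¹ x ((hm x).1 hx).2.1
    have h6 : ∀ b, e y8 * b * (e y8)⁻¹ ∈ As D → Commute (ψ b) ((S.φ y8)⁻¹ * x * (S.φ y8)⁻¹⁻¹) :=
      fun b hb => comm_cj (by
        rw [← T.he, ← map_inv, ← map_mul, ← map_mul]
        exact hI.cA hx _ ⟨_, hb, rfl⟩)
    obtain ⟨b0, hb0, b1, hb1, n0, n1, hb⟩ := fb.kb
    have h7 := h6 _ hb
    have h8 := h6 _ fb.kp
    generalize (S.φ y8)⁻¹ * x * (S.φ y8)⁻¹⁻¹ = x' at h4 h5 h7 h8
    have mv : ∀ i b, b ∈ Qs e D i → b ∉ V0.map e → (ψ b)⁻¹ * (x' * ψ b * x'⁻¹) ∈ S.V →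
        ∀ y ∈ (Qs e D i).map ψ, x' * y * x'⁻¹ * y⁻¹ ∈ S.V := fun i b hb nb h =>
      modV (p := ψ (D.p i)) (q := ψ (D.q i))
        (by rw [Qs, Subgroup.map_sup, MonoidHom.map_closure, Set.image_pair, Vm])
        (fun y hy => (hA.le (map_mono (QA i) hy)).2)
        (by
          rintro _ ⟨y, hy, rfl⟩
          rw [← map_mul, ← Vm]
          exact mem_map_of_mem ψ (fa.sq y (QA i hy)))
        h4.2 (hQ i h4) h5 (mem_map_of_mem ψ hb)
        (by rw [← Vm, mem_map_iff_mem T.inj]; exact nb) h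
    have q01 : ∀ y ∈ (Qs e D 0).map ψ, y ∈ (Qs e D 1).map ψ → y ∈ S.V := by
      rintro _ ⟨y, hy, rfl⟩ hy'
      rw [mem_map_iff_mem T.inj] at hy'
      rw [← Vm]
      refine mem_map_of_mem ψ (fb.κ3 0 y hy ?_)
      rw [fb.κc 0 1 (by decide) y hy', mul_inv_cancel_right, mul_inv_cancel]
      exact one_mem _
    have m0 := mem_map_of_mem ψ hb0
    have m1 := mem_map_of_mem ψ hb1
    have c0 := (mem_normalizer_iff.1 (hQ 0 h4) _).1 m0
    have c1 := (mem_normalizer_iff.1 (hQ 1 h4) _).1 m1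
    have e1 : (ψ b0)⁻¹ * (x' * ψ b0 * x'⁻¹) = ψ b1 * (x' * ψ b1 * x'⁻¹)⁻¹ := by
      have h9 : ψ b0 * ψ b1 * x' = x' * (ψ b0 * ψ b1) := by rw [← map_mul]; exact h7.eq
      calc _ = (ψ b0)⁻¹ * (x' * (ψ b0 * ψ b1)) * (ψ b1)⁻¹ * x'⁻¹ := by group
        _ = _ := by rw [← h9]; group
    have v0 : (ψ b0)⁻¹ * (x' * ψ b0 * x'⁻¹) ∈ S.V :=
      q01 _ (mul_mem (inv_mem m0) c0) (e1 ▸ mul_mem m1 (inv_mem c1))
    have v1 : (ψ b1)⁻¹ * (x' * ψ b1 * x'⁻¹) ∈ S.V := by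
      have h9 := inv_mem v0
      have h10 := (hA.le (map_mono (QA 1) m1)).2 _ h9
      rw [e1] at h9 h10
      rw [show (ψ b1)⁻¹ * (x' * ψ b1 * x'⁻¹) =
        (ψ b1)⁻¹ * ((ψ b1 * (x' * ψ b1 * x'⁻¹)⁻¹)⁻¹ * ψ b1) by group, h10, inv_mul_cancel_left]
      exact h9
    refine (hI.mem _).2 ⟨h4, h5, fun i => ?_⟩
    fin_cases i
    · exact mv 0 b0 hb0 n0 v0
    · exact mv 1 b1 hb1 n1 v1
    · refine mv 2 (D.p 2) (mem_sup_left (subset_closure (by simp))) (fa.pV 2) ?_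
      rw [← h8.eq, mul_inv_cancel_right, inv_mul_cancel]
      exact one_mem _
  have k4 : S.φ (y8 * n23 * y8⁻¹) ∈ C[I] := fun x hx => by
    have h5 : Commute _ (S.φ n23) := k2 _ (kI x hx)
    have h6 := h5.conj (S.φ y8)
    rw [hφ, show S.φ y8 * ((S.φ y8)⁻¹ * x * (S.φ y8)⁻¹⁻¹) * (S.φ y8)⁻¹ = x by group] at h6
    exact h6
  have k5 : ∀ m, S.φ m ∈ C[I] := fun m => by
    have : Subgroup.closure ({w0, n23, y8 * n23 * y8⁻¹} : Set S3) ≤ C[I].comap S.φ := by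
      rw [closure_le]
      rintro _ (rfl | rfl | rfl)
      exacts [k1, k2, k4]
    exact this (hK.gen2 ▸ mem_top m)
  have k6 : I ≤ C[S.R] := by
    rw [le_centralizer_iff, Dat.R, Gn, closure_le]
    rintro _ (⟨m, rfl⟩ | rfl)
    exacts [k5 m, k3]
  exact hI.le.trans (sup_le_sup_left k6 _)

end Cfsg.Agent.H15.G40Cv2c
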