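import Mathlib
import Cfsg.Agent.H56.HLK
import Cfsg.Agent.H62.CITBasic

/-! Project HL: the pieces B1, B2, B3a, B4a. -/

set_option autoImplicit false
set_option linter.unusedSectionVars false

namespace Cfsg.Agent.H15.HLB

open MulAction Subgroup Cfsg.Agent.H83 Cfsg.Agent.H56.TT Cfsg.Agent.H56.HL
open scoped Cfsg.Agent.H63

universe u v

variable {G : Type u} {Ω : Type v} [Group G] [Finite G] [Finite Ω] [MulAction G Ω]
  [FaithfulSMul G Ω] {NN : Ω → Subgroup G} {q : ℕ}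

theorem Adj.ex {N E F : Subgroup G} (h : Adj N q E F) : ∃ e ∈ E, e ∉ F :=
  SetLike.not_le_iff_exists.1 fun H =>
    h.ne (eq_of_le_of_card_ge H (by rw [h.vl.card, h.vr.card]))

theorem fixa (h : St NN q) {a b : Ω} {w : G} (hw : w ∈ UU NN b a) : w • a = a ∧ w • b = b :=
  ⟨UU_le_stab NN b a hw, UU_le_left h b a hw⟩

theorem ZZ_two (h : St NN q) (hB : BK NN q) {x y : Ω} (hxy : x ≠ y) : IsPGroup 2 (ZZ NN x y) :=
  (hB.syl h hxy).isPGroup.to_le (ZZ_le NN x y)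

theorem b1 : B1Stmt.{u, v} := by
  intro G Ω _ _ _ _ _ NN q h hB
  by_contra hn
  simp only [ZLe, not_forall] at hn
  obtain ⟨x0, y0, hxy, hn⟩ := hn
  have sp := h.spread (fun x y => ¬ ZZ NN x y ≤ NN y) (fun g x y _ H H' => H (by
    rwa [← h.cj_ZZ, h.smul, cj_le_cj_iff] at H')) hxy hn
  have w0 : ∀ a b, a ≠ b → UU NN a b ⊓ UU NN b a ≤ ZZ NN a b := fun a b hab x hx => by
    by_contra hx'
    obtain ⟨E, F, aF, uF, zF⟩ := hB a b hab
    refine sp a b hab fun z hz => ?_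
    obtain ⟨y, hy, e⟩ := ((h.kit a).l3.fb aF).onto x (uF ▸ hx.1) (zF ▸ hx') z (zF ▸ hz)
    exact UU_le NN b a (e ▸ (h.comm_UU hx.2 (uF ▸ hy)).1)
  have dec : ∀ a b, a ≠ b → ∀ w ∈ UU NN b a, ∃ u ∈ ZZ NN a b, ∃ c ∈ C[NN a], w = u * c :=
    fun a b hab w hw => by
      obtain ⟨E, F, aF, uF, zF⟩ := hB a b hab
      have cm : ∀ y ∈ E ⊔ F, w * y * w⁻¹ * y⁻¹ ∈ UU NN a b ⊓ UU NN b a := fun y hy =>
        (h.comm_UU hw (uF ▸ hy)).symm
      obtain ⟨u, hu, c, hc, e⟩ := (h.kit a).kc.a6' aF w (h.norm (fixa h hw).1) fun y hy =>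
        zF ▸ w0 a b hab (cm y hy)
      refine ⟨u, ?_, c, hc, e⟩
      by_contra hu'
      refine sp a b hab fun z hz => ?_
      obtain ⟨y, hy, e'⟩ := ((h.kit a).l3.fb aF).onto u hu (zF ▸ hu') z (zF ▸ hz)
      have h1 := mem_centralizer_iff.1 hc y (UU_le NN a b (uF ▸ hy))
      have h2 : w * y * w⁻¹ * y⁻¹ = z := by
        rw [← e', e, mul_assoc u, ← h1]; group
      exact UU_le NN b a (h2 ▸ (cm y hy).2)
  have zc : ∀ a b, a ≠ b → ZZ NN b a ≤ C[NN a] := fun a b hab z hz => by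
    obtain ⟨E, F, aF, uF, zF⟩ := hB b a hab.symm
    obtain ⟨w, hw, hw'⟩ := Adj.ex aF
    obtain ⟨y, hy, e⟩ := ((h.kit b).l3.fb aF).onto w (mem_sup_left hw) (fun H => hw' H.2) z (zF ▸ hz)
    obtain ⟨u, hu, c, hc, e1⟩ := dec a b hab w (uF ▸ mem_sup_left hw)
    obtain ⟨u', hu', c', hc', e2⟩ := dec a b hab y (uF ▸ hy)
    have h1 := mem_centralizer_iff.1 hu.2 u' hu'.1
    have h2 := mem_centralizer_iff.1 hc u' (UU_le NN a b hu'.1)
    have h3 := mem_centralizer_iff.1 (mul_mem (mul_mem hc hc') (inv_mem hc)) u (UU_le NN a b hu.1)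
    have h4 := mul_mem (mul_mem (mul_mem hc hc') (inv_mem hc)) (inv_mem hc')
    have h5 := mem_centralizer_iff.1 h4 u' (UU_le NN a b hu'.1)
    have h6 : z = c * c' * c⁻¹ * c'⁻¹ := by
      calc z = u * (c * u') * c' * c⁻¹ * u⁻¹ * c'⁻¹ * u'⁻¹ := by rw [← e, e1, e2]; group
        _ = (u * u') * (c * c' * c⁻¹) * u⁻¹ * c'⁻¹ * u'⁻¹ := by rw [← h2]; group
        _ = u' * (u * (c * c' * c⁻¹)) * u⁻¹ * c'⁻¹ * u'⁻¹ := by rw [← h1]; group
        _ = u' * (c * c' * c⁻¹ * c'⁻¹) * u'⁻¹ := by rw [h3]; group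
        _ = _ := by rw [h5, mul_inv_cancel_right]
    exact h6 ▸ h4
  obtain ⟨n, hn, hne⟩ := h.fix1 hxy
  have e1 : ZZ NN (n • y0) x0 = ZZ NN y0 x0 := by
    have h1 := h.cj_ZZ n y0 x0
    rw [show n • x0 = x0 from h.fix x0 hn] at h1
    rw [← h1]
    exact cj_eq_self (centralizer_le_normalizer _ (mem_centralizer_iff.2 fun z hz =>
      (mem_centralizer_iff.1 (zc x0 y0 hxy hz) n hn).symm))
  have l1 : ZZ NN y0 x0 ≤ NN y0 := (ZZ_le _ _ _).trans (UU_le _ _ _)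
  have l2 : ZZ NN y0 x0 ≤ NN (n • y0) := e1 ▸ (ZZ_le _ _ _).trans (UU_le _ _ _)
  have p2 := ZZ_two h hB hxy.symm
  have l3 : ZZ NN y0 x0 ≤ ZZ NN y0 (n • y0) := (le_inf (hB.le_UU h p2 l1 (l2.trans (h.fix _)))
    (hB.le_UU h p2 l2 (l1.trans (h.fix _)))).trans (w0 _ _ hne.symm)
  exact sp _ _ hne.symm (eq_of_le_of_card_ge l3
    (by rw [hB.cardZ h hne.symm, hB.cardZ h hxy.symm]) ▸ l2)

theorem b2 : B2Stmt.{u, v} := by
  intro G Ω _ _ _ _ _ NN q h hB hZ a b hab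
  have w0 : ∀ a b, a ≠ b → ZZ NN b a ≤ UU NN a b := fun a b hab =>
    hB.le_UU h (ZZ_two h hB hab.symm) (hZ b a hab.symm) ((ZZ_le _ _ _).trans (UU_le_left h b a))
  have cd : Nat.card (ZZ NN a b) = Nat.card (ZZ NN b a) := by
    rw [hB.cardZ h hab, hB.cardZ h hab.symm]
  by_contra hne
  obtain ⟨x, hx, hx'⟩ : ∃ x ∈ ZZ NN b a, x ∉ ZZ NN a b := SetLike.not_le_iff_exists.1 fun H =>
    hne (eq_of_le_of_card_ge H cd.le).symm
  have key : ∀ E F, Adj (NN a) q E F → UU NN a b = E ⊔ F → x ∈ E → x ∉ F → False := by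
    intro E F aF uF h1 h2
    refine hne (eq_of_le_of_card_ge (fun z hz => ⟨w0 b a hab.symm hz,
      mem_centralizer_iff.2 fun w hw => ?_⟩) cd.ge)
    obtain ⟨wa, wb⟩ := fixa h hw
    have h3 : w ∈ N[F] := by
      rcases (h.kit a).ka.swapU aF w (h.norm wa) (uF ▸ h.norm_UU wa wb) with e | e
      · exact e.2
      · refine (h2 ?_).elim
        have h4 := conj_mem_cj (g := w) h1
        rwa [e.1, mem_centralizer_iff.1 hx.2 w hw, mul_inv_cancel_right] at h4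
    have h4 := (h.kit a).kc.a8 aF w (h.norm wa) h3 (hB.is2 h hab.symm hw) fun y hy => by
      have h5 := h.comm_UU hw (uF ▸ hy)
      exact ((h.kit a).l3.fb aF).cen x h1 h2 _ (uF ▸ h5.2) (mem_centralizer_iff.1 hx.2 _ h5.1).symm
    exact (mem_centralizer_iff.1 h4 z (BK.zz h aF uF ▸ hz)).symm
  obtain ⟨E, F, aF, uF, zF⟩ := hB a b hab
  obtain ⟨E', F', aF', -, zF'⟩ := hB b a hab.symm
  rcases ((h.kit a).l3.fb aF).inv x (uF ▸ w0 a b hab hx) (aF'.vl.sq x (zF' ▸ hx).1) with e | e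
  · exact key E F aF uF e fun H => hx' (zF ▸ ⟨e, H⟩)
  · exact key F E aF.symm (by rw [uF, sup_comm]) e fun H => hx' (zF ▸ ⟨H, e⟩)

theorem le_or_le {Z E F : Subgroup G} (h : ∀ z ∈ Z, z ∈ E ∨ z ∈ F) : Z ≤ E ∨ Z ≤ F := by
  by_contra hc
  push Not at hc
  obtain ⟨s, hs, hs'⟩ := SetLike.not_le_iff_exists.1 hc.1
  obtain ⟨t, ht, ht'⟩ := SetLike.not_le_iff_exists.1 hc.2
  rcases h _ (Z.mul_mem hs ht) with e | e
  · exact hs' ((E.mul_mem_cancel_right ((h t ht).resolve_right ht')).1 e)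
  · exact ht' ((F.mul_mem_cancel_left ((h s hs).resolve_left hs')).1 e)

theorem b3a : B3aStmt.{u, v} := by
  intro G Ω _ _ _ _ _ NN q h hB hZ hF
  simp only [FixEq, not_forall] at hF
  obtain ⟨a, b, x, hab, hx, hx'⟩ := hF
  have xa : a ≠ x := fun e => hx' (e ▸ UU_le_stab NN b a)
  have xb : b ≠ x := fun e => hx' (e ▸ UU_le_left h b a)
  have nQ := h.spread (fun x y => ¬ UU NN x y ≤ NN y) (fun g x y _ H H' => H (by
    rwa [← h.cj_UU, h.smul, cj_le_cj_iff] at H')) hab.symm fun H =>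
      hx' ((hB.le_UU h (hB.syl h hab.symm).isPGroup H (UU_le_left h b a)).trans hx)
  have z1 : ZZ NN b a = ZZ NN x a := by
    rw [← hZ a b hab, ← hZ a x xa, ZZ, ZZ, hB.eq_of_fix h hab xa hx]
  have l1 : ZZ NN b a ≤ NN x := z1 ▸ (ZZ_le _ _ _).trans (UU_le _ _ _)
  have l2 : ZZ NN b x ≤ NN x := hZ b x xb ▸ (ZZ_le _ _ _).trans (UU_le _ _ _)
  have l3 : ZZ NN b a ≤ UU NN b x := hB.le_UU h (ZZ_two h hB hab.symm)
    ((ZZ_le _ _ _).trans (UU_le _ _ _)) (l1.trans (h.fix x))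
  obtain ⟨E', F', aF', uF', zF'⟩ := hB b a hab.symm
  have kb := (h.kit b).ka
  have key : ∀ E F, Adj (NN b) q E F → UU NN b x = E ⊔ F → ZZ NN b a ≤ E → E ≤ NN x := by
    intro E F aF uF h1
    have zF := BK.zz h aF uF
    have h2 : ZZ NN b a ⊓ ZZ NN b x = ⊥ := by
      refine (eq_bot_iff_forall _).2 fun t ht => by_contra fun t1 => hx' ?_
      have h3 := kb.inZ aF' (zF' ▸ ht.1) t1 aF.vl (zF ▸ ht.2).1
      have h4 := kb.inZ aF' (zF' ▸ ht.1) t1 aF.vr (zF ▸ ht.2).2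
      have h5 : UU NN b a = UU NN b x := by
        rw [uF, uF']
        rcases h3 with rfl | rfl <;> rcases h4 with rfl | rfl
        exacts [(aF.ne rfl).elim, rfl, sup_comm _ _, (aF.ne rfl).elim]
      exact h5 ▸ UU_le_stab NN b x
    have h3 := H62.card_mul_card_le (L := E ⊓ NN x) (le_inf h1 l1)
      (le_inf (zF ▸ inf_le_left) l2)
    rw [h2, card_bot, one_mul, hB.cardZ h hab.symm, hB.cardZ h xb, ← pow_two, ← aF.vl.card] at h3
    exact (eq_of_le_of_card_ge inf_le_left h3).ge.trans inf_le_right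
  have ex := h.spread (fun x y => ∃ V, Vx (NN x) q V ∧ V ≤ UU NN x y ∧ V ≤ NN y)
    (fun g x y _ ⟨V, h1, h2, h3⟩ => ⟨cj g V, by rw [h.smul]; exact h1.cj' g,
      by rw [← h.cj_UU]; exact cj_mono g h2, by rw [h.smul]; exact cj_mono g h3⟩) xb (by
    obtain ⟨E, F, aF, uF, -⟩ := hB b x xb
    rcases le_or_le (Z := ZZ NN b a) (E := E) (F := F) fun z hz => ((h.kit b).l3.fb aF).inv z
      (uF ▸ l3 hz) (aF'.vl.sq z (zF' ▸ hz).1) with e | e
    · exact ⟨E, aF.vl, uF ▸ le_sup_left, key E F aF uF e⟩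
    · exact ⟨F, aF.vr, uF ▸ le_sup_right, key F E aF.symm (by rw [uF, sup_comm]) e⟩)
  have uq : ∀ x y, x ≠ y → ∀ V V', Vx (NN x) q V → V ≤ UU NN x y → V ≤ NN y → Vx (NN x) q V' →
      V' ≤ UU NN x y → V' ≤ NN y → V = V' := by
    intro x y hxy V V' h1 h2 h3 h4 h5 h6
    obtain ⟨E, F, aF, uF, -⟩ := hB x y hxy
    rcases (h.kit x).ka.inU aF h1 (uF ▸ h2) with rfl | rfl <;>
      rcases (h.kit x).ka.inU aF h4 (uF ▸ h5) with rfl | rfl
    exacts [rfl, (nQ x y hxy (uF ▸ sup_le h3 h6)).elim, (nQ x y hxy (uF ▸ sup_le h6 h3)).elim, rfl]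
  have ex' : ∀ x y : Ω, ∃ V, x ≠ y → Vx (NN x) q V ∧ V ≤ UU NN x y ∧ V ≤ NN y := fun x y => by
    by_cases e : x = y
    · exact ⟨⊥, fun H => (H e).elim⟩
    · obtain ⟨V, hV⟩ := ex x y e
      exact ⟨V, fun _ => hV⟩
  choose EE hE using ex'
  have sm : ∀ (g : G) {x y : Ω}, x ≠ y → EE (g • x) (g • y) = cj g (EE x y) := fun g x y hxy => by
    have h1 : g • x ≠ g • y := fun e => hxy (MulAction.injective g e)
    obtain ⟨h2, h3, h4⟩ := hE x y hxy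
    exact uq _ _ h1 _ _ (hE _ _ h1).1 (hE _ _ h1).2.1 (hE _ _ h1).2.2
      (by rw [h.smul]; exact h2.cj' g) (by rw [← h.cj_UU]; exact cj_mono g h3)
      (by rw [h.smul]; exact cj_mono g h4)
  have sa : ∀ {x y p : Ω}, x ≠ y → x ≠ p → Same (NN x) (EE x y) (EE x p) :=
    h.same_of_smul (fun hxy => (hE _ _ hxy).1) sm
  refine ⟨EE, ⟨fun hxy => (hE _ _ hxy).1, fun x y hxy => ?_, sm, fun {x y p} hy hp H => ?_, sa⟩,
    fun x y hxy => (hE x y hxy).2.1⟩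
  · obtain ⟨h1, h2, h3⟩ := hE x y hxy
    obtain ⟨h4, h5, h6⟩ := hE y x hxy.symm
    exact uq y x hxy.symm _ _ ⟨h3, h1.sq, h1.card⟩
      (hB.le_UU h h1.isPGroup h3 (h1.le.trans (h.fix x))) h1.le h4 h5 h6
  · obtain ⟨E, F, aF, uF, -⟩ := hB x p hp
    have h1 := (hE x y hy).1
    have h2 := sa hy hp
    have ns := ((h.kit x).l3.fa aF).ns
    rcases (h.kit x).ka.inU aF h1 (uF ▸ hB.le_UU h h1.isPGroup h1.le H) with e | e <;>
      rcases (h.kit x).ka.inU aF (hE x p hp).1 (uF ▸ (hE x p hp).2.1) with e' | e' <;>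
      rw [e, e'] at h2 ⊢
    exacts [(ns h2).elim, (ns h2.symm).elim]

theorem b4a : B4aStmt.{u, v} := by
  intro G Ω _ _ _ _ _ NN q h hB hZ hF hS
  simp only [USym, not_forall] at hS
  obtain ⟨x0, y0, hxy, hS⟩ := hS
  have sp := h.spread (fun x y => UU NN x y ≠ UU NN y x) (fun g x y _ H H' => H (by
    rwa [← h.cj_UU, ← h.cj_UU, cj_inj] at H')) hxy hS
  have pA : ∀ a b E F, a ≠ b → Adj (NN a) q E F → UU NN a b = E ⊔ F →
      ∀ w ∈ UU NN b a, w ∈ N[E] → w ∈ UU NN a b := by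
    intro a b E F hab aF uF w hw h1
    obtain ⟨wa, wb⟩ := fixa h hw
    have h2 : w ∈ N[F] := by
      rcases (h.kit a).ka.swapU aF w (h.norm wa) (uF ▸ h.norm_UU wa wb) with e | e
      · exact e.2
      · exact (aF.ne ((cj_eq_self h1).symm.trans e.1)).elim
    obtain ⟨u, hu, c, hc, e⟩ := (h.kit a).kc.a7 aF w (h.norm wa) h1 h2 (hB.is2 h hab.symm hw) (by
      rw [← BK.zz h aF uF, hZ a b hab]
      exact mem_centralizer_iff.2 fun z hz => (mem_centralizer_iff.1 hz.2 w hw).symm)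
    rw [← uF] at hu
    have c1 := h.cen_eq_one hc fun y hy => by
      obtain ⟨n, hn, z, e1, hz⟩ := hB.cover h hab hy
      refine ⟨n, hn, z, e1, MulAction.injective u ?_⟩
      have h3 : w • z = z := hF a b z hab hz hw
      have h4 : u • z = z := hz hu
      change u • c • z = u • z
      rw [← mul_smul, ← e, h3, h4]
    rwa [e, c1, mul_one]
  have sw : ∀ a b E F, a ≠ b → Adj (NN a) q E F → UU NN a b = E ⊔ F →
      ∀ w ∈ UU NN b a, w ∉ N[E] → cj w E = F ∧ cj w F = E := by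
    intro a b E F hab aF uF w hw h1
    obtain ⟨wa, wb⟩ := fixa h hw
    exact ((h.kit a).ka.swapU aF w (h.norm wa) (uF ▸ h.norm_UU wa wb)).resolve_left fun e => h1 e.1
  have pB : ∀ a b E F, a ≠ b → Adj (NN a) q E F → UU NN a b = E ⊔ F → E ⊓ UU NN b a ≤ F := by
    intro a b E F hab aF uF x hx
    by_contra hx'
    obtain ⟨w, hw, hw'⟩ : ∃ w ∈ UU NN b a, w ∉ UU NN a b := SetLike.not_le_iff_exists.1 fun H =>
      sp a b hab (eq_of_le_of_card_ge H (by rw [hB.card h hab, hB.card h hab.symm])).symm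
    obtain ⟨e1, e2⟩ := sw a b E F hab aF uF w hw fun H => hw' (pA a b E F hab aF uF w hw H)
    have h1 : w * x * w⁻¹ ∈ F := e1 ▸ conj_mem_cj hx.1
    obtain ⟨E', F', aF', uF', -⟩ := hB b a hab.symm
    have h2 : x * (w * x * w⁻¹) = w * x * w⁻¹ * x := by
      rcases ((h.kit b).l3.fb aF').inv x (uF' ▸ hx.2) (aF.vl.sq x hx.1) with e | e
      · exact aF'.vl.comm e ((mem_normalizer_iff.1
          ((h.kit b).ka.nE aF'.symm (by rw [sup_comm, ← uF']; exact hw)) x).1 e)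
      · exact aF'.vr.comm e ((mem_normalizer_iff.1 ((h.kit b).ka.nE aF' (uF' ▸ hw)) x).1 e)
    have h3 := ((h.kit a).l3.fb aF).cen x hx.1 hx' _ (mem_sup_right h1) h2
    rw [← e2, mem_cj] at h3
    exact hx' (by simpa [mul_assoc] using h3)
  refine ⟨?_, fun a b E F hab aF uF => ⟨pA a b E F hab aF uF, pB a b E F hab aF uF⟩⟩
  obtain ⟨E, F, aF, uF, -⟩ := hB x0 y0 hxy
  have h1 := card_le_two_mul_of_mul_mem (A := UU NN y0 x0 ⊓ N[E]) (B := UU NN y0 x0) inf_le_left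
    fun s hs t ht hs' ht' => ⟨mul_mem hs ht, cj_eq_self_iff.1 (by
      rw [cj_mul, (sw _ _ E F hxy aF uF t ht fun H => ht' ⟨ht, H⟩).1,
        (sw _ _ E F hxy aF uF s hs fun H => hs' ⟨hs, H⟩).2])⟩
  have h2 := H62.card_mul_card_le (L := UU NN x0 y0) (H := E) (K := UU NN y0 x0 ⊓ N[E])
    (uF ▸ le_sup_left) fun w hw => pA _ _ E F hxy aF uF w hw.1 hw.2
  have h3 : Nat.card ↥(E ⊓ (UU NN y0 x0 ⊓ N[E])) ≤ q := by
    rw [← ((h.kit x0).l3.fb aF).cardZ]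
    exact card_le_of_le fun w hw => ⟨hw.1, pB _ _ E F hxy aF uF ⟨hw.1, hw.2.1⟩⟩
  rw [hB.card h hxy.symm] at h1
  rw [hB.card h hxy, aF.vl.card] at h2
  have h4 := (h.kit x0).l3.two_le
  have h5 : q ^ 4 * q ≤ q ^ 4 * 2 := by
    calc q ^ 4 * q = q ^ 2 * q ^ 3 := by ring
      _ ≤ q ^ 2 * (2 * Nat.card ↥(UU NN y0 x0 ⊓ N[E])) := Nat.mul_le_mul_left _ h1
      _ = 2 * (q ^ 2 * Nat.card ↥(UU NN y0 x0 ⊓ N[E])) := by ring
      _ ≤ 2 * (q * q ^ 3) := Nat.mul_le_mul_left _ (h2.trans (Nat.mul_le_mul_right _ h3))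
      _ = _ := by ring
  exact le_antisymm (Nat.le_of_mul_le_mul_left h5 (by positivity)) h4

end Cfsg.Agent.H15.HLB
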