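import Mathlib
import Cfsg.Agent.H56.HLDefs

/-! Project HL: the piece B3b (line count). -/

set_option autoImplicit false
set_option linter.unusedSectionVars false

namespace Cfsg.Agent.H15.HLB3b

open MulAction Subgroup Cfsg.Agent.H83 Cfsg.Agent.H56.TT Cfsg.Agent.H56.HL
open scoped Cfsg.Agent.H63

universe u v

variable {G : Type u} {Ω : Type v} [Group G] [Finite G] [Finite Ω] [MulAction G Ω]
  [FaithfulSMul G Ω] {NN : Ω → Subgroup G} {q : ℕ} {EE : Ω → Ω → Subgroup G}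

theorem flagE (h : St NN q) (hB : BK NN q) (hL : Ln NN q EE)
    (hU : ∀ x y, x ≠ y → EE x y ≤ UU NN x y) {x y : Ω} (hxy : x ≠ y) :
    ∃ F, Adj (NN x) q (EE x y) F ∧ UU NN x y = EE x y ⊔ F ∧ ZZ NN x y = EE x y ⊓ F := by
  obtain ⟨E, F, h1, h2, h3⟩ := hB x y hxy
  rcases (h.kit x).ka.inU h1 (hL.vx hxy) (h2 ▸ hU x y hxy) with e | e
  · exact ⟨F, e ▸ h1, e ▸ h2, e ▸ h3⟩
  · exact ⟨E, e ▸ h1.symm, by rw [e, h2, sup_comm], by rw [e, h3, inf_comm]⟩

theorem fix_off (h : St NN q) (hL : Ln NN q EE) {x z y : Ω} (hxz : x ≠ z) (hy : y ∉ Fx Ω (EE x z))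
    {c : G} (h1 : c ∈ N[EE x y]) (h2 : c ∈ N[EE z y]) : c • y = y := by
  have hx : x ≠ y := fun e => hy (e ▸ hL.left h hxz)
  have hz : z ≠ y := fun e => hy (e ▸ hL.right h hxz)
  by_contra hne
  have e1 := hL.line hx (Ne.symm hne) (hL.right h hx) (smul_mem_Fx_of h1 (hL.right h hx))
  have e2 := hL.line hz (Ne.symm hne) (hL.right h hz) (smul_mem_Fx_of h2 (hL.right h hz))
  have h3 : z ∈ Fx Ω (EE x y) := by rw [← e1, e2]; exact hL.left h hz
  exact hy (by rw [hL.fixl hx hxz h3]; exact hL.right h hx)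

theorem cen_norm {N X : Subgroup G} (hX : X ≤ N) {c : G} (hc : c ∈ C[N]) : c ∈ N[X] :=
  centralizer_le_normalizer _ (centralizer_le hX hc)

theorem cen_two (h : St NN q) (hL : Ln NN q EE) {a b : Ω} (hab : a ≠ b) {c : G}
    (ha : c ∈ C[NN a]) (hb : c ∈ C[NN b]) {y : Ω} (hy : y ∉ Fx Ω (EE a b)) : c • y = y :=
  fix_off h hL hab hy (cen_norm (hL.vx fun e : a = y => hy (e ▸ hL.left h hab)).le ha)
    (cen_norm (hL.vx fun e : b = y => hy (e ▸ hL.right h hab)).le hb)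

theorem cen_bot (h : St NN q) (hL : Ln NN q EE) {a b : Ω} (hab : a ≠ b) {c : G}
    (ha : c ∈ C[NN a]) (hb : c ∈ C[NN b]) : c = 1 := by
  obtain ⟨n, hn, hne⟩ := SetLike.not_le_iff_exists.1 ((h.kit a).ka.notFix (hL.vx hab))
  have na : n • a = a := h.fix a hn
  have ab1 : a ≠ n • b := fun e => hab (MulAction.injective n (na.trans e))
  have hb1 : c ∈ C[NN (n • b)] := by
    rw [h.smul, ← cj_centralizer, mem_cj, mem_centralizer_iff.1 ha _ ((NN a).inv_mem hn),
      inv_mul_cancel_right]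
    exact hb
  refine eq_of_smul_eq_smul (α := Ω) fun y => ?_
  rw [one_smul]
  by_cases h1 : y ∈ Fx Ω (EE a b)
  · by_cases h2 : y ∈ Fx Ω (EE a (n • b))
    · by_cases h3 : a = y
      · rw [← h3]; exact h.cen_fix ha
      · refine (hne (cj_eq_self_iff.1 ?_)).elim
        rw [← hL.smul n hab, na, ← hL.fixl ab1 h3 h2, hL.fixl hab h3 h1]
    · exact cen_two h hL ab1 ha hb1 h2
  · exact cen_two h hL hab ha hb h1

theorem orbit_ge {F Z : Subgroup G} {x : Ω} (hF : Nat.card F = q ^ 2) (hZ : Nat.card Z = q)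
    (hq : 0 < q) (hs : ∀ f ∈ F, f • x = x → f ∈ Z) : q ≤ (orbit F x).ncard := by
  have h1 := Nat.card_congr (orbitProdStabilizerEquivGroup F x)
  rw [Nat.card_prod, hF] at h1
  have h2 : Nat.card (stabilizer F x) ≤ q := hZ ▸ Nat.card_le_card_of_injective
    (fun s : stabilizer F x => (⟨s.1.1, hs _ s.1.2 s.2⟩ : Z)) fun s s' e =>
      Subtype.ext (Subtype.ext (Subtype.mk.inj e))
  have h3 : q * q ≤ (orbit F x).ncard * q := by
    rw [← pow_two, ← h1]
    exact Nat.mul_le_mul_left _ h2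
  exact Nat.le_of_mul_le_mul_right h3 hq

theorem ncard_Fx (g : G) (H : Subgroup G) : (Fx Ω (cj g H)).ncard = (Fx Ω H).ncard := by
  rw [← Set.ncard_image_of_injective (Fx Ω H) (MulAction.injective g)]
  congr 1
  ext y
  constructor
  · intro hy
    exact ⟨g⁻¹ • y, smul_mem_Fx.1 (by rwa [smul_inv_smul]), smul_inv_smul g y⟩
  · rintro ⟨x, hx, rfl⟩
    exact smul_mem_Fx.2 hx

theorem b3b : B3bStmt.{u, v} := by
  intro G Ω _ _ _ _ _ NN q h hB hZ hF EE hL hU
  simp only [FixEq, not_forall] at hF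
  obtain ⟨a, b, x, hab, hx, hx'⟩ := hF
  obtain ⟨F, aF, uF, zF⟩ := flagE h hB hL hU hab
  obtain ⟨F', aF', uF', zF'⟩ := flagE h hB hL hU hab.symm
  have sy := hL.symm b a hab.symm
  rw [sy] at aF' uF' zF'
  have ka := (h.kit a).ka
  have kb := (h.kit b).ka
  have fb := (h.kit b).l3.fb aF'
  have two : ∀ w ∈ UU NN b a, Is2 w := fun w hw => Is2.of_mem fb.syl.isPGroup (uF' ▸ hw)
  have wa : ∀ w ∈ UU NN b a, w • a = a := fun w hw => UU_le_stab NN b a hw
  have wb : ∀ w ∈ UU NN b a, w • b = b := fun w hw => h.fix b (UU_le NN b a hw)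
  -- (ii)
  have dec : ∀ w ∈ UU NN b a, ∃ u ∈ UU NN a b, ∃ c ∈ C[NN a], w = u * c := fun w hw => by
    have h1 := hL.norm hab (wa w hw) (wb w hw)
    have h2 : w ∈ N[F] := by
      rcases ka.swapU aF w (h.norm (wa w hw)) (uF ▸ h.norm_UU (wa w hw) (wb w hw)) with e | e
      · exact e.2
      · exact (aF.ne ((cj_eq_self h1).symm.trans e.1)).elim
    rw [uF]
    refine (h.kit a).kc.a7 aF w (h.norm (wa w hw)) h1 h2 (two w hw) ?_
    rw [← zF, hZ a b hab]
    exact mem_centralizer_iff.2 fun z hz => (mem_centralizer_iff.1 hz.2 w hw).symm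
  have bot : ∀ c ∈ C[NN a], c ∈ UU NN b a → c = 1 := fun c hc hc' => by
    obtain ⟨e, he, he'⟩ : ∃ e ∈ EE a b, e ∉ F' := SetLike.not_le_iff_exists.1 fun H =>
      aF'.ne (eq_of_le_of_card_ge H (by rw [aF'.vl.card, aF'.vr.card]))
    exact ka.cenN c (aF.vl.le (fb.cen e he he' c (uF' ▸ hc')
      (mem_centralizer_iff.1 hc e (aF.vl.le he)))) hc
  obtain ⟨w, hw, hwx⟩ := SetLike.not_le_iff_exists.1 hx'
  obtain ⟨u, hu, c, hc, e⟩ := dec w hw
  have c1 : c ≠ 1 := fun e1 => hwx (hx (by rw [e, e1, mul_one]; exact hu))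
  have ca : c • a = a := h.cen_fix hc
  have cb : c • b = b := by
    have h1 := wb w hw
    have h2 : u • b = b := UU_le_stab NN a b hu
    rw [e, mul_smul] at h1
    exact MulAction.injective u (h1.trans h2.symm)
  have cU : c ∈ C[EE a b ⊔ F'] := by
    rw [← uF']
    refine mem_centralizer_iff.2 fun y hy => ?_
    obtain ⟨u', hu', c', hc', e'⟩ := dec y hy
    have h1 : c * y * c⁻¹ * y⁻¹ = 1 := by
      refine bot _ ?_ (mul_mem ((mem_normalizer_iff.1 (h.norm_UU cb ca) y).1 hy) (inv_mem hy))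
      have h2 := mem_centralizer_iff.1 (mul_mem (mul_mem (mul_mem hc hc') (inv_mem hc))
        (inv_mem hc')) u' (UU_le NN a b hu')
      have h3 := mem_centralizer_iff.1 hc u' (UU_le NN a b hu')
      have h4 : c * y * c⁻¹ * y⁻¹ = c * c' * c⁻¹ * c'⁻¹ := by
        calc _ = (c * u') * c' * c⁻¹ * c'⁻¹ * u'⁻¹ := by rw [e']; group
          _ = u' * (c * c' * c⁻¹ * c'⁻¹) * u'⁻¹ := by rw [← h3]; group
          _ = _ := by rw [h2, mul_inv_cancel_right]
      rw [h4]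
      exact mul_mem (mul_mem (mul_mem hc hc') (inv_mem hc)) (inv_mem hc')
    rw [mul_inv_eq_one, mul_inv_eq_iff_eq_mul] at h1
    exact h1.symm
  obtain ⟨z, hz, c', hc', ez⟩ := (h.kit b).kb.a6 aF' c (h.norm cb) cU
  have z1 : z ≠ 1 := fun e1 => c1 (cen_bot h hL hab hc (by rw [ez, e1, one_mul]; exact hc'))
  -- (iii)
  have key : ∀ y, y ∉ Fx Ω (EE a b) → (c • y = y ↔ Adj (NN b) q (EE b y) F') := fun y hy => by
    have ay : a ≠ y := fun e => hy (e ▸ hL.left h hab)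
    have by' : b ≠ y := fun e => hy (e ▸ hL.right h hab)
    have h1 := cen_norm (hL.vx by').le hc'
    rw [← ((h.kit b).l3.fc aF').nrm z hz z1 _ (sy ▸ hL.same hab.symm by')]
    constructor
    · intro h2
      have h3 := mul_mem (hL.norm by' cb h2) (inv_mem h1)
      rwa [ez, mul_inv_cancel_right] at h3
    · intro h2
      exact fix_off h hL hab hy (cen_norm (hL.vx ay).le hc) (ez ▸ mul_mem h2 h1)
  obtain ⟨n, hn, hne⟩ := SetLike.not_le_iff_exists.1 (ka.notFix (hL.vx hab))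
  have na : n • a = a := h.fix a hn
  have cn : ∀ y : Ω, c • n • y = n • c • y := fun y => by
    rw [← mul_smul, ← mem_centralizer_iff.1 hc n hn, mul_smul]
  have ab1 : a ≠ n • b := fun e => hab (MulAction.injective n (na.trans e))
  have e1 : EE a (n • b) = cj n (EE a b) := by rw [← hL.smul n hab, na]
  have ne1 : EE a (n • b) ≠ EE a b := fun e => hne (cj_eq_self_iff.1 (e1.symm.trans e))
  have b1E : n • b ∉ Fx Ω (EE a b) := fun H => ne1 (hL.fixl hab ab1 H)
  have bE1 : b ∉ Fx Ω (EE a (n • b)) := fun H => ne1 (hL.fixl ab1 hab H).symm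
  have bb1 : b ≠ n • b := fun e => ne1 (by rw [← e])
  have key1 : ∀ y, y ∉ Fx Ω (EE a (n • b)) → c • y = y →
      Adj (NN (n • b)) q (EE (n • b) y) (cj n F') := fun y hy h1 => by
    obtain ⟨y, rfl⟩ := MulAction.surjective n y
    rw [e1, smul_mem_Fx] at hy
    rw [cn] at h1
    rw [h.smul, hL.smul n (fun e : b = y => hy (e ▸ hL.right h hab))]
    exact ((key y hy).1 (MulAction.injective n h1)).cj' n
  have a1 := (key _ b1E).1 (by rw [cn, cb])
  obtain ⟨W, aW, w1, w2⟩ := kb.third aF' a1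
  have sW := kb.sameAdj aF' aW
  obtain ⟨p, bp, eW⟩ := hL.surj h hab.symm (sy ▸ sW)
  have lW : ∀ y ∈ Fx Ω W, b ≠ y → EE b y = W := fun y hy h1 => by
    rw [← eW] at hy ⊢
    exact hL.fixl bp h1 hy
  have b1W : n • b ∉ Fx Ω W := fun H => w2 (lW _ H bb1).symm
  set T : Set (Subgroup G) := {X | Adj (NN (n • b)) q X (cj n F')} with hT
  have t1 : EE a (n • b) ∈ T := by
    rw [e1, hT, h.smul]
    exact aF'.cj' n
  have t2 : EE (n • b) b ∈ T := key1 b bE1 cb
  have t3 : EE (n • b) b ≠ EE a (n • b) := fun e => bE1 (e ▸ hL.right h bb1.symm)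
  have cT : T.ncard = q + 1 := ((h.kit _).l3.fa t1).nb
  have i1 : ((Fx Ω W \ {b}) \ Fx Ω (EE a (n • b))).ncard ≤
      ((T \ {EE a (n • b)}) \ {EE (n • b) b}).ncard := by
    refine Set.ncard_le_ncard_of_injOn (fun y => EE (n • b) y) ?_ ?_ (Set.toFinite _)
    · rintro y ⟨⟨h1, h2⟩, h3⟩
      have by' : b ≠ y := Ne.symm h2
      have b1y : n • b ≠ y := fun e => b1W (e ▸ h1)
      have h4 : y ∉ Fx Ω (EE a b) := fun H => w1 (by
        rw [← lW y h1 by', ← sy]
        exact hL.fixl hab.symm by' (sy ▸ H))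
      refine ⟨⟨key1 y h3 ((key y h4).2 (by rw [lW y h1 by']; exact aW)), fun e => h3 ?_⟩,
        fun e => w2 ?_⟩
      · rw [← Set.mem_singleton_iff.1 e]
        exact hL.right h b1y
      · rw [← lW y h1 by']
        refine hL.fixl bb1 by' ?_
        rw [hL.symm b _ bb1, ← Set.mem_singleton_iff.1 e]
        exact hL.right h b1y
    · rintro y ⟨⟨h1, -⟩, -⟩ y' ⟨⟨h1', -⟩, -⟩ e
      by_contra hne'
      have b1y : n • b ≠ y := fun e => b1W (e ▸ h1)
      have b1y' : n • b ≠ y' := fun e => b1W (e ▸ h1')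
      have h2 := hL.line b1y hne' (hL.right h b1y)
        (by rw [show EE (n • b) y = EE (n • b) y' from e]; exact hL.right h b1y')
      have h3 := hL.line bp hne' (eW ▸ h1) (eW ▸ h1')
      exact b1W (by rw [← eW, ← h3, h2]; exact hL.left h b1y)
  have i2 : ((T \ {EE a (n • b)}) \ {EE (n • b) b}).ncard + 1 + 1 = q + 1 := by
    rw [Set.ncard_sdiff_singleton_add_one (show _ ∈ T \ {EE a (n • b)} from ⟨t2, t3⟩),
      Set.ncard_sdiff_singleton_add_one t1, cT]
  have bW : b ∈ Fx Ω W := eW ▸ hL.left h bp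
  have i3 : ((Fx Ω W \ {b}) ∩ Fx Ω (EE a (n • b))).ncard ≤ 1 := by
    refine (Set.ncard_le_one (Set.toFinite _)).2 ?_
    rintro y ⟨⟨h1, -⟩, h2⟩ y' ⟨⟨h1', -⟩, h2'⟩
    by_contra hne'
    refine bE1 ?_
    rw [← hL.line ab1 hne' h2 h2', hL.line bp hne' (eW ▸ h1) (eW ▸ h1')]
    exact hL.left h bp
  have i4 := Set.ncard_inter_add_ncard_sdiff_eq_ncard (Fx Ω W \ {b}) (Fx Ω (EE a (n • b)))
  have i5 := Set.ncard_sdiff_singleton_add_one bW
  have i6 : (Fx Ω W).ncard = (Fx Ω (EE a b)).ncard := by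
    obtain ⟨g, -, hg⟩ := sW
    rw [← hg, ncard_Fx]
  -- (iv)
  have xa : a ≠ x := fun e => hx' (e ▸ UU_le_stab NN b a)
  have xb : b ≠ x := fun e => hx' (e ▸ (UU_le NN b a).trans (h.fix b))
  have xE : x ∈ Fx Ω (EE a b) := (hU a b hab).trans hx
  obtain ⟨F'', aF'', uF'', -⟩ := flagE h hB hL hU xb
  have ex : EE b x = EE a b := by
    rw [← sy]
    exact hL.fixl hab.symm xb (sy ▸ xE)
  rw [ex] at aF'' uF''
  have nF : F'' ≠ F' := fun e => hx' (by rw [uF', ← e, ← uF'']; exact UU_le_stab NN b x)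
  have FU : F' ≤ UU NN b a := uF' ▸ le_sup_right
  have j1 : q ≤ (orbit F' x).ncard := orbit_ge aF'.vr.card fb.cardZ
    (lt_of_lt_of_le two_pos (h.kit a).l3.two_le) fun f hf hfx =>
      ⟨kb.stabU aF' aF'' nF f (mem_sup_right hf)
        (kb.nE aF'' (uF'' ▸ mem_UU (aF'.vr.le hf) hfx (two f (FU hf)))), hf⟩
  have j2 : (orbit F' x).ncard ≤ ((Fx Ω (EE a b) \ {a}) \ {b}).ncard := by
    refine Set.ncard_le_ncard ?_ (Set.toFinite _)
    rintro _ ⟨f, rfl⟩
    have h1 := wa _ (FU f.2)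
    have h2 := wb _ (FU f.2)
    exact ⟨⟨smul_mem_Fx_of (hL.norm hab h1 h2) xE,
      fun e => xa (MulAction.injective (f : G) (h1.trans (Set.mem_singleton_iff.1 e).symm))⟩,
      fun e => xb (MulAction.injective (f : G) (h2.trans (Set.mem_singleton_iff.1 e).symm))⟩
  have j3 := Set.ncard_sdiff_singleton_add_one
    (show b ∈ Fx Ω (EE a b) \ {a} from ⟨hL.right h hab, hab.symm⟩)
  have j4 := Set.ncard_sdiff_singleton_add_one (hL.left h hab)
  omega

end Cfsg.Agent.H15.HLB3b
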