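import Mathlib
import Cfsg.Agent.H12.K5Defs

/-! Project K5, piece AR. -/

set_option autoImplicit false

namespace Cfsg.Agent.H15.K5Ar

open Cfsg.Agent.H12.K5

theorem c2 {r z : ℤ} (h : 2 * r + 1 ∣ 2 * z) : 2 * r + 1 ∣ z := by
  obtain ⟨c, hc⟩ := h
  exact ⟨z - r * c, by linear_combination (-r) * hc⟩

theorem fin (r w k1 k2 k3 k4 d1 d2 d3 d4 : ℤ) (hr : 1 ≤ r)
    (h : (2 * w + 1) ^ 2 + 4 * (k1 ^ 2 + k2 ^ 2 + k3 ^ 2 + k4 ^ 2) = (2 * r + 1) ^ 2)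
    (h1 : 2 * r + 1 ∣ 2 * k1 - (2 * w + 1) * d1) (h2 : 2 * r + 1 ∣ 2 * k2 - (2 * w + 1) * d2)
    (h3 : 2 * r + 1 ∣ 2 * k3 - (2 * w + 1) * d3) (h4 : 2 * r + 1 ∣ 2 * k4 - (2 * w + 1) * d4)
    (hd : (2 * r + 1) ^ 2 ∣ 2 * (2 * w + 1 + 2 * (k1 * d1 + k2 * d2 + k3 * d3 + k4 * d4))) :
    ∃ a0 a1 a2 a3 a4 : ℤ, ¬ 2 * r + 1 ∣ a0 ∧ 2 * r + 1 ∣ a1 - a0 * d1 ∧ 2 * r + 1 ∣ a2 - a0 * d2 ∧
      2 * r + 1 ∣ a3 - a0 * d3 ∧ 2 * r + 1 ∣ a4 - a0 * d4 ∧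
      (2 * r + 1) * a0 = a0 ^ 2 + a1 ^ 2 + a2 ^ 2 + a3 ^ 2 + a4 ^ 2 := by
  have k : ∀ k d : ℤ, 2 * r + 1 ∣ 2 * k - (2 * w + 1) * d → 2 * r + 1 ∣ k - (r + w + 1) * d :=
    fun k d ⟨c, hc⟩ => c2 ⟨c - d, by linear_combination hc⟩
  refine ⟨r + w + 1, k1, k2, k3, k4, fun ⟨c, hc⟩ => ?_, k _ _ h1, k _ _ h2, k _ _ h3, k _ _ h4,
    c2' h⟩
  have e : 2 * w + 1 = (2 * r + 1) * (2 * c - 1) := by linear_combination 2 * hc
  have y1 : 1 ≤ (2 * c - 1) ^ 2 := by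
    have : 2 * c - 1 ≠ 0 := by omega
    exact (one_le_sq_iff_one_le_abs _).2 (Int.one_le_abs this)
  have pp : 0 < (2 * r + 1) ^ 2 := by positivity
  have s0 : k1 ^ 2 + k2 ^ 2 + k3 ^ 2 + k4 ^ 2 ≤ 0 := by
    rw [e, mul_pow] at h
    nlinarith
  have z1 : k1 = 0 := by nlinarith [sq_nonneg k1, sq_nonneg k2, sq_nonneg k3, sq_nonneg k4]
  have z2 : k2 = 0 := by nlinarith [sq_nonneg k1, sq_nonneg k2, sq_nonneg k3, sq_nonneg k4]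
  have z3 : k3 = 0 := by nlinarith [sq_nonneg k1, sq_nonneg k2, sq_nonneg k3, sq_nonneg k4]
  have z4 : k4 = 0 := by nlinarith [sq_nonneg k1, sq_nonneg k2, sq_nonneg k3, sq_nonneg k4]
  subst z1 z2 z3 z4
  have h5 := Int.le_of_dvd (abs_pos.2 (by omega)) ((dvd_abs _ _).2 hd)
  have h6 : |2 * w + 1| = 2 * r + 1 := by
    rw [← abs_of_pos (show 0 < 2 * r + 1 by omega), ← sq_eq_sq_iff_abs_eq_abs]; linarith
  simp only [zero_mul, add_zero, mul_zero, abs_mul, h6, abs_two] at h5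
  nlinarith
where
  c2' {r w k1 k2 k3 k4 : ℤ}
    (h : (2 * w + 1) ^ 2 + 4 * (k1 ^ 2 + k2 ^ 2 + k3 ^ 2 + k4 ^ 2) = (2 * r + 1) ^ 2) :
    (2 * r + 1) * (r + w + 1) = (r + w + 1) ^ 2 + k1 ^ 2 + k2 ^ 2 + k3 ^ 2 + k4 ^ 2 := by
    nlinarith

theorem sq8 (z : ℤ) : (z % 2 = 1 ∧ z ^ 2 % 8 = 1) ∨ (z % 4 = 2 ∧ z ^ 2 % 8 = 4) ∨
    (z % 4 = 0 ∧ z ^ 2 % 8 = 0) := by
  have h : z ^ 2 % 8 = (z % 8) ^ 2 % 8 := by rw [sq, sq, Int.mul_emod]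
  have : z % 8 = 0 ∨ z % 8 = 1 ∨ z % 8 = 2 ∨ z % 8 = 3 ∨ z % 8 = 4 ∨ z % 8 = 5 ∨ z % 8 = 6 ∨
    z % 8 = 7 := by omega
  rcases this with e | e | e | e | e | e | e | e <;> rw [e] at h <;> omega

set_option maxHeartbeats 1600000 in
theorem ar (herm : HermStmt) : ArStmt := by
  intro p hp p2 d1 d2 d3 d4 hd ⟨c, hc⟩
  obtain ⟨f, e, he⟩ := ((Nat.prime_iff_prime_int.1 hp).coprime_iff_not_dvd.2 hd)
  obtain ⟨r', hr'⟩ := hp.odd_of_ne_two p2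
  have hr : 1 ≤ (r' : ℤ) := by have := hp.two_le; omega
  have hP : (p : ℤ) = 2 * r' + 1 := by exact_mod_cast hr'
  rw [hP] at hc he ⊢
  generalize (r' : ℤ) = r at hr hc he
  obtain ⟨t, ht⟩ := Int.even_mul_succ_self r
  obtain ⟨P, hP⟩ : ∃ P, P = 2 * r + 1 := ⟨_, rfl⟩
  have pt : P ^ 2 = 8 * t + 1 := by rw [hP]; linear_combination 4 * ht
  have P0 : 0 < P := by omega
  obtain ⟨x, x0, hx⟩ := herm !![1, -8 * t * d1, -8 * t * d2, -8 * t * d3, -8 * t * d4;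
    0, 4 * P ^ 2, 0, 0, 0; 0, 2 * P * (8 * t * e * d2 + P ^ 2), 2 * P, 0, 0;
    0, 2 * P * (8 * t * e * d3 + P ^ 2), 0, 2 * P, 0;
    0, 2 * P * (8 * t * e * d4 + P ^ 2), 0, 0, 2 * P] (by
      simp [Matrix.det_succ_row_zero, Fin.sum_univ_succ, Fin.succAbove, P0.ne'])
  simp [Matrix.det_succ_row_zero, Fin.sum_univ_succ, Fin.succAbove, Matrix.vecMul, dotProduct] at hx
  rw [← hP] at hc he
  have x1 : x 0 = 0 → x 1 = 0 → x 2 = 0 → x 3 = 0 → x 4 = 0 → False := fun a b c d e =>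
    x0 (funext fun i => by fin_cases i <;> assumption)
  generalize x 0 = a, x 1 = b, x 2 = u, x 3 = v, x 4 = w at hx x1
  obtain ⟨q, hq⟩ : ∃ q, q = 2 * P * b + ((8 * t * e * d2 + P ^ 2) * u + (8 * t * e * d3 + P ^ 2) * v +
    (8 * t * e * d4 + P ^ 2) * w) := ⟨_, rfl⟩
  obtain ⟨m, key⟩ : ∃ m, d1 * q + d2 * u + d3 * v + d4 * w = P * m :=
    ⟨2 * b * d1 + (P * d2 - 8 * t * f * d2 + P * d1) * u + (P * d3 - 8 * t * f * d3 + P * d1) * v +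
      (P * d4 - 8 * t * f * d4 + P * d1) * w, by
      rw [hq]; linear_combination (8 * t * (d2 * u + d3 * v + d4 * w)) * he - (d2 * u + d3 * v + d4 * w) * pt⟩
  obtain ⟨z, hz⟩ : ∃ z, q + u + v + w = 2 * z :=
    ⟨P * b + (4 * t * e * d2 + 4 * t + 1) * u + (4 * t * e * d3 + 4 * t + 1) * v +
      (4 * t * e * d4 + 4 * t + 1) * w, by rw [hq]; linear_combination (u + v + w) * pt⟩
  obtain ⟨h1, e1⟩ : ∃ h, h = -4 * t * a * d1 + P * q := ⟨_, rfl⟩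
  obtain ⟨h2, e2⟩ : ∃ h, h = -4 * t * a * d2 + P * u := ⟨_, rfl⟩
  obtain ⟨h3, e3⟩ : ∃ h, h = -4 * t * a * d3 + P * v := ⟨_, rfl⟩
  obtain ⟨h4, e4⟩ : ∃ h, h = -4 * t * a * d4 + P * w := ⟨_, rfl⟩
  obtain ⟨N, hN⟩ : ∃ N, a ^ 2 + 4 * (h1 ^ 2 + h2 ^ 2 + h3 ^ 2 + h4 ^ 2) = P ^ 2 * N :=
    ⟨a ^ 2 * (1 - 8 * t + 64 * t ^ 2 * c) - 32 * t * a * m + 4 * (q ^ 2 + u ^ 2 + v ^ 2 + w ^ 2), by
      rw [e1, e2, e3, e4]
      linear_combination 64 * t ^ 2 * a ^ 2 * hc - 32 * t * a * P * key - a ^ 2 * (1 - 8 * t) * pt⟩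
  have gd : P ^ 2 ∣ a + 2 * (h1 * d1 + h2 * d2 + h3 * d3 + h4 * d4) :=
    ⟨a - 8 * t * a * c + 2 * m, by
      rw [e1, e2, e3, e4]; linear_combination -8 * t * a * hc + 2 * P * key - a * pt⟩
  have g : ∀ h d y : ℤ, h = -4 * t * a * d + P * y → P ∣ 2 * h - a * d := fun h d y e =>
    ⟨-P * a * d + 2 * y, by rw [e]; linear_combination a * d * pt⟩
  have hb : P ^ 10 * (59049 * N ^ 5) ≤ P ^ 10 * 1073741824 := by
    convert hx using 1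
    · rw [show P ^ 10 * (59049 * N ^ 5) = 59049 * (P ^ 2 * N) ^ 5 by ring, ← hN, e1, e2, e3, e4, hq]
      refine congrArg (fun s : ℤ => 59049 * s ^ 5) ?_
      ring
    · ring
  have N7 : N < 8 := by
    by_contra h
    have h5 := le_of_mul_le_mul_left hb (by positivity)
    have := pow_le_pow_left₀ (by norm_num) (not_lt.1 h) 5
    omega
  have N0 : 0 < N := by
    by_contra h
    have h5 : P ^ 2 * N ≤ 0 := mul_nonpos_of_nonneg_of_nonpos (sq_nonneg _) (not_lt.1 h)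
    have := sq_nonneg a; have := sq_nonneg h1; have := sq_nonneg h2; have := sq_nonneg h3
    have := sq_nonneg h4
    have a0 : a = 0 := pow_eq_zero_iff two_ne_zero |>.1 (by omega)
    have k : ∀ h d y : ℤ, h = -4 * t * a * d + P * y → h ^ 2 = 0 → y = 0 := fun h d y e h0 => by
      rw [pow_eq_zero_iff two_ne_zero |>.1 h0, a0] at e
      exact (mul_eq_zero.1 (by linear_combination -e : P * y = 0)).resolve_left P0.ne'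
    have q0 := k _ _ _ e1 (by omega)
    have u0 := k _ _ _ e2 (by omega)
    have v0 := k _ _ _ e3 (by omega)
    have w0 := k _ _ _ e4 (by omega)
    rw [q0, u0, v0, w0] at hq
    exact x1 a0 ((mul_eq_zero.1 (by linear_combination -hq : (2 * P) * b = 0)).resolve_left
      (by omega)) u0 v0 w0
  obtain ⟨y, hy⟩ : ∃ y, h1 + h2 + h3 + h4 = 2 * y :=
    ⟨-2 * t * a * (d1 + d2 + d3 + d4) + P * z, by rw [e1, e2, e3, e4]; linear_combination P * hz⟩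
  have hN' : a ^ 2 + 4 * (h1 ^ 2 + h2 ^ 2 + h3 ^ 2 + h4 ^ 2) = 8 * (t * N) + N := by
    rw [hN, pt]; ring
  have sa := sq8 a
  have s1 := sq8 h1
  have s2 := sq8 h2
  have s3 := sq8 h3
  have s4 := sq8 h4
  have g1 := g _ _ _ e1
  have g2 := g _ _ _ e2
  have g3 := g _ _ _ e3
  have g4 := g _ _ _ e4
  clear e1 e2 e3 e4 hx hb hq key hz g x1
  have hH : (h1 ^ 2 + h2 ^ 2 + h3 ^ 2 + h4 ^ 2) % 2 = 0 := by omega
  have cs : (N = 1 ∧ a % 2 = 1) ∨ (N = 4 ∧ a % 4 = 2) := by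
    clear s1 s2 s3 s4
    generalize t * N = T at hN'
    omega
  subst hP
  rcases cs with ⟨rfl, ha⟩ | ⟨rfl, ha⟩
  · obtain ⟨w, rfl⟩ : ∃ w, a = 2 * w + 1 := ⟨a / 2, by omega⟩
    exact fin r w h1 h2 h3 h4 d1 d2 d3 d4 hr (by linarith) g1 g2 g3 g4 (gd.mul_left 2)
  · obtain ⟨w, rfl⟩ : ∃ w, a = 2 * (2 * w + 1) := ⟨a / 4, by omega⟩
    have e : (2 * w + 1) ^ 2 + (h1 ^ 2 + h2 ^ 2 + h3 ^ 2 + h4 ^ 2) = (2 * r + 1) ^ 2 := by linarith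
    have sw := sq8 (2 * w + 1)
    have h8 : (h1 ^ 2 + h2 ^ 2 + h3 ^ 2 + h4 ^ 2) % 8 = 0 := by clear s1 s2 s3 s4 sa; omega
    clear sa sw hN' hH
    obtain ⟨k1, rfl⟩ : ∃ k, h1 = 2 * k := ⟨h1 / 2, by omega⟩
    obtain ⟨k2, rfl⟩ : ∃ k, h2 = 2 * k := ⟨h2 / 2, by omega⟩
    obtain ⟨k3, rfl⟩ : ∃ k, h3 = 2 * k := ⟨h3 / 2, by omega⟩
    obtain ⟨k4, rfl⟩ : ∃ k, h4 = 2 * k := ⟨h4 / 2, by omega⟩
    exact fin r w k1 k2 k3 k4 d1 d2 d3 d4 hr (by linarith) (c2 (by convert g1 using 1; ring))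
      (c2 (by convert g2 using 1; ring)) (c2 (by convert g3 using 1; ring))
      (c2 (by convert g4 using 1; ring)) (by convert gd using 1; ring)

end Cfsg.Agent.H15.K5Ar
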