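import Mathlib
import Cfsg.Agent.H17.KnDef2

/-!
# Piece SY2 of S1918: the 2-group of type `S16` is a Sylow subgroup
-/

set_option autoImplicit false

namespace Cfsg.Agent.H15.KnSy2

open Equiv Subgroup Cfsg.Agent.H11.A16 Cfsg.Agent.H63 Cfsg.Agent.H8.GD Cfsg.Agent.H17.Kn
open Cfsg.Agent.H89.Rec (Syl)

universe u

/-- the elements of `VV` -/
def vv (i : Fin 4) : N2 := ![1, xe 2 4, xe 3 4, xe 2 4 * xe 3 4] i

theorem k_mem : xe 2 1 ∈ QK := by decide +kernel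

theorem k_vv : ∀ i, xe 2 1 * vv i * (xe 2 1)⁻¹ = vv i := by decide +kernel

theorem k_fix : ∀ (f : P → ZMod 2) (i j : Fin 4), (vv i).σ ≠ 1 → (vv j).σ ≠ 1 →
    (vv i).σ ≠ (vv j).σ → Commute (⟨1, f⟩ : N2) (vv i) → Commute (⟨1, f⟩ : N2) (vv j) →
    xe 2 1 * ⟨1, f⟩ * (xe 2 1)⁻¹ = ⟨1, f⟩ := by decide +kernel

theorem k_ne : ∀ i, ¬ ∀ p, xe 2 1 * dl p * (xe 2 1)⁻¹ = vv i * dl p * (vv i)⁻¹ := by
  decide +kernel

theorem vv_mem : ∀ i, vv i ∈ VV := by decide +kernel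

theorem vv_nF : vv 1 ∉ FF ∧ vv 2 ∉ FF ∧ vv 1 * (vv 2)⁻¹ ∉ FF := by decide +kernel

theorem dl_mem : ∀ p, dl p ∈ PP := fun _ => rfl

theorem ex_vv (m : Mod2) {v : N2} (h : v ∈ VV) : ∃ i, v = vv i := by
  rcases m.lVV v h with e | e | e | e
  exacts [⟨0, e⟩, ⟨1, e⟩, ⟨2, e⟩, ⟨3, e⟩]

theorem sy2 (hB : Base.{u}) (ha : Au2Stmt) (hf : FbStmt.{u}) : Sy2Stmt.{u} := by
  intro G _ _ J φ s h
  by_contra hn
  have K := hB.kit J φ h.toKi
  have m2 := hB.m2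
  obtain ⟨-, QT, -, AQ, -, -, -, T01, T1S, -, PJ, JS, FS, -, -, -, VA, -⟩ := m2.le
  have TS : T0 ≤ S2 := inf_le_right
  have AS : AA ≤ S2 := AA_le_T0.trans TS
  have PS : PP ≤ S2 := PJ.trans JS
  have FS2 : FF ≤ S2 := FS.trans inf_le_left
  have VS : VV ≤ S2 := VA.trans AS
  obtain ⟨S, hS, le, -, n, nS, nn, nN⟩ := hB.gen.up (im J S2) ⊤ (h.em2.two hB.m1.two) le_top hn
  obtain ⟨α, au, hα⟩ := h.em2.au nN
  have rr : ∀ c ∈ S2, ∀ u ∈ S2, R J (J c * n) u (c * α u * c⁻¹) := fun c hc u hu =>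
    (hα u hu).trans (h.em2.self hc (au.mem u hu))
  rcases ha α au with ⟨c, hc, h1⟩ | ⟨c, hc, h1, -, h3⟩
  · have := K.nT2 S hS ((im_mono TS).trans le) _ (mul_mem (le (mem_im hc)) nS)
      (K.mna _ fun a haa => ⟨_, h1 a haa, rr c hc a (AS haa)⟩)
    exact nn ((mul_mem_cancel_left (mem_im hc)).1 (im_mono TS this))
  have r := rr c hc
  set β : N2 → N2 := fun u => c * α u * c⁻¹ with hβ
  change ∀ u ∈ FF, β u ∈ PP at h1
  change ∀ v ∈ VV, ∃ v' ∈ VV, ∃ e ∈ PP, β v = v' * e at h3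
  change ∀ u ∈ S2, R J (J c * n) u (β u) at r
  have bm : ∀ u ∈ S2, β u ∈ S2 := fun u hu => mul_mem (mul_mem hc (au.mem u hu)) (inv_mem hc)
  have bmul : ∀ u ∈ S2, ∀ v ∈ S2, β (u * v) = β u * β v := fun u hu v hv => by
    simp only [hβ, au.mul u hu v hv]; group
  have binj : ∀ u ∈ S2, ∀ v ∈ S2, β u = β v → u = v := fun u hu v hv e =>
    au.inj u hu v hv (mul_left_cancel (mul_right_cancel e))
  have bsur : ∀ e ∈ PP, ∃ u ∈ FF, β u = e := fun e he => by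
    let b : FF → PP := fun u => ⟨β u, h1 u u.2⟩
    have inj : Function.Injective b := fun u v e =>
      Subtype.ext (binj _ (FS2 u.2) _ (FS2 v.2) (congrArg Subtype.val e))
    obtain ⟨u, hu⟩ := ((Nat.bijective_iff_injective_and_card b).2
      ⟨inj, hB.m1.cFF.trans hB.m1.cPP.symm⟩).2 ⟨e, he⟩
    exact ⟨u, u.2, congrArg Subtype.val hu⟩
  generalize J c * n = t at r
  clear_value β
  obtain ⟨g, gN, gφ, gP⟩ := h.exP _ k_mem
  have kP := (m2.nrm (xe 2 1)).1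
  have back : ∀ e ∈ PP, ∃ u ∈ FF, t⁻¹ * J e * t = J u := fun e he => by
    obtain ⟨u, hu, rfl⟩ := bsur e he
    have := (r u (FS2 hu)).symm
    rw [R, inv_inv] at this
    exact ⟨u, hu, this⟩
  have cj : ∀ u ∈ S2, t⁻¹ * g * t * J u * (t⁻¹ * g * t)⁻¹ = t⁻¹ * (g * J (β u) * g⁻¹) * t :=
    fun u hu => by rw [← r u hu]; group
  have gV : ∀ v ∈ VV, R J g v v := fun v hv => by
    refine K.onA g gN v (VA hv) v (VA hv) ?_
    obtain ⟨i, rfl⟩ := ex_vv m2 hv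
    rw [gφ, ← map_inv, ← map_mul, ← map_mul, k_vv]
  have sg : ∀ {v e : N2}, e ∈ PP → (v * e).σ = v.σ := fun {v e} he => by
    rw [N2.mul_σ, show e.σ = 1 from he, mul_one]
  have nP : ∀ v ∈ S2, v ∉ FF → (β v).σ ≠ 1 := fun v hv nv e => by
    obtain ⟨u, hu, e'⟩ := bsur (β v) e
    exact nv (binj _ (FS2 hu) _ hv e' ▸ hu)
  obtain ⟨v, hv, ex⟩ := hf J φ s h.toSt (t⁻¹ * g * t) (by
      refine mem_normalizer_fintype fun a haa => ?_
      obtain ⟨u, hu, rfl⟩ := (h.em2.mono FS2).mem.1 haa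
      obtain ⟨u', hu', e⟩ := back _ (kP _ (h1 u hu))
      rw [cj u (FS2 hu), gP _ (h1 u hu), e]
      exact mem_im hu')
    (fun v hv => by
      obtain ⟨v', hv', e, he, eb⟩ := h3 v hv
      have m1 : v' * (xe 2 1 * e * (xe 2 1)⁻¹ * e⁻¹) * v'⁻¹ ∈ PP :=
        (m2.nrm v').1 _ (mul_mem (kP e he) (inv_mem he))
      obtain ⟨u', hu', e'⟩ := back _ m1
      have e2 : t⁻¹ * g * t * J v * (t⁻¹ * g * t)⁻¹ * (J v)⁻¹ = J u' := by
        have e3 : J v = t⁻¹ * (J v' * J e) * t := by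
          rw [← h.em2.mul _ (VS hv') _ (PS he), ← eb, ← r v (VS hv)]; group
        rw [← e', h.em2.mul _ (mul_mem (VS hv') (PS (mul_mem (kP e he) (inv_mem he)))) _
          (inv_mem (VS hv')), h.em2.mul _ (VS hv') _ (PS (mul_mem (kP e he) (inv_mem he))),
          h.em2.mul _ (PS (kP e he)) _ (PS (inv_mem he)), h.em2.inv (VS hv'), h.em2.inv (PS he),
          ← gP e he, e3]
        calc _ = t⁻¹ * (g * J v' * g⁻¹ * (g * J e * g⁻¹ * (J e)⁻¹) * (J v')⁻¹) * t := by group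
          _ = _ := by rw [gV v' hv']
      rw [e2]
      refine mem_centralizer_iff.2 fun a haa => ?_
      obtain ⟨u, hu, rfl⟩ := (h.em2.mono FS2).mem.1 haa
      rw [← h.em2.mul _ (FS2 hu) _ (FS2 hu'), ← h.em2.mul _ (FS2 hu') _ (FS2 hu),
        m2.ab.2.1 u hu u' hu'])
    (fun u hu => by
      have uP := h1 u hu.2
      have cm : ∀ i, ∃ j, (β (vv i)).σ = (vv j).σ ∧ Commute (β u) (vv j) := fun i => by
        obtain ⟨v', hv', e, he, eb⟩ := h3 _ (vv_mem i)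
        obtain ⟨j, rfl⟩ := ex_vv m2 hv'
        refine ⟨j, by rw [eb, sg he], ?_⟩
        have c1 : Commute (β u) (β (vv i)) := by
          rw [Commute, SemiconjBy, ← bmul _ (AS hu.1) _ (VS (vv_mem i)),
            ← bmul _ (VS (vv_mem i)) _ (AS hu.1), m2.ab.2.2.1 u hu.1 _ (VA (vv_mem i))]
        have c2 := c1.mul_right (m2.ab.1 _ uP _ (inv_mem he))
        rwa [eb, mul_inv_cancel_right] at c2
      obtain ⟨i, ei, ci⟩ := cm 1
      obtain ⟨j, ej, cj'⟩ := cm 2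
      have eu : β u = ⟨1, (β u).f⟩ := N2.ext uP rfl
      have fx : xe 2 1 * β u * (xe 2 1)⁻¹ = β u := by
        rw [eu] at ci cj' ⊢
        refine k_fix _ i j (ei ▸ nP _ (VS (vv_mem 1)) vv_nF.1) (ej ▸ nP _ (VS (vv_mem 2)) vv_nF.2.1)
          (fun e => nP _ (mul_mem (VS (vv_mem 1)) (inv_mem (VS (vv_mem 2)))) vv_nF.2.2 ?_) ci cj'
        have := congrArg N2.σ (bmul _ (mul_mem (VS (vv_mem 1)) (inv_mem (VS (vv_mem 2)))) _
          (VS (vv_mem 2)))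
        rw [inv_mul_cancel_right, N2.mul_σ, ei, ej, e] at this
        exact right_eq_mul.1 this
      have e2 := cj u (AS hu.1)
      rw [gP _ uP, fx, ← r u (AS hu.1)] at e2
      rw [Commute, SemiconjBy]
      calc t⁻¹ * g * t * J u = t⁻¹ * g * t * J u * (t⁻¹ * g * t)⁻¹ * (t⁻¹ * g * t) := by group
        _ = _ := by rw [e2]; group)
  obtain ⟨v', hv', e, he, eb⟩ := h3 v hv
  obtain ⟨i, rfl⟩ := ex_vv m2 hv'
  refine k_ne i fun p => ?_
  obtain ⟨u, hu, eu⟩ := bsur _ (dl_mem p)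
  have m1 : v * u * v⁻¹ ∈ S2 := mul_mem (mul_mem (VS hv) (FS2 hu)) (inv_mem (VS hv))
  have e1 : β (v * u * v⁻¹) = vv i * dl p * (vv i)⁻¹ := by
    have := bmul _ m1 _ (VS hv)
    rw [inv_mul_cancel_right, bmul _ (VS hv) _ (FS2 hu), eu, eb] at this
    calc β (v * u * v⁻¹) = vv i * (e * dl p) * e⁻¹ * (vv i)⁻¹ := by
          rw [← mul_assoc, this]; group
      _ = _ := by rw [m2.ab.1 e he _ (dl_mem p)]; group
  have e2 := ex u hu
  rw [R, cj u (FS2 hu), eu, gP _ (dl_mem p)] at e2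
  refine h.em2.inj _ (PS (kP _ (dl_mem p))) _ (e1 ▸ bm _ m1) ?_
  rw [← e1, ← r _ m1, ← e2]; group

end Cfsg.Agent.H15.KnSy2
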