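import Mathlib
import Cfsg.Agent.H15.L4M
import Cfsg.Agent.H15.L43cG
import Cfsg.Agent.H15.L43cS
import Cfsg.Agent.H44.Perm

/-!
# A presentation of `L₄(3)` on nine involutions
-/

set_option autoImplicit false
set_option maxRecDepth 100000

namespace Cfsg.Agent.H15.L43M

open Cfsg.Agent.H44 Cfsg.Agent.H44.MW Cfsg.Agent.H46 Cfsg.Agent.H15.L4M Matrix

/-- Codes of the generators. -/
def c : List ℕ := [0, 1427247694035190413382342339251532870556057602, 2788954281880160077023338508012466524390400, 2658455992807771787398837405747249152, 1430038008116012185976938836829474128292481025, 1427249053838024982132366536510073660946515970, 2855889181988127267928151856428693015075227650, 2787593151114402107325671691214768782182400, 1428644212870329482513100527958034972356379650, 1396520163071529714849642016389093573788672]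

/-- Words for the elementary transvections. -/
def W : List (List ℕ) := [[], [7, 9, 7, 9, 6, 9, 6, 4, 1], [2, 1, 9, 7, 9, 6, 9, 5, 7, 6, 3], [2, 4, 7, 1, 2, 8, 7, 5, 6, 1], [7, 1, 4, 6, 9, 6, 9, 7, 9], [], [8, 7, 5, 6, 1, 2, 8, 7, 8], [3, 6, 5, 9, 6, 9, 7, 9, 1, 7, 2], [6, 5, 9, 6, 9, 7, 9, 7, 1, 2], [4, 6, 7, 8, 1, 7, 4, 2, 1], [], [7, 4, 6, 9, 6, 1, 9, 7, 9], [2, 1, 4, 6, 7, 8, 1, 7, 4], [5, 7, 8, 9, 2, 1, 6, 5, 9, 7, 5], [7, 9, 7, 1, 9, 6, 9, 6, 4], []]

theorem card_le {G : Type*} [Group G] {g : ℕ → G} (hg : Sat g L43cG.R) :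
    Finite (gen g 9) ∧ Nat.card (gen g 9) ≤ 3159 * (1920 * 1) := by
  have h1 := L43cS.D.checked.step hg [0, 2, 3, 4, 6, 7] (S₁ := []) (S₂ := L43cG.S)
    (by decide +kernel) rfl rfl
  have h2 := h1.wcard (by rfl) (wcard_nil g)
  refine (L43cG.idxLe hg (mem_wgen g)).card_le (wgen_le.2 fun s hs => ?_) h2
  have : lettersIn 9 s = true := by revert s; decide +kernel
  exact ev_mem fun x hx => mem_gen g (lettersIn_iff.1 this x hx).1 (lettersIn_iff.1 this x hx).2

/-- A non-trivial group satisfying the relators is `L₄(3)`. -/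
theorem equiv {G : Type*} [Group G] {g : ℕ → G} (hg : Sat g L43cG.R) (hne : g 1 ≠ 1) :
    Nonempty (gen g 9 ≃* ProjectiveSpecialLinearGroup (Fin 4) (ZMod 3)) := by
  refine equiv_psl (c := c) mc3 (fun x h1 h2 => ?_) (fun x h1 h2 => ?_) ?_ (fun i j hij => ?_) hg
    le_rfl (by norm_num) hne fun h hh => ?_
  · interval_cases x <;> decide +kernel
  · simp only [det_succ_row_zero, Fin.sum_univ_succ, det_unique]
    interval_cases x <;> decide +kernel
  · decide +kernel
  · refine ⟨nth [] W (4 * i + j), ?_⟩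
    revert i j
    decide +kernel
  · rw [card3]; exact card_le hh

end Cfsg.Agent.H15.L43M
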