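import Mathlib
import Cfsg.Agent.H48.M2Defs

/-! Maximal 2-local subgroups of the Monster: the two lines of the second case agree. -/

set_option autoImplicit false

namespace Cfsg.Agent.H15.M2Bf3

open Subgroup Cfsg.Agent.H48.M2 Cfsg.Agent.H95.Par
open Cfsg.Agent.H97.Yt (M)

theorem two_mul_le {G : Type*} [Group G] [Finite G] (X T : Subgroup G)
    (h : ∀ a ∈ X, ∀ b ∈ X, a ∉ T → b ∉ T → a * b ∈ T) : Nat.card X ≤ 2 * Nat.card ↥(X ⊓ T) := by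
  by_cases e : X ≤ T
  · rw [inf_eq_left.2 e]; omega
  obtain ⟨a, ha, ha'⟩ := SetLike.not_le_iff_exists.1 e
  have h1 : (X : Set G) ⊆ ↑(X ⊓ T) ∪ (fun x => a⁻¹ * x) '' ↑(X ⊓ T) := fun b hb => by
    by_cases hb' : b ∈ T
    · exact .inl ⟨hb, hb'⟩
    · exact .inr ⟨a * b, ⟨mul_mem ha hb, h a ha b hb ha' hb'⟩, inv_mul_cancel_left a b⟩
  have h2 := (Set.ncard_le_ncard h1).trans (Set.ncard_union_le _ _)
  have h3 := Set.ncard_image_le (s := ((X ⊓ T : Subgroup G) : Set G)) (f := fun x => a⁻¹ * x)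
  change (X : Set G).ncard ≤ 2 * ((X ⊓ T : Subgroup G) : Set G).ncard
  omega

theorem cover {G : Type*} [Group G] [Finite G] (Y l : Subgroup G) (Z : G → Subgroup G)
    (hl : Nat.card l = 4) (h1 : ∀ y ∈ Y, ∃ c ∈ l, c ≠ 1 ∧ y ∈ Z c)
    (h2 : ∀ c ∈ l, c ≠ 1 → 4 * Nat.card (Z c) ≤ Nat.card Y) : False := by
  have h3 : ((l : Set G) \ {1}).ncard = 3 := by
    rw [Set.ncard_sdiff_singleton_of_mem (one_mem l)]
    change Nat.card l - 1 = 3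
    omega
  obtain ⟨a, b, c, -, -, -, e⟩ := Set.ncard_eq_three.1 h3
  have m : ∀ x, x ∈ ({a, b, c} : Set G) ↔ x ∈ l ∧ x ≠ 1 := fun x => by rw [← e]; rfl
  have ha := (m a).1 (by simp)
  have hb := (m b).1 (by simp)
  have hc := (m c).1 (by simp)
  have h4 : (Y : Set G) ⊆ (Z a ∪ Z b) ∪ Z c := fun y hy => by
    obtain ⟨x, hx, x1, hy⟩ := h1 y hy
    rcases (m x).2 ⟨hx, x1⟩ with rfl | rfl | rfl
    exacts [.inl (.inl hy), .inl (.inr hy), .inr hy]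
  have h5 := (Set.ncard_le_ncard h4).trans ((Set.ncard_union_le _ _).trans
    (Nat.add_le_add_right (Set.ncard_union_le _ _) _))
  have h6 := h2 a ha.1 ha.2
  have h7 := h2 b hb.1 hb.2
  have h8 := h2 c hc.1 hc.2
  have h9 : 0 < Nat.card Y := Nat.card_pos
  change Nat.card Y ≤ Nat.card (Z a) + Nat.card (Z b) + Nat.card (Z c) at h5
  omega

theorem bf3_of (bu : BuStmt) (bw : BwStmt) (bm : BmStmt) (bf2 : Bf2Stmt) : Bf3Stmt := by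
  intro R V w w' h y hy y' hy' ln ln'
  by_contra ne
  have cm : ∀ {a b : M}, a ∈ V → b ∈ V → a * b = b * a := fun ha hb => h.vs.el.cm ha hb
  have meet : ∀ z ∈ V, Ln w w' z → ∃ c ∈ WW w w' z, c ∈ WW w' w y' ∧ c ≠ 1 := fun z hz lz => by
    obtain ⟨⟨c, h1, h2⟩, c1⟩ := ne_bot_iff_exists_ne_one.1 (bm w w' z y' h.bp lz ln' (cm hz hy'))
    exact ⟨c, h1, h2, fun e => c1 (Subtype.ext e)⟩
  have lU : ∀ c ∈ WW w' w y', c ∈ U0 w w' := fun c hc => U0_comm w w' ▸ hc.1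
  have mk : ∀ z ∈ V ⊓ Qz w, z ∉ TT w w' → Ln w w' z := fun z hz hT =>
    ⟨⟨hz.2, mem_centralizer_singleton_iff.2 (cm hz.1 h.m2.mem)⟩, hT, h.vs.el z hz.1⟩
  obtain ⟨b, b1, b2, b3⟩ := meet y hy ln
  obtain ⟨k1, k2⟩ := bf2 R V w w' h y hy y' hy' ln ln' ne b b1 b2 b3
  refine cover (V ⊓ Qz w) (WW w' w y') (fun c => V ⊓ Qz w ⊓ (Qz c ⊔ Ak w w'))
    (bw w' w y' h.bp.symm ln').1 (fun z hz => ?_) fun c hc c1 => ?_
  · by_cases hT : z ∈ TT w w'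
    · refine ⟨b, b2, b3, hz, ?_⟩
      have h1 := ((bu w w' h.bp).2.2.2.2.2.2.1 b (lU b b2) b3).2
      exact (sup_le le_sup_right ((zpowers_le.2 h1).trans le_sup_left) :
        Ak w w' ⊔ zpowers w' ≤ Qz b ⊔ Ak w w') hT.2
    · obtain ⟨c, c1, c2, c3⟩ := meet z hz.1 (mk z hz hT)
      exact ⟨c, c2, c3, hz, ((bw w w' z h.bp (mk z hz hT)).2.1 c (lU c c2) c3).1 c1⟩
  · by_cases ex : ∃ z ∈ V, Ln w w' z ∧ c ∈ WW w w' z ∧ WW w w' z ≠ WW w' w y'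
    · obtain ⟨z, hz, lz, cz, nz⟩ := ex
      exact (bf2 R V w w' h z hz y' hy' lz ln' nz c cz hc c1).1
    · have eq : ∀ z ∈ V ⊓ Qz w ⊓ (Qz c ⊔ Ak w w'), z ∉ TT w w' → WW w w' z = WW w' w y' :=
        fun z hz hT => by_contra fun nz => ex ⟨z, hz.1.1, mk z hz.1 hT,
          ((bw w w' z h.bp (mk z hz.1 hT)).2.1 c (lU c hc) c1).2 hz.2, nz⟩
      have h1 := two_mul_le (V ⊓ Qz w ⊓ (Qz c ⊔ Ak w w')) (TT w w') fun z hz z' hz' hT hT' =>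
        ((bw w w' z h.bp (mk z hz.1 hT)).2.2 z' (mk z' hz'.1 hT') (cm hz.1.1 hz'.1.1)).1
          ((eq z hz hT).trans (eq z' hz' hT').symm)
      have h2 : Nat.card ↥(V ⊓ Qz w ⊓ (Qz c ⊔ Ak w w') ⊓ TT w w') ≤ Nat.card ↥(V ⊓ TT w w') :=
        card_le_of_le (inf_le_inf_right _ (inf_le_left.trans inf_le_left))
      omega

end Cfsg.Agent.H15.M2Bf3
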