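import Mathlib
import Cfsg.Agent.H15.O8H
import Cfsg.Agent.H75.O8Lift

/-! A bit-sliced model of the unipotent group over the field with two elements. -/

set_option autoImplicit false
set_option linter.unusedSimpArgs false
set_option linter.unnecessarySeqFocus false
set_option linter.unusedSectionVars false

namespace Cfsg.Agent.H15.O8

open Cfsg.Agent.H39 Cfsg.Agent.H83 Subgroup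
open scoped commutatorElement

/-- Coordinates given by bit masks. -/
structure UN where
  a1 : ℕ
  b2 : ℕ
  a2 : ℕ
  a3 : ℕ
  b4 : ℕ
  a4 : ℕ
  a5 : ℕ
  b6 : ℕ
  a6 : ℕ
  a7 : ℕ
  b8 : ℕ
  a8 : ℕ

namespace UN

instance instMulO8N : Mul UN := ⟨fun g k =>
  { a1 := k.a1 ^^^ g.a1
    b2 := k.b2 ^^^ g.b2 ^^^ k.a1 &&& g.b8
    a2 := k.a2 ^^^ g.a2 ^^^ k.a1 &&& g.b4 ^^^ k.a1 &&& g.b6 ^^^ k.b2 &&& g.b2 ^^^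
      k.a1 &&& k.a1 &&& g.a8 ^^^ k.a1 &&& k.b2 &&& g.b8 ^^^ k.a1 &&& g.b2 &&& g.b8
    a3 := k.a3 ^^^ g.a3 ^^^ k.a1 &&& g.b6 ^^^ k.a1 &&& g.a7 ^^^ k.a2 &&& g.b8 ^^^ k.b2 &&& g.b4 ^^^
      k.a1 &&& k.a1 &&& g.a8 ^^^ k.a1 &&& g.b4 &&& g.b8 ^^^ k.a1 &&& k.b2 &&& g.a8 ^^^
      k.b2 &&& k.b2 &&& g.b8 ^^^ k.a1 &&& k.a1 &&& g.a8 &&& g.b8 ^^^
      k.a1 &&& k.a1 &&& g.b8 &&& g.b8
    b4 := k.b4 ^^^ g.b4 ^^^ k.a1 &&& g.a8 ^^^ k.b2 &&& g.b8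
    a4 := k.a4 ^^^ g.a4 ^^^ k.a1 &&& g.a6 ^^^ k.a2 &&& g.a7 ^^^ k.a2 &&& g.a8 ^^^ k.a3 &&& g.b6 ^^^
      k.a3 &&& g.b8 ^^^ k.b2 &&& g.a5 ^^^ k.b4 &&& g.b4 ^^^ k.a1 &&& k.a2 &&& g.a8 ^^^
      k.a1 &&& k.a3 &&& g.a8 ^^^ k.a1 &&& k.b2 &&& g.a7 ^^^ k.a1 &&& g.a5 &&& g.b8 ^^^
      k.a1 &&& k.b4 &&& g.a8 ^^^ k.a1 &&& g.a7 &&& g.b6 ^^^ k.a2 &&& k.b2 &&& g.a8 ^^^
      k.a2 &&& g.b6 &&& g.b8 ^^^ k.a3 &&& k.b2 &&& g.b8 ^^^ k.b2 &&& k.b2 &&& g.a7 ^^^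
      k.b2 &&& k.b4 &&& g.b8 ^^^ k.a1 &&& k.a1 &&& g.a7 &&& g.a8 ^^^
      k.a1 &&& k.a1 &&& g.a8 &&& g.b6 ^^^ k.a1 &&& k.a3 &&& g.b8 &&& g.b8 ^^^
      k.a1 &&& k.b2 &&& k.b2 &&& g.a8 ^^^ k.a1 &&& g.a7 &&& g.b8 ^^^ k.a1 &&& g.a8 &&& g.b4 ^^^
      k.a1 &&& k.b2 &&& g.a7 &&& g.b8 ^^^ k.a1 &&& k.b2 &&& g.a8 &&& g.b6 ^^^
      k.a2 &&& k.b2 &&& g.b8 &&& g.b8 ^^^ k.b2 &&& k.b2 &&& g.b6 &&& g.b8 ^^^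
      k.b2 &&& k.b2 &&& g.a8 ^^^ k.b2 &&& g.b4 &&& g.b8 ^^^ k.a1 &&& k.a1 &&& k.b2 &&& g.a8 ^^^
      k.a1 &&& k.a1 &&& k.b2 &&& g.a8 &&& g.b8 ^^^ k.a1 &&& k.a1 &&& g.a7 &&& g.b8 &&& g.b8 ^^^
      k.a1 &&& k.a1 &&& g.a8 &&& g.b6 &&& g.b8 ^^^ k.a1 &&& k.a1 &&& g.a8 &&& g.a8 ^^^
      k.a1 &&& k.b2 &&& g.a8 &&& g.b8 ^^^ k.b2 &&& k.b2 &&& g.b8 &&& g.b8 ^^^
      k.a1 &&& k.a1 &&& g.b6 &&& g.b8 &&& g.b8 ^^^ k.a1 &&& k.a1 &&& g.a8 &&& g.b8 ^^^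
      k.a1 &&& k.a1 &&& g.a8 &&& g.b8 &&& g.b8 ^^^ k.a1 &&& k.a1 &&& k.b2 &&& g.b8 &&& g.b8 ^^^
      k.a1 &&& k.a1 &&& g.b8 &&& g.b8
    a5 := k.a5 ^^^ g.a5 ^^^ k.a1 &&& g.a7 ^^^ k.a2 &&& g.a8 ^^^ k.a3 &&& g.b8 ^^^ k.b2 &&& g.a7 ^^^
      k.b4 &&& g.b6 ^^^ k.a1 &&& k.b2 &&& g.a8 ^^^ k.a1 &&& k.b4 &&& g.a8 ^^^
      k.a1 &&& g.a7 &&& g.b8 ^^^ k.a1 &&& g.a8 &&& g.b6 ^^^ k.a2 &&& g.b8 &&& g.b8 ^^^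
      k.b2 &&& k.b4 &&& g.b8 ^^^ k.b2 &&& g.b6 &&& g.b8 ^^^ k.a1 &&& k.a1 &&& g.a8 ^^^
      k.a1 &&& k.a1 &&& g.a8 &&& g.b8 ^^^ k.a1 &&& k.b4 &&& g.b8 &&& g.b8 ^^^
      k.a1 &&& k.a1 &&& g.b8 &&& g.b8
    b6 := k.b6 ^^^ g.b6 ^^^ k.a1 &&& g.a8 ^^^ k.b2 &&& g.b8 ^^^ k.a1 &&& g.b8 &&& g.b8
    a6 := k.a6 ^^^ g.a6 ^^^ k.a2 &&& g.a8 ^^^ k.a3 &&& g.a8 ^^^ k.a5 &&& g.b8 ^^^ k.b2 &&& g.a7 ^^^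
      k.b4 &&& g.a7 ^^^ k.b6 &&& g.b6 ^^^ k.a1 &&& k.b4 &&& g.a8 ^^^ k.a1 &&& k.b6 &&& g.a8 ^^^
      k.a1 &&& g.a7 &&& g.b8 ^^^ k.a1 &&& g.a7 &&& g.a8 ^^^ k.a1 &&& g.a8 &&& g.b6 ^^^
      k.a2 &&& g.a8 &&& g.b8 ^^^ k.b2 &&& k.b2 &&& g.a8 ^^^ k.b2 &&& k.b4 &&& g.a8 ^^^
      k.b2 &&& k.b6 &&& g.b8 ^^^ k.b2 &&& g.a7 &&& g.b8 ^^^ k.a1 &&& k.b2 &&& g.a8 &&& g.b8 ^^^
      k.a1 &&& k.b4 &&& g.a8 &&& g.b8 ^^^ k.a1 &&& k.b6 &&& g.b8 &&& g.b8 ^^^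
      k.a1 &&& k.b2 &&& g.a8 ^^^ k.a1 &&& k.b2 &&& g.a8 &&& g.b8 ^^^ k.a2 &&& g.b8 &&& g.b8 ^^^
      k.b2 &&& g.b6 &&& g.b8 ^^^ k.a1 &&& k.a1 &&& g.a8 &&& g.b8 ^^^
      k.a1 &&& k.a1 &&& g.a8 &&& g.b8 &&& g.b8 ^^^ k.a1 &&& k.b4 &&& g.b8 &&& g.b8 ^^^
      k.a1 &&& g.b6 &&& g.b8 &&& g.b8 ^^^ k.a1 &&& k.b2 &&& g.b8 &&& g.b8 ^^^
      k.a1 &&& k.a1 &&& g.b8 &&& g.b8
    a7 := k.a7 ^^^ g.a7 ^^^ k.a1 &&& g.a8 ^^^ k.b2 &&& g.a8 ^^^ k.b6 &&& g.b8 ^^^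
      k.a1 &&& g.a8 &&& g.b8 ^^^ k.a1 &&& g.b8 &&& g.b8
    b8 := k.b8 ^^^ g.b8
    a8 := k.a8 ^^^ g.a8 ^^^ k.b8 &&& g.b8 }⟩

instance instInvO8N : Inv UN := ⟨fun g =>
  { a1 := g.a1
    b2 := g.b2 ^^^ g.a1 &&& g.b8
    a2 := g.a2 ^^^ g.a1 &&& g.b4 ^^^ g.a1 &&& g.b6 ^^^ g.b2 &&& g.b2 ^^^ g.a1 &&& g.a1 &&& g.a8 ^^^
      g.a1 &&& g.b2 &&& g.b8 ^^^ g.a1 &&& g.a1 &&& g.b8 &&& g.b8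
    a3 := g.a3 ^^^ g.a1 &&& g.b6 ^^^ g.a1 &&& g.a7 ^^^ g.a2 &&& g.b8 ^^^ g.b2 &&& g.b4 ^^^
      g.a1 &&& g.a1 &&& g.a8 ^^^ g.a1 &&& g.b4 &&& g.b8 ^^^ g.a1 &&& g.a8 &&& g.b2 ^^^
      g.a1 &&& g.b6 &&& g.b8 ^^^ g.a1 &&& g.a1 &&& g.a8 &&& g.b8 ^^^
      g.a1 &&& g.b2 &&& g.b8 &&& g.b8 ^^^ g.a1 &&& g.a1 &&& g.b8 &&& g.b8
    b4 := g.b4 ^^^ g.a1 &&& g.a8 ^^^ g.b2 &&& g.b8 ^^^ g.a1 &&& g.b8 &&& g.b8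
    a4 := g.a4 ^^^ g.a1 &&& g.a6 ^^^ g.a2 &&& g.a7 ^^^ g.a2 &&& g.a8 ^^^ g.a3 &&& g.b6 ^^^
      g.a3 &&& g.b8 ^^^ g.a5 &&& g.b2 ^^^ g.b4 &&& g.b4 ^^^ g.a1 &&& g.a2 &&& g.a8 ^^^
      g.a1 &&& g.a3 &&& g.a8 ^^^ g.a1 &&& g.a7 &&& g.b4 ^^^ g.a1 &&& g.a7 &&& g.b2 ^^^
      g.a1 &&& g.b6 &&& g.b6 ^^^ g.a1 &&& g.a7 &&& g.b6 ^^^ g.a2 &&& g.a8 &&& g.b2 ^^^
      g.a2 &&& g.b8 &&& g.b8 ^^^ g.a3 &&& g.b2 &&& g.b8 ^^^ g.b2 &&& g.b4 &&& g.b6 ^^^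
      g.a1 &&& g.a1 &&& g.a7 &&& g.a8 ^^^ g.a1 &&& g.a1 &&& g.a8 &&& g.b6 ^^^
      g.a1 &&& g.b2 &&& g.b6 &&& g.b8 ^^^ g.a1 &&& g.a7 &&& g.b8 ^^^ g.a1 &&& g.a8 &&& g.b4 ^^^
      g.a1 &&& g.a7 &&& g.b2 &&& g.b8 ^^^ g.a1 &&& g.a8 &&& g.b2 &&& g.b6 ^^^
      g.a1 &&& g.b6 &&& g.b8 ^^^ g.a8 &&& g.b2 &&& g.b2 ^^^ g.b2 &&& g.b4 &&& g.b8 ^^^
      g.a1 &&& g.a1 &&& g.a8 &&& g.b2 ^^^ g.a1 &&& g.a1 &&& g.a8 &&& g.b2 &&& g.b8 ^^^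
      g.a1 &&& g.a2 &&& g.b8 &&& g.b8 ^^^ g.a1 &&& g.a1 &&& g.a8 &&& g.a8 ^^^
      g.a1 &&& g.b6 &&& g.b8 &&& g.b8 ^^^ g.a1 &&& g.a8 &&& g.b2 &&& g.b8 ^^^
      g.b2 &&& g.b2 &&& g.b8 &&& g.b8 ^^^ g.a1 &&& g.a1 &&& g.b6 &&& g.b8 &&& g.b8 ^^^
      g.a1 &&& g.a1 &&& g.a8 &&& g.b8 ^^^ g.a1 &&& g.b4 &&& g.b8 &&& g.b8 ^^^
      g.a1 &&& g.b2 &&& g.b8 &&& g.b8 ^^^ g.a1 &&& g.a1 &&& g.b2 &&& g.b8 &&& g.b8 ^^^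
      g.a1 &&& g.a1 &&& g.a8 &&& g.b8 &&& g.b8
    a5 := g.a5 ^^^ g.a1 &&& g.a7 ^^^ g.a2 &&& g.a8 ^^^ g.a3 &&& g.b8 ^^^ g.a7 &&& g.b2 ^^^
      g.b4 &&& g.b6 ^^^ g.a1 &&& g.a8 &&& g.b2 ^^^ g.a1 &&& g.b6 &&& g.b8 ^^^
      g.a1 &&& g.a7 &&& g.b8 ^^^ g.a1 &&& g.a8 &&& g.b6 ^^^ g.a8 &&& g.b2 &&& g.b2 ^^^
      g.a1 &&& g.a1 &&& g.a8 ^^^ g.a1 &&& g.a1 &&& g.a8 &&& g.b8 ^^^
      g.a1 &&& g.b2 &&& g.b8 &&& g.b8 ^^^ g.a1 &&& g.a1 &&& g.b8 &&& g.b8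
    b6 := g.b6 ^^^ g.a1 &&& g.a8 ^^^ g.b2 &&& g.b8
    a6 := g.a6 ^^^ g.a2 &&& g.a8 ^^^ g.a3 &&& g.a8 ^^^ g.a5 &&& g.b8 ^^^ g.a7 &&& g.b4 ^^^
      g.a7 &&& g.b2 ^^^ g.b6 &&& g.b6 ^^^ g.a1 &&& g.a7 &&& g.b8 ^^^ g.a1 &&& g.a7 &&& g.a8 ^^^
      g.a1 &&& g.a8 &&& g.b6 ^^^ g.a2 &&& g.a8 &&& g.b8 ^^^ g.a3 &&& g.b8 &&& g.b8 ^^^
      g.a7 &&& g.b2 &&& g.b8 ^^^ g.b2 &&& g.b6 &&& g.b8 ^^^ g.b4 &&& g.b6 &&& g.b8 ^^^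
      g.a1 &&& g.a8 &&& g.b2 &&& g.b8 ^^^ g.a1 &&& g.b6 &&& g.b8 &&& g.b8 ^^^
      g.a1 &&& g.a7 &&& g.b8 &&& g.b8 ^^^ g.a1 &&& g.a8 &&& g.b6 &&& g.b8 ^^^
      g.a1 &&& g.a8 &&& g.b2 ^^^ g.a1 &&& g.a8 &&& g.b2 &&& g.b8 ^^^ g.a2 &&& g.b8 &&& g.b8 ^^^
      g.a8 &&& g.b2 &&& g.b2 &&& g.b8 ^^^ g.a1 &&& g.a1 &&& g.a8 &&& g.b8 ^^^
      g.a1 &&& g.a1 &&& g.a8 &&& g.b8 &&& g.b8 ^^^ g.a1 &&& g.b6 &&& g.b8 &&& g.b8 ^^^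
      g.a1 &&& g.b2 &&& g.b8 &&& g.b8 ^^^ g.a1 &&& g.b2 &&& g.b8 &&& g.b8 ^^^
      g.a1 &&& g.a1 &&& g.b8 &&& g.b8
    a7 := g.a7 ^^^ g.a1 &&& g.a8 ^^^ g.a8 &&& g.b2 ^^^ g.b6 &&& g.b8 ^^^ g.a1 &&& g.a8 &&& g.b8 ^^^
      g.b2 &&& g.b8 &&& g.b8 ^^^ g.a1 &&& g.b8 &&& g.b8
    b8 := g.b8
    a8 := g.a8 ^^^ g.b8 &&& g.b8 }⟩

/-- The reflection on `Q`. -/
def w8 (g : UN) : UN where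
  a1 := g.a7
  b2 := g.b6
  a2 := g.a6 ^^^ g.a7 &&& g.b4 ^^^ g.a7 &&& g.b2
  a3 := g.a5 ^^^ g.a1 &&& g.a7 ^^^ g.a7 &&& g.b2 ^^^ g.b4 &&& g.b6
  b4 := g.b4
  a4 := g.a4 ^^^ g.a1 &&& g.a6 ^^^ g.a2 &&& g.a7 ^^^ g.a3 &&& g.b6 ^^^ g.a5 &&& g.b2 ^^^
    g.a1 &&& g.a7 &&& g.b4 ^^^ g.a1 &&& g.a7 &&& g.b2 ^^^ g.a1 &&& g.b6 &&& g.b6 ^^^
    g.a1 &&& g.a7 &&& g.b6 ^^^ g.b2 &&& g.b4 &&& g.b6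
  a5 := g.a3 ^^^ g.a1 &&& g.b6 ^^^ g.a1 &&& g.a7 ^^^ g.b2 &&& g.b4
  b6 := g.b2
  a6 := g.a2 ^^^ g.a1 &&& g.b4 ^^^ g.a1 &&& g.b6
  a7 := g.a1
  b8 := 0
  a8 := 0

/-- Parameter mask. -/
def p0 : ℕ := 0xAAAAAAAAAAAAAAAAAAAAAAAAAAAAAAAAAAAAAAAAAAAAAAAAAAAAAAAAAAAAAAAAAAAAAAAAAAAAAAAAAAAAAAAAAAAAAAAAAAAAAAAAAAAAAAAAAAAAAAAAAAAAAAAAAAAAAAAAAAAAAAAAAAAAAAAAAAAAAAAAAAAAAAAAAAAAAAAAAAAAAAAAAAAAAAAAAAAAAAAAAAAAAAAAAAAAAAAAAAAAAAAAAAAAAAAAAAAAAAAAAAAAAAAAAAAAAAAA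

/-- Parameter mask. -/
def p1 : ℕ := 0xCCCCCCCCCCCCCCCCCCCCCCCCCCCCCCCCCCCCCCCCCCCCCCCCCCCCCCCCCCCCCCCCCCCCCCCCCCCCCCCCCCCCCCCCCCCCCCCCCCCCCCCCCCCCCCCCCCCCCCCCCCCCCCCCCCCCCCCCCCCCCCCCCCCCCCCCCCCCCCCCCCCCCCCCCCCCCCCCCCCCCCCCCCCCCCCCCCCCCCCCCCCCCCCCCCCCCCCCCCCCCCCCCCCCCCCCCCCCCCCCCCCCCCCCCCCCCCCC

/-- Parameter mask. -/
def p2 : ℕ := 0xF0F0F0F0F0F0F0F0F0F0F0F0F0F0F0F0F0F0F0F0F0F0F0F0F0F0F0F0F0F0F0F0F0F0F0F0F0F0F0F0F0F0F0F0F0F0F0F0F0F0F0F0F0F0F0F0F0F0F0F0F0F0F0F0F0F0F0F0F0F0F0F0F0F0F0F0F0F0F0F0F0F0F0F0F0F0F0F0F0F0F0F0F0F0F0F0F0F0F0F0F0F0F0F0F0F0F0F0F0F0F0F0F0F0F0F0F0F0F0F0F0F0F0F0F0F0F0F0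

/-- Parameter mask. -/
def p3 : ℕ := 0xFF00FF00FF00FF00FF00FF00FF00FF00FF00FF00FF00FF00FF00FF00FF00FF00FF00FF00FF00FF00FF00FF00FF00FF00FF00FF00FF00FF00FF00FF00FF00FF00FF00FF00FF00FF00FF00FF00FF00FF00FF00FF00FF00FF00FF00FF00FF00FF00FF00FF00FF00FF00FF00FF00FF00FF00FF00FF00FF00FF00FF00FF00FF00FF00

/-- Parameter mask. -/
def p4 : ℕ := 0xFFFF0000FFFF0000FFFF0000FFFF0000FFFF0000FFFF0000FFFF0000FFFF0000FFFF0000FFFF0000FFFF0000FFFF0000FFFF0000FFFF0000FFFF0000FFFF0000FFFF0000FFFF0000FFFF0000FFFF0000FFFF0000FFFF0000FFFF0000FFFF0000FFFF0000FFFF0000FFFF0000FFFF0000FFFF0000FFFF0000FFFF0000FFFF0000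

/-- Parameter mask. -/
def p5 : ℕ := 0xFFFFFFFF00000000FFFFFFFF00000000FFFFFFFF00000000FFFFFFFF00000000FFFFFFFF00000000FFFFFFFF00000000FFFFFFFF00000000FFFFFFFF00000000FFFFFFFF00000000FFFFFFFF00000000FFFFFFFF00000000FFFFFFFF00000000FFFFFFFF00000000FFFFFFFF00000000FFFFFFFF00000000FFFFFFFF00000000

/-- Parameter mask. -/
def p6 : ℕ := 0xFFFFFFFFFFFFFFFF0000000000000000FFFFFFFFFFFFFFFF0000000000000000FFFFFFFFFFFFFFFF0000000000000000FFFFFFFFFFFFFFFF0000000000000000FFFFFFFFFFFFFFFF0000000000000000FFFFFFFFFFFFFFFF0000000000000000FFFFFFFFFFFFFFFF0000000000000000FFFFFFFFFFFFFFFF0000000000000000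

/-- Parameter mask. -/
def p7 : ℕ := 0xFFFFFFFFFFFFFFFFFFFFFFFFFFFFFFFF00000000000000000000000000000000FFFFFFFFFFFFFFFFFFFFFFFFFFFFFFFF00000000000000000000000000000000FFFFFFFFFFFFFFFFFFFFFFFFFFFFFFFF00000000000000000000000000000000FFFFFFFFFFFFFFFFFFFFFFFFFFFFFFFF00000000000000000000000000000000

/-- Parameter mask. -/
def p8 : ℕ := 0xFFFFFFFFFFFFFFFFFFFFFFFFFFFFFFFFFFFFFFFFFFFFFFFFFFFFFFFFFFFFFFFF0000000000000000000000000000000000000000000000000000000000000000FFFFFFFFFFFFFFFFFFFFFFFFFFFFFFFFFFFFFFFFFFFFFFFFFFFFFFFFFFFFFFFF0000000000000000000000000000000000000000000000000000000000000000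

/-- Parameter mask. -/
def p9 : ℕ := 0xFFFFFFFFFFFFFFFFFFFFFFFFFFFFFFFFFFFFFFFFFFFFFFFFFFFFFFFFFFFFFFFFFFFFFFFFFFFFFFFFFFFFFFFFFFFFFFFFFFFFFFFFFFFFFFFFFFFFFFFFFFFFFFFF00000000000000000000000000000000000000000000000000000000000000000000000000000000000000000000000000000000000000000000000000000000

/-- The constant one. -/
def e : ℕ := 0xFFFFFFFFFFFFFFFFFFFFFFFFFFFFFFFFFFFFFFFFFFFFFFFFFFFFFFFFFFFFFFFFFFFFFFFFFFFFFFFFFFFFFFFFFFFFFFFFFFFFFFFFFFFFFFFFFFFFFFFFFFFFFFFFFFFFFFFFFFFFFFFFFFFFFFFFFFFFFFFFFFFFFFFFFFFFFFFFFFFFFFFFFFFFFFFFFFFFFFFFFFFFFFFFFFFFFFFFFFFFFFFFFFFFFFFFFFFFFFFFFFFFFFFFFFFFFFFF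

/-- Root element. -/
def x1 (t : ℕ) : UN := ⟨t, 0, 0, 0, 0, 0, 0, 0, 0, 0, 0, 0⟩

/-- Root element. -/
def y2 (t : ℕ) : UN := ⟨0, t, 0, 0, 0, 0, 0, 0, 0, 0, 0, 0⟩

/-- Root element. -/
def x2 (t : ℕ) : UN := ⟨0, 0, t, 0, 0, 0, 0, 0, 0, 0, 0, 0⟩

/-- Root element. -/
def x3 (t : ℕ) : UN := ⟨0, 0, 0, t, 0, 0, 0, 0, 0, 0, 0, 0⟩

/-- Root element. -/
def y4 (t : ℕ) : UN := ⟨0, 0, 0, 0, t, 0, 0, 0, 0, 0, 0, 0⟩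

/-- Root element. -/
def x4 (t : ℕ) : UN := ⟨0, 0, 0, 0, 0, t, 0, 0, 0, 0, 0, 0⟩

/-- Root element. -/
def x5 (t : ℕ) : UN := ⟨0, 0, 0, 0, 0, 0, t, 0, 0, 0, 0, 0⟩

/-- Root element. -/
def y6 (t : ℕ) : UN := ⟨0, 0, 0, 0, 0, 0, 0, t, 0, 0, 0, 0⟩

/-- Root element. -/
def x6 (t : ℕ) : UN := ⟨0, 0, 0, 0, 0, 0, 0, 0, t, 0, 0, 0⟩

/-- Root element. -/
def x7 (t : ℕ) : UN := ⟨0, 0, 0, 0, 0, 0, 0, 0, 0, t, 0, 0⟩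

/-- Root element. -/
def y8 (t : ℕ) : UN := ⟨0, 0, 0, 0, 0, 0, 0, 0, 0, 0, t, 0⟩

/-- Root element. -/
def x8 (t : ℕ) : UN := ⟨0, 0, 0, 0, 0, 0, 0, 0, 0, 0, 0, t⟩

/-- Scaling by a mask. -/
def sm (t : ℕ) (g : UN) : UN :=
  ⟨t &&& g.a1, t &&& g.b2, t &&& g.a2, t &&& g.a3, t &&& g.b4, t &&& g.a4, t &&& g.a5, t &&& g.b6, t &&& g.a6, t &&& g.a7, t &&& g.b8, t &&& g.a8⟩

/-- The positions where two elements differ. -/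
def df (g k : UN) : ℕ :=
  (g.a1 ^^^ k.a1) ||| (g.b2 ^^^ k.b2) ||| (g.a2 ^^^ k.a2) ||| (g.a3 ^^^ k.a3) ||| (g.b4 ^^^ k.b4) ||| (g.a4 ^^^ k.a4) |||
    (g.a5 ^^^ k.a5) ||| (g.b6 ^^^ k.b6) ||| (g.a6 ^^^ k.a6) ||| (g.a7 ^^^ k.a7) ||| (g.b8 ^^^ k.b8) ||| (g.a8 ^^^ k.a8)

/-- Commutator. -/
def cm (g k : UN) : UN := g * k * g⁻¹ * k⁻¹

/-- The root elements by their index. -/
def gen (i : Fin 12) (t : ℕ) : UN :=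
  ![x1 t, y2 t, x2 t, x3 t, y4 t, x4 t, x5 t, y6 t, x6 t, x7 t, y8 t, x8 t] i

end UN

variable {K : Type*} [Field K] (T : Tits K) (i : ℕ)

variable (K) in
/-- A bit as a field element. -/
def bt (m : ℕ) : K := if m.testBit i then 1 else 0

/-- Evaluation at a bit position. -/
def ev (g : UN) : U T :=
  ⟨bt K i g.a1, bt K i g.b2, bt K i g.a2, bt K i g.a3, bt K i g.b4, bt K i g.a4, bt K i g.a5, bt K i g.b6, bt K i g.a6, bt K i g.a7, bt K i g.b8, bt K i g.a8⟩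

/-- Scaling of all coordinates. -/
def smU (t : K) (g : U T) : U T :=
  ⟨t * g.a1, t * g.b2, t * g.a2, t * g.a3, t * g.b4, t * g.a4, t * g.a5, t * g.b6, t * g.a6, t * g.a7, t * g.b8, t * g.a8⟩

variable {T i}

@[simp] theorem smU_zero (g : U T) : smU T 0 g = 1 := by ext <;> simp [smU]

@[simp] theorem smU_one (g : U T) : smU T 1 g = g := by ext <;> simp [smU]

theorem bt_zero : bt K i 0 = 0 := by simp [bt]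

theorem bt_and (m n : ℕ) : bt K i (m &&& n) = bt K i m * bt K i n := by
  simp only [bt, Nat.testBit_and]
  cases m.testBit i <;> cases n.testBit i <;> simp

include T in
theorem bt_xor (m n : ℕ) : bt K i (m ^^^ n) = bt K i m + bt K i n := by
  have := T.two_eq_zero
  simp only [bt, Nat.testBit_xor]
  cases m.testBit i <;> cases n.testBit i <;> simp [one_add_one_eq_two, this]

theorem θ_bt (m : ℕ) : T.θ (bt K i m) = bt K i m := by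
  unfold bt; split <;> simp

theorem bt_sq (m : ℕ) : bt K i m ^ 2 = bt K i m := by
  unfold bt; split <;> simp

theorem bt_cube (m : ℕ) : bt K i m ^ 3 = bt K i m := by
  unfold bt; split <;> simp

theorem bt_eq_iff (m n : ℕ) : bt K i m = bt K i n ↔ (m ^^^ n).testBit i = false := by
  simp only [bt, Nat.testBit_xor]
  cases m.testBit i <;> cases n.testBit i <;> simp

theorem ev_mul (g k : UN) : ev T i (g * k) = ev T i g * ev T i k := by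
  ext <;> simp only [U.mul_a1, U.mul_b2, U.mul_a2, U.mul_a3, U.mul_b4, U.mul_a4, U.mul_a5, U.mul_b6, U.mul_a6, U.mul_a7, U.mul_b8, U.mul_a8, ev, θ_bt, bt_sq, bt_cube, ← bt_and, ← bt_xor (T := T)] <;> rfl

theorem ev_inv (g : UN) : ev T i g⁻¹ = (ev T i g)⁻¹ := by
  ext <;> simp only [U.inv_a1, U.inv_b2, U.inv_a2, U.inv_a3, U.inv_b4, U.inv_a4, U.inv_a5, U.inv_b6, U.inv_a6, U.inv_a7, U.inv_b8, U.inv_a8, ev, θ_bt, bt_sq, bt_cube, ← bt_and, ← bt_xor (T := T)] <;> rfl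

theorem ev_w8 (g : UN) : ev T i g.w8 = w8 (ev T i g) := by
  ext <;> simp only [w8, UN.w8, ev, θ_bt, bt_sq, bt_cube, bt_and, bt_xor (T := T), bt_zero]

theorem ev_sm (t : ℕ) (g : UN) : ev T i (UN.sm t g) = smU T (bt K i t) (ev T i g) := by
  simp only [ev, UN.sm, smU, bt_and]

theorem ev_cm (g k : UN) : ev T i (g.cm k) = ⁅ev T i g, ev T i k⁆ := by
  rw [UN.cm, ev_mul, ev_mul, ev_mul, ev_inv, ev_inv, commutatorElement_def]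

theorem ev_eq_iff (g k : UN) : ev T i g = ev T i k ↔ (g.df k).testBit i = false := by
  simp only [U.ext_iff, ev, bt_eq_iff, UN.df, Nat.testBit_or, Bool.or_eq_false_iff, and_assoc]

theorem bit_sub {A B : ℕ} (h : A ||| B = B) (hB : B.testBit i = false) : A.testBit i = false := by
  rw [← h, Nat.testBit_or, Bool.or_eq_false_iff] at hB
  exact hB.1

theorem bit_or {A B : ℕ} (hA : A.testBit i = false) (hB : B.testBit i = false) :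
    (A ||| B).testBit i = false := by
  rw [Nat.testBit_or, hA, hB]; rfl

theorem ev_x1 (t : ℕ) : ev T i (UN.x1 t) = x1 T (bt K i t) := by
  simp only [ev, UN.x1, x1, bt_zero]

theorem ev_y2 (t : ℕ) : ev T i (UN.y2 t) = y2 T (bt K i t) := by
  simp only [ev, UN.y2, y2, bt_zero]

theorem ev_x2 (t : ℕ) : ev T i (UN.x2 t) = x2 T (bt K i t) := by
  simp only [ev, UN.x2, x2, bt_zero]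

theorem ev_x3 (t : ℕ) : ev T i (UN.x3 t) = x3 T (bt K i t) := by
  simp only [ev, UN.x3, x3, bt_zero]

theorem ev_y4 (t : ℕ) : ev T i (UN.y4 t) = y4 T (bt K i t) := by
  simp only [ev, UN.y4, y4, bt_zero]

theorem ev_x4 (t : ℕ) : ev T i (UN.x4 t) = x4 T (bt K i t) := by
  simp only [ev, UN.x4, x4, bt_zero]

theorem ev_x5 (t : ℕ) : ev T i (UN.x5 t) = x5 T (bt K i t) := by
  simp only [ev, UN.x5, x5, bt_zero]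

theorem ev_y6 (t : ℕ) : ev T i (UN.y6 t) = y6 T (bt K i t) := by
  simp only [ev, UN.y6, y6, bt_zero]

theorem ev_x6 (t : ℕ) : ev T i (UN.x6 t) = x6 T (bt K i t) := by
  simp only [ev, UN.x6, x6, bt_zero]

theorem ev_x7 (t : ℕ) : ev T i (UN.x7 t) = x7 T (bt K i t) := by
  simp only [ev, UN.x7, x7, bt_zero]

theorem ev_y8 (t : ℕ) : ev T i (UN.y8 t) = y8 T (bt K i t) := by
  simp only [ev, UN.y8, y8, bt_zero]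

theorem ev_x8 (t : ℕ) : ev T i (UN.x8 t) = x8 T (bt K i t) := by
  simp only [ev, UN.x8, x8, bt_zero]

theorem ev_gen (j : Fin 12) (t : ℕ) : ev T i (UN.gen j t) = gen T j (bt K i t) := by
  fin_cases j
  exacts [ev_x1 t, ev_y2 t, ev_x2 t, ev_x3 t, ev_y4 t, ev_x4 t, ev_x5 t, ev_y6 t, ev_x6 t, ev_x7 t, ev_y8 t, ev_x8 t]

theorem pick_bool : ∀ b0 b1 b2 b3 b4 b5 b6 b7 b8 b9 : Bool,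
    let i := b0.toNat + 2 * b1.toNat + 4 * b2.toNat + 8 * b3.toNat + 16 * b4.toNat +
      32 * b5.toNat + 64 * b6.toNat + 128 * b7.toNat + 256 * b8.toNat + 512 * b9.toNat
    UN.e.testBit i = true ∧ UN.p0.testBit i = b0 ∧ UN.p1.testBit i = b1 ∧ UN.p2.testBit i = b2 ∧ UN.p3.testBit i = b3 ∧ UN.p4.testBit i = b4 ∧ UN.p5.testBit i = b5 ∧ UN.p6.testBit i = b6 ∧ UN.p7.testBit i = b7 ∧ UN.p8.testBit i = b8 ∧ UN.p9.testBit i = b9 := by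
  decide +kernel

theorem pick (hq : ∀ t : K, t = 0 ∨ t = 1) (c0 c1 c2 c3 c4 c5 c6 c7 c8 c9 : K) : ∃ i,
    bt K i UN.e = 1 ∧ bt K i UN.p0 = c0 ∧ bt K i UN.p1 = c1 ∧ bt K i UN.p2 = c2 ∧ bt K i UN.p3 = c3 ∧ bt K i UN.p4 = c4 ∧ bt K i UN.p5 = c5 ∧ bt K i UN.p6 = c6 ∧ bt K i UN.p7 = c7 ∧ bt K i UN.p8 = c8 ∧ bt K i UN.p9 = c9 := by
  have key : ∀ c : K, ∃ b : Bool, ∀ i m : ℕ, m.testBit i = b → bt K i m = c := fun c => by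
    rcases hq c with rfl | rfl
    exacts [⟨false, fun i m h => by simp [bt, h]⟩, ⟨true, fun i m h => by simp [bt, h]⟩]
  choose b hb using key
  obtain ⟨h, h0, h1, h2, h3, h4, h5, h6, h7, h8, h9⟩ :=
    pick_bool (b c0) (b c1) (b c2) (b c3) (b c4) (b c5) (b c6) (b c7) (b c8) (b c9)
  exact ⟨_, by simp only [bt, h, if_true], hb _ _ _ h0, hb _ _ _ h1, hb _ _ _ h2, hb _ _ _ h3, hb _ _ _ h4, hb _ _ _ h5, hb _ _ _ h6, hb _ _ _ h7, hb _ _ _ h8, hb _ _ _ h9⟩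

/-- Conversion of words to the model. -/
macro "o8ev" loc:(Lean.Parser.Tactic.location)? : tactic =>
  `(tactic| simp only [ev_mul, ev_inv, ev_w8, ev_sm, ev_cm, ev_gen, bt_zero, ev_x1, ev_y2, ev_x2, ev_x3, ev_y4, ev_x4, ev_x5, ev_y6, ev_x6, ev_x7, ev_y8, ev_x8] $(loc)?)

end Cfsg.Agent.H15.O8
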