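import Mathlib
import Cfsg.Agent.H15.O8N

/-! The field with two elements: the new root elements satisfy the commutator relations. -/

set_option autoImplicit false
set_option linter.unusedSimpArgs false
set_option linter.unnecessarySeqFocus false
set_option linter.unusedSectionVars false
set_option maxRecDepth 100000

namespace Cfsg.Agent.H15.O8

open Cfsg.Agent.H39 Cfsg.Agent.H83 Subgroup
open scoped commutatorElement

namespace UN

/-- New root element. -/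
def Y8 : UN := y8 e * (y4 p0 * x4 p1)

/-- New root element. -/
def Y4 : UN := y4 e * x4 p2

/-- New root element. -/
def Y6 : UN := x4 p3 * x5 p4 * y6 e * x6 p5

/-- The new root elements. -/
def pr (i : Fin 12) : UN :=
  ![(Y6.cm Y8).w8, Y6.w8, Y6.w8 * Y6.w8, Y4.cm Y6.w8, Y4, Y4 * Y4, Y4.cm Y6, Y6, Y6 * Y6,
    Y6.cm Y8, Y8, Y8 * Y8] i

/-- The normal form in the new root elements. -/
def Φ (w : UN) : UN :=
  sm w.a1 (pr 0) * sm w.b2 (pr 1) * sm w.a2 (pr 2) * sm w.a3 (pr 3) * sm w.b4 (pr 4) *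
    sm w.a4 (pr 5) * sm w.a5 (pr 6) * sm w.b6 (pr 7) * sm w.a6 (pr 8) * sm w.a7 (pr 9) *
    sm w.b8 (pr 10) * sm w.a8 (pr 11)

/-- First test word. -/
def wA (a b c d : UN) : UN := (a * a).cm d * b.cm a * b.cm c * (c * c)

/-- Second test word. -/
def wB (a b c d : UN) : UN := a.cm d * b * c

/-- First condition. -/
def D1 : ℕ := df (wA Y8 Y6 Y4 Y6.w8) (x1 0)

/-- Second condition. -/
def D2 : ℕ := df (wB Y8 Y6 Y4 Y6.w8) (sm (wB Y6.w8 Y4 Y6 Y8).a4 (Y6 * Y6))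

theorem t1 : df (wA Y6.w8 Y4 Y6 Y8) (x1 0) = 0 := by decide +kernel

theorem t2 : df (wB Y6.w8 Y4 Y6 Y8) (sm (wB Y6.w8 Y4 Y6 Y8).a4 (Y4 * Y4)) ||| D1 = D1 := by
  decide +kernel

theorem t3 : ∀ i j : Fin 12, i ≤ j → df (sm p7 (pr j) * sm p6 (pr i)) (Φ (gen j p7 * gen i p6)) |||
    (D1 ||| D2) = D1 ||| D2 := by
  decide +kernel

theorem t4 : df (Y6.cm Y4) (Y4.cm Y6) = 0 := by decide +kernel

theorem t5 : ∀ k : Fin 12, k < 10 → (pr k).b8 = 0 ∧ (pr k).a8 = 0 ∧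
    df (pr k).w8 (pr (![9, 7, 8, 6, 4, 5, 3, 1, 2, 0, 0, 0] k)) = 0 := by
  decide +kernel

theorem t6 : df (Y4 * Y4) (x4 e) = 0 := by decide +kernel

end UN

variable {K : Type*} [Field K] {T : Tits K} {G : Type*} [Group G]

/-- The new root elements. -/
def Pr (a b c : U T) (k : Fin 12) : U T :=
  ![w8 ⁅b, c⁆, w8 b, w8 b * w8 b, ⁅a, w8 b⁆, a, a * a, ⁅a, b⁆, b, b * b, ⁅b, c⁆, c, c * c] k

theorem ev_pr (i : ℕ) (k : Fin 12) :
    ev T i (UN.pr k) = Pr (ev T i UN.Y4) (ev T i UN.Y6) (ev T i UN.Y8) k := by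
  fin_cases k <;> simp [UN.pr, Pr, ev_mul, ev_w8, ev_cm]

theorem ev_of_df {i : ℕ} {g k : UN} (h : g.df k = 0) : ev T i g = ev T i k := by
  rw [ev_eq_iff, h, Nat.zero_testBit]

theorem x1_zero : x1 T 0 = 1 := rfl

open H75.O8 in
theorem nf' (g : U T) : g = gen T 0 (coordEquiv g 0) * gen T 1 (coordEquiv g 1) *
    gen T 2 (coordEquiv g 2) * gen T 3 (coordEquiv g 3) * gen T 4 (coordEquiv g 4) *
    gen T 5 (coordEquiv g 5) * gen T 6 (coordEquiv g 6) * gen T 7 (coordEquiv g 7) *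
    gen T 8 (coordEquiv g 8) * gen T 9 (coordEquiv g 9) * gen T 10 (coordEquiv g 10) *
    gen T 11 (coordEquiv g 11) := by
  rw [gen0, gen1, gen2, gen3, gen4, gen5, gen6, gen7, gen8, gen9, gen10, gen11]
  generalize e : coordEquiv g = c
  have : ∀ k, c k = coordEquiv g k := fun k => by rw [e]
  rw [show c 0 = g.a1 from this 0, show c 1 = g.b2 from this 1, show c 2 = g.a2 from this 2,
    show c 3 = g.a3 from this 3, show c 4 = g.b4 from this 4, show c 5 = g.a4 from this 5,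
    show c 6 = g.a5 from this 6, show c 7 = g.b6 from this 7, show c 8 = g.a6 from this 8,
    show c 9 = g.a7 from this 9, show c 10 = g.b8 from this 10, show c 11 = g.a8 from this 11]
  exact nf g

theorem gen_zero (k : Fin 12) : gen T k 0 = 1 := by
  rw [gen, Pi.single_zero]; rfl

theorem sub_ind {H : Subgroup (U T)} {P : U T → Prop}
    (hm : ∀ u ∈ H, ∀ v ∈ H, P u → P v → P (u * v)) (u : U T)
    (h : ∀ k : Fin 12, gen T k (coordEquiv u k) ∈ H ∧ P (gen T k (coordEquiv u k))) : P u := by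
  have hm' : ∀ {u v}, u ∈ H ∧ P u → v ∈ H ∧ P v → u * v ∈ H ∧ P (u * v) :=
    fun h1 h2 => ⟨mul_mem h1.1 h2.1, hm _ h1.1 _ h2.1 h1.2 h2.2⟩
  rw [nf' u]
  exact (hm' (hm' (hm' (hm' (hm' (hm' (hm' (hm' (hm' (hm' (hm' (h 0) (h 1)) (h 2)) (h 3)) (h 4))
    (h 5)) (h 6)) (h 7)) (h 8)) (h 9)) (h 10)) (h 11)).2

theorem E_ind {P : U T → Prop} (hm : ∀ u ∈ E T, ∀ v ∈ E T, P u → P v → P (u * v))
    (h : ∀ k : Fin 12, 0 < k → ∀ t, P (gen T k t)) (u : U T) (hu : u ∈ E T) : P u := by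
  refine sub_ind hm u fun k => ?_
  rcases H75.O8.fin12 k with rfl | rfl | rfl | rfl | rfl | rfl | rfl | rfl | rfl | rfl | rfl | rfl
  · rw [show coordEquiv u 0 = 0 from hu, gen_zero, ← gen_zero 1]
    exact ⟨rfl, h _ (by decide) _⟩
  all_goals exact ⟨rfl, h _ (by decide) _⟩

theorem Q_ind {P : U T → Prop} (hm : ∀ u ∈ Q T, ∀ v ∈ Q T, P u → P v → P (u * v))
    (h : ∀ k : Fin 12, k < 10 → ∀ t, P (gen T k t)) (u : U T) (hu : u ∈ Q T) : P u := by
  refine sub_ind hm u fun k => ?_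
  rcases H75.O8.fin12 k with rfl | rfl | rfl | rfl | rfl | rfl | rfl | rfl | rfl | rfl | rfl | rfl
  rotate_right 2
  · rw [show coordEquiv u 10 = 0 from hu.1, gen_zero, ← gen_zero 1]
    exact ⟨⟨rfl, rfl⟩, h _ (by decide) _⟩
  · rw [show coordEquiv u 11 = 0 from hu.2, gen_zero, ← gen_zero 1]
    exact ⟨⟨rfl, rfl⟩, h _ (by decide) _⟩
  all_goals exact ⟨⟨rfl, rfl⟩, h _ (by decide) _⟩

open H75.O8 in
theorem w1_gen (k : Fin 12) (hk : 0 < k) (t : K) :
    w1 (gen T k t) = gen T (![0, 10, 11, 9, 7, 8, 6, 4, 5, 3, 1, 2] k) t := by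
  rcases fin12 k with rfl | rfl | rfl | rfl | rfl | rfl | rfl | rfl | rfl | rfl | rfl | rfl <;>
    first | exact absurd hk (by decide) | (simp only [Matrix.cons_val, gen1, gen2, gen3, gen4,
      gen5, gen6, gen7, gen8, gen9, gen10, gen11]; o8s)

open H75.O8 in
theorem w8_gen (k : Fin 12) (hk : k < 10) (t : K) :
    w8 (gen T k t) = gen T (![9, 7, 8, 6, 4, 5, 3, 1, 2, 0, 0, 0] k) t := by
  rcases fin12 k with rfl | rfl | rfl | rfl | rfl | rfl | rfl | rfl | rfl | rfl | rfl | rfl <;>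
    first | exact absurd hk (by decide) | (simp only [Matrix.cons_val, gen0, gen1, gen2, gen3,
      gen4, gen5, gen6, gen7, gen8, gen9]; o8s)

theorem w8_one : w8 (1 : U T) = 1 := by ext <;> simp [w8]

theorem inj_of_x4 [Finite K] (hq : ∀ t : K, t = 0 ∨ t = 1) (f : U T →* G) (h : f (x4 T 1) ≠ 1) :
    Function.Injective f := by
  rw [← MonoidHom.ker_eq_bot_iff]
  by_contra h1
  obtain ⟨⟨z, hz, hc⟩, h0⟩ := ne_bot_iff_exists_ne_one.1 (inf_centralizer_ne_bot (P := ⊤)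
    (isPGroup_U.to_subgroup _) (isPGroup_U.to_subgroup _) (normalizer_eq_top _).ge h1)
  have e := eq_x4 (cQ z fun u _ => (hc u (mem_top u)).symm)
  rcases hq z.a4 with h2 | h2 <;> rw [h2] at e
  exacts [h0 (Subtype.ext e), h (e ▸ hz)]

/-- Two elements are interchanged. -/
def Sw (φ : U T →* G) (n : G) (a b : U T) : Prop := n * φ a * n = φ b

section
variable {φ : U T →* G} {n : G} (hn : n * n = 1) {a b c d : U T}
include hn

theorem Sw.one : Sw φ n 1 1 := by simp [Sw, hn]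

theorem Sw.mul (h : Sw φ n a b) (h' : Sw φ n c d) : Sw φ n (a * c) (b * d) := by
  rw [Sw, map_mul, map_mul, ← h, ← h']
  calc _ = n * φ a * (n * n) * φ c * n := by rw [hn]; group
    _ = _ := by group

theorem Sw.symm (h : Sw φ n a b) : Sw φ n b a := by
  rw [Sw, ← h]
  calc _ = (n * n) * φ a * (n * n) := by group
    _ = _ := by rw [hn]; group

theorem Sw.inv (h : Sw φ n a b) : Sw φ n a⁻¹ b⁻¹ := by
  rw [Sw, map_inv, map_inv, ← h, mul_inv_rev, mul_inv_rev, inv_eq_of_mul_eq_one_right hn, mul_assoc]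

theorem Sw.cm (h : Sw φ n a b) (h' : Sw φ n c d) : Sw φ n ⁅a, c⁆ ⁅b, d⁆ :=
  (((h.mul hn h').mul hn (h.inv hn)).mul hn (h'.inv hn))

theorem Sw.sm {t : K} (ht : t = 0 ∨ t = 1) (h : Sw φ n a b) : Sw φ n (smU T t a) (smU T t b) := by
  rcases ht with rfl | rfl
  exacts [by simpa using Sw.one hn, by simpa using h]

end

theorem core [Finite K] (hq : ∀ t : K, t = 0 ∨ t = 1) {φ : U T →* G} (hφ : Function.Injective φ)
    {n : G} (hn : n * n = 1) {c0 c1 c2 c3 c4 c5 : K} {a b c : U T} (ha : a = y4 T 1 * x4 T c2)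
    (hb : b = x4 T c3 * x5 T c4 * y6 T 1 * x6 T c5) (hc : c = y8 T 1 * (y4 T c0 * x4 T c1))
    (h46 : Sw φ n a b) (h28 : Sw φ n (w8 b) c) :
    ∃ f : U T →* U T, Function.Injective f ∧ f (y8 T 1) = c ∧ f (x1 T 1) = w8 ⁅b, c⁆ ∧
      (∀ u ∈ E T, Sw φ n (f u) (f (w1 u))) ∧ ∀ u ∈ Q T, f u ∈ Q T ∧ w8 (f u) = f (w8 u) := by
  have key : ∀ t u : K, ∃ i, bt K i UN.e = 1 ∧ bt K i UN.p6 = t ∧ bt K i UN.p7 = u ∧
      ev T i UN.Y4 = a ∧ ev T i UN.Y6 = b ∧ ev T i UN.Y8 = c := fun t u => by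
    obtain ⟨i, e, e0, e1, e2, e3, e4, e5, e6, e7, -⟩ := pick hq c0 c1 c2 c3 c4 c5 t u 0 0
    refine ⟨i, e, e6, e7, ?_, ?_, ?_⟩ <;> simp only [UN.Y4, UN.Y6, UN.Y8] <;> o8ev <;> simp only [*]
  have uq : ∀ {a b c : U T}, Sw φ n a b → Sw φ n a c → b = c := fun h h' => hφ (Eq.trans (Eq.symm h) h')
  have h64 := h46.symm hn
  have h82 := h28.symm hn
  have hD : ∀ i, ev T i UN.Y4 = a → ev T i UN.Y6 = b → ev T i UN.Y8 = c →
      (UN.D1 ||| UN.D2).testBit i = false := fun i e4 e6 e8 => by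
    have d1 : UN.D1.testBit i = false := by
      have := ev_of_df (T := T) (i := i) UN.t1
      rw [UN.D1, ← ev_eq_iff (T := T)]
      simp only [UN.wA] at this ⊢
      o8ev at this ⊢
      rw [e4, e6, e8, x1_zero] at this ⊢
      refine uq ?_ (Sw.one hn)
      rw [← this]
      exact ((((h28.mul hn h28).cm hn h82).mul hn (h46.cm hn h28)).mul hn (h46.cm hn h64)).mul hn
        (h64.mul hn h64)
    refine bit_or d1 ?_
    have := (ev_eq_iff (T := T) _ _).2 (bit_sub UN.t2 d1)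
    rw [UN.D2, ← ev_eq_iff (T := T)]
    rw [ev_sm] at this ⊢
    generalize bt K i (UN.wB UN.Y6.w8 UN.Y4 UN.Y6 UN.Y8).a4 = s at this ⊢
    rw [UN.wB] at this ⊢
    o8ev at this ⊢
    rw [e4, e6, e8] at this ⊢
    refine uq ?_ ((h46.mul hn h46).sm hn (hq _))
    rw [← this]
    exact (((h28.cm hn h82).mul hn h46).mul hn h64)
  have h0 : ∀ k, smU T 0 (Pr a b c k) = 1 := fun k => smU_zero _
  have hr : ∀ i j, i ≤ j → ∀ t u, smU T u (Pr a b c j) * smU T t (Pr a b c i) =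
      Φ (fun k t => smU T t (Pr a b c k)) (gen T j u * gen T i t) := fun i j hij t u => by
    obtain ⟨k, -, rfl, rfl, e4, e6, e8⟩ := key t u
    have := (ev_eq_iff (T := T) _ _).2 (bit_sub (UN.t3 i j hij) (hD k e4 e6 e8))
    simp only [UN.Φ, ev_mul, ev_sm, ev_pr, e4, e6, e8] at this
    rw [this, ← ev_gen, ← ev_gen, ← ev_mul]
    simp only [Φ, ev]
  obtain ⟨i, e, -, -, e4, e6, e8⟩ := key 0 0
  have fg := H75.O8.liftHom_gen h0 hr
  refine ⟨H75.O8.liftHom h0 hr, inj_of_x4 hq _ ?_, (fg 10 1).trans (smU_one _),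
    (fg 0 1).trans (smU_one _), E_ind ?_ ?_, Q_ind ?_ ?_⟩
  · have := ev_of_df (T := T) (i := i) UN.t6
    o8ev at this
    rw [e4, e] at this
    rw [← H75.O8.gen5, fg, smU_one, show Pr a b c 5 = a * a from rfl, this]
    exact fun h => one_ne_zero (congrArg U.a4 h)
  · intro u hu v hv h1 h2
    rw [w1_mul hu hv, map_mul, map_mul]
    exact h1.mul hn h2
  · intro k hk t
    have := ev_of_df (T := T) (i := i) UN.t4
    o8ev at this
    rw [e4, e6] at this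
    rw [w1_gen k hk, fg, fg]
    refine Sw.sm hn (hq t) ?_
    fin_cases k
    exacts [absurd hk (by decide), h28, h28.mul hn h28, h46.cm hn h28, h46, h46.mul hn h46,
      (h46.cm hn h64).trans (congrArg φ this), h64, h64.mul hn h64, h64.cm hn h82, h82, h82.mul hn h82]
  · intro u hu v hv h1 h2
    rw [w8_mul hu hv, map_mul, map_mul, w8_mul h1.1 h2.1, h1.2, h2.2]
    exact ⟨mul_mem h1.1 h2.1, rfl⟩
  · intro k hk t
    obtain ⟨q1, q2, q3⟩ := UN.t5 k hk
    have := ev_of_df (T := T) (i := i) q3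
    rw [ev_w8, ev_pr, ev_pr, e4, e6, e8] at this
    rw [w8_gen k hk, fg, fg]
    rcases hq t with rfl | rfl
    · simp [w8_one, one_mem]
    rw [smU_one, smU_one, this, ← e4, ← e6, ← e8, ← ev_pr]
    exact ⟨⟨by simp only [ev, q1, bt_zero], by simp only [ev, q2, bt_zero]⟩, rfl⟩

end Cfsg.Agent.H15.O8
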