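import Mathlib
import Cfsg.Agent.H15.O8Q1

/-! The field with two elements: normalisation of the apartment. -/

set_option autoImplicit false
set_option linter.unusedSimpArgs false
set_option linter.unnecessarySeqFocus false
set_option linter.unusedSectionVars false
set_option maxRecDepth 100000

namespace Cfsg.Agent.H15.O8

open Cfsg.Agent.H39 Cfsg.Agent.H83 Subgroup
open scoped commutatorElement

namespace UN

/-- The generic element of `Q`. -/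
def gq : UN := ⟨p0, p1, p2, p3, p4, p5, p6, p7, p8, p9, 0, 0⟩

/-- The rank one relation tested on an element. -/
def rt (v : UN) : ℕ := df (y8 e * v.w8 * (y8 e)⁻¹).w8
  (y8 p0 * x8 p1 * (y8 p2 * x8 p3 * v * (y8 p2 * x8 p3)⁻¹).w8 * (y8 p0 * x8 p1)⁻¹)

theorem s1 : (df (y8 p0 * x8 p1) (y8 e) ||| df (y8 p2 * x8 p3) (x8 e)) |||
    (rt (x1 e) ||| rt (y2 e) ||| rt (x6 e)) = rt (x1 e) ||| rt (y2 e) ||| rt (x6 e) := by
  decide +kernel

theorem s2 : df gq (y4 p4 * x4 p5) ||| df (x8 e * gq * (x8 e)⁻¹).w8 gq =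
    df (x8 e * gq * (x8 e)⁻¹).w8 gq := by
  decide +kernel

theorem s3 : df gq (y4 e * x4 p5) ||| (df (gq * x8 e) (x8 e * gq) |||
    df (gq.w8 * x8 e) (x8 e * gq.w8) ||| df (gq * gq) (x4 e)) = df (gq * x8 e) (x8 e * gq) |||
    df (gq.w8 * x8 e) (x8 e * gq.w8) ||| df (gq * gq) (x4 e) := by
  decide +kernel

theorem s4 : df gq (x4 p5 * x5 p6 * y6 e * x6 p8) ||| (df (gq * x8 e) (x8 e * gq) |||
    df (gq * (gq * gq).w8) ((gq * gq).w8 * gq) ||| df (gq * gq) (x4 (gq * gq).a4 * x6 e)) =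
    df (gq * x8 e) (x8 e * gq) ||| df (gq * (gq * gq).w8) ((gq * gq).w8 * gq) |||
    df (gq * gq) (x4 (gq * gq).a4 * x6 e) := by
  decide +kernel

end UN

variable {K : Type*} [Field K] {T : Tits K} {G : Type*} [Group G]

theorem eq01 (hq : Nat.card K = 2) (t : K) : t = 0 ∨ t = 1 := by
  obtain ⟨y, -, h⟩ := (Nat.card_eq_two_iff' (0 : K)).1 hq
  by_cases h0 : t = 0
  exacts [Or.inl h0, Or.inr ((h t h0).trans (h 1 one_ne_zero).symm)]

section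
variable (hq : ∀ t : K, t = 0 ∨ t = 1)
include hq

theorem unit_one (c : Kˣ) : c = 1 := Units.ext ((hq c).resolve_left c.ne_zero)

theorem exists_gq {v : U T} (hv : v ∈ Q T) : ∃ i, bt K i UN.e = 1 ∧ bt K i UN.p4 = v.b4 ∧
    bt K i UN.p5 = v.a4 ∧ bt K i UN.p6 = v.a5 ∧ bt K i UN.p8 = v.a6 ∧ ev T i UN.gq = v := by
  obtain ⟨i, e, e0, e1, e2, e3, e4, e5, e6, e7, e8, e9⟩ :=
    pick hq v.a1 v.b2 v.a2 v.a3 v.b4 v.a4 v.a5 v.b6 v.a6 v.a7
  exact ⟨i, e, e4, e5, e6, e8,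
    U.ext e0 e1 e2 e3 e4 e5 e6 e7 e8 e9 (bt_zero.trans hv.1.symm) (bt_zero.trans hv.2.symm)⟩

theorem fix5 {v : U T} (hv : v ∈ Q T) (h : w8 (x8 T 1 * v * (x8 T 1)⁻¹) = v) :
    v = y4 T v.b4 * x4 T v.a4 := by
  obtain ⟨i, e, e4, e5, -, -, e'⟩ := exists_gq hq hv
  have := (ev_eq_iff (T := T) (i := i) _ _).2 (bit_sub UN.s2 ((ev_eq_iff (T := T) _ _).1 (by
    o8ev; rwa [e, e'])))
  o8ev at this
  rwa [e', e4, e5] at this

theorem form4 {v : U T} (hv : v ∈ Q T) (h1 : v * x8 T 1 = x8 T 1 * v)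
    (h2 : w8 v * x8 T 1 = x8 T 1 * w8 v) (h3 : v * v = x4 T 1) : v = y4 T 1 * x4 T v.a4 := by
  obtain ⟨i, e, -, e5, -, -, e'⟩ := exists_gq hq hv
  have := (ev_eq_iff (T := T) (i := i) _ _).2 (bit_sub UN.s3 (bit_or (bit_or
    ((ev_eq_iff (T := T) _ _).1 (by o8ev; rwa [e, e']))
    ((ev_eq_iff (T := T) _ _).1 (by o8ev; rwa [e, e'])))
    ((ev_eq_iff (T := T) _ _).1 (by o8ev; rwa [e, e']))))
  o8ev at this
  rwa [e', e, e5] at this

theorem form6 {v : U T} (hv : v ∈ Q T) (h1 : v * x8 T 1 = x8 T 1 * v)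
    (h2 : v * w8 (v * v) = w8 (v * v) * v) (h3 : v * v = x4 T (v * v).a4 * x6 T 1) :
    v = x4 T v.a4 * x5 T v.a5 * y6 T 1 * x6 T v.a6 := by
  obtain ⟨i, e, -, e5, e6, e8, e'⟩ := exists_gq hq hv
  have e0 : bt K i (UN.gq * UN.gq).a4 = (v * v).a4 := by rw [← e', ← ev_mul]; rfl
  have := (ev_eq_iff (T := T) (i := i) _ _).2 (bit_sub UN.s4 (bit_or (bit_or
    ((ev_eq_iff (T := T) _ _).1 (by o8ev; rwa [e, e']))
    ((ev_eq_iff (T := T) _ _).1 (by o8ev; rwa [e'])))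
    ((ev_eq_iff (T := T) _ _).1 (by o8ev; rwa [e, e', e0]))))
  o8ev at this
  rwa [e', e, e5, e6, e8] at this

theorem CF.mem_S (F : CF T G) {g : G} (hg : g ∈ F.B) : ∃ u, g = F.φ u := by
  obtain ⟨u, c, rfl⟩ := (F.mem_B g).1 hg
  exact ⟨u, by rw [unit_one hq c, map_one, mul_one]⟩

omit hq in
theorem CF.act (F : CF T G) (a b : U T) {v : U T} (hv : v ∈ Q T) :
    F.φ a * F.n * F.φ b * F.φ v * (F.φ a * F.n * F.φ b)⁻¹ = F.φ (a * w8 (b * v * b⁻¹) * a⁻¹) := by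
  rw [map_mul, map_mul, ← F.n_conj (O8.nQ.conj_mem v hv b), map_mul, map_mul, map_inv, map_inv]
  group

theorem CF.rel (F : CF T G) :
    F.n * F.φ (y8 T 1) * F.n = F.φ (y8 T 1) * F.n * (F.φ (y8 T 1) * F.φ (y8 T 1)) := by
  obtain ⟨a, ha, b, hb, c, h⟩ := F.rk (y8 T 1) (by o8s) fun h => one_ne_zero (congrArg U.b8 h)
  rw [unit_one hq c, map_one, mul_one] at h
  have ea : y8 T a.b8 * x8 T a.a8 = a := by revert ha; o8s; simp +contextual
  have eb : y8 T b.b8 * x8 T b.a8 = b := by revert hb; o8s; simp +contextual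
  obtain ⟨i, e, e0, e1, e2, e3, -⟩ := pick hq a.b8 a.a8 b.b8 b.a8 0 0 0 0 0 0
  have key : ∀ v : UN, ev T i v ∈ Q T → (UN.rt v).testBit i = false := fun v hv => by
    rw [UN.rt, ← ev_eq_iff (T := T)]
    o8ev
    rw [e, e0, e1, e2, e3, ea, eb]
    refine F.inj ?_
    rw [← F.act a b hv, ← h, ← F.n_conj (O8.nQ.conj_mem _ (w8_mem _) _), map_mul, map_mul, map_inv,
      ← F.n_conj hv]
    group
  have := bit_sub UN.s1 (bit_or (bit_or (key _ (by o8ev; o8s)) (key _ (by o8ev; o8s)))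
    (key _ (by o8ev; o8s)))
  rw [Nat.testBit_or, Bool.or_eq_false_iff, ← ev_eq_iff (T := T), ← ev_eq_iff (T := T)] at this
  o8ev at this
  rw [e, e0, e1, e2, e3, ea, eb] at this
  rw [h, this.1, this.2, ← map_mul, show y8 T 1 * y8 T 1 = x8 T 1 by o8s; o8ring T]

end

theorem f20 {n y : G} (hn : n * n = 1) (hy : y * y * (y * y) = 1) (h : n * y * n = y * n * (y * y)) :
    (n * (y * y)) ^ 5 = 1 ∧ y * (n * (y * y)) ^ 2 * y⁻¹ = n * (y * y) := by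
  have hn' : n⁻¹ = n := inv_eq_of_mul_eq_one_right hn
  have e3 : y⁻¹ = y * (y * y) := inv_eq_of_mul_eq_one_right (by rw [← hy]; group)
  have h' : n * y⁻¹ * n = y⁻¹ * y⁻¹ * n * y⁻¹ := by
    simpa [hn', mul_assoc] using congrArg Inv.inv h
  have h2 : (n * (y * y)) ^ 2 = y⁻¹ * n * y⁻¹ := by
    calc _ = n * y * (n * n) * y * n * (y * y) := by rw [hn, sq]; group
      _ = (n * y * n) * (n * y * n) * (y * y) := by group
      _ = y * (n * (y * (y * y)) * n) * (y * y * (y * y)) := by rw [h]; group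
      _ = _ := by rw [hy, ← e3, h']; group
  have h3 : y * (n * (y * y)) ^ 2 * y⁻¹ = n * (y * y) := by
    rw [h2]
    calc _ = n * (y * y) * (y * y * (y * y))⁻¹ := by group
      _ = _ := by rw [hy]; group
  refine ⟨?_, h3⟩
  calc _ = (n * (y * y)) ^ 2 * (n * (y * y)) ^ 2 * (n * (y * y)) := by
        rw [← pow_add, ← pow_succ]
    _ = y⁻¹ * n * y⁻¹ * y⁻¹ * (n * y⁻¹ * n) * (y * y) := by rw [h2]; group
    _ = y⁻¹ * (n * (y * y * (y * y))⁻¹ * n) * y := by rw [h']; group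
    _ = 1 := by rw [hy, inv_one, mul_one, hn]; group

theorem conj_of_five [Finite G] {N : Subgroup G} (hN : IsPGroup 2 N) {f f' : G}
    (hf : f ∈ normalizer (N : Set G)) (h5 : f ^ 5 = 1) (h5' : f' ^ 5 = 1) (h : f' * f⁻¹ ∈ N) :
    ∃ q ∈ N, q * f' * q⁻¹ = f := by
  have : Fact (Nat.Prime 5) := ⟨by norm_num⟩
  have hz : zpowers f ≤ normalizer (N : Set G) := zpowers_le.2 hf
  have key : ∀ {P : Subgroup G} {x : G}, IsPGroup 5 P → x ∈ N → x ∈ P → x = 1 := fun hP h1 h2 =>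
    disjoint_def.1 (IsPGroup.disjoint_of_ne 2 5 (by norm_num) _ _ hN hP) h1 h2
  have p5 : ∀ {x : G}, x ^ 5 = 1 → IsPGroup 5 (zpowers x) := fun h =>
    isPGroup_zpowers (k := 1) (by simpa using h)
  obtain ⟨S, hS, hle⟩ := exists_isSylowIn_ge (H := N ⊔ zpowers f) le_sup_right (p5 h5)
  have hf' : f' ∈ N ⊔ zpowers f := by simpa using mul_mem_sup h (mem_zpowers f)
  obtain ⟨g, hg, h1⟩ := hS.exists_conj_le (zpowers_le.2 hf') (p5 h5')
  obtain ⟨a, ha, q, hq, rfl⟩ := (mem_sup_left_norm' hz).1 hg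
  refine ⟨q, hq, mul_inv_eq_one.1 (key hS.isPGroup ?_ (mul_mem ?_ (inv_mem (hle (mem_zpowers f)))))⟩
  · convert mul_mem hq (mul_mem (conj_mem (sup_le le_normalizer hz) hf' (inv_mem hq)) h) using 1
    group
  · convert conj_mem' le_normalizer (hle ha) (h1 (conj_mem_cj (mem_zpowers f'))) using 1
    group

/-- Congruence modulo a subgroup. -/
def Cg (N : Subgroup G) (a b : G) : Prop := a * b⁻¹ ∈ N

theorem Cg.mul {N : Subgroup G} {a a' b b' : G} (ha : a ∈ normalizer (N : Set G)) (h : Cg N a a')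
    (h' : Cg N b b') : Cg N (a * b) (a' * b') := by
  have := mul_mem ((mem_normalizer_iff.1 ha _).1 h') h
  simpa [Cg, mul_assoc] using this

theorem Cg.conj {N : Subgroup G} {a b q : G} (hb : b ∈ normalizer (N : Set G)) (hq : q ∈ N)
    (h : Cg N a b) : Cg N a (q * b * q⁻¹) := by
  have := mul_mem (mul_mem h ((mem_normalizer_iff.1 hb _).1 hq)) (inv_mem hq)
  simpa [Cg, mul_assoc] using this

/-- The apartment in terms of elements. -/
structure AD (C Q W : Subgroup G) (τ n1 n8 : G) (P : Subgroup G) : Prop where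
  cτ : ∀ g, g ∈ C ↔ g * τ = τ * g
  n1n1 : n1 * n1 = 1
  n8n8 : n8 * n8 = 1
  braid : (n1 * n8) ^ 8 = 1
  n1W : n1 ∈ normalizer (W : Set G)
  n1C : n1 ∉ C
  n8C : n8 ∈ C
  n8W : n8 ∉ normalizer (W : Set G)
  n8C' : n8 ∈ cj ((n1 * n8) ^ 4) C
  card : 4 ≤ Nat.card P
  PC : ∀ j ≤ 4, P ≤ cj ((n1 * n8) ^ j) C
  PW : ∀ j ≤ 3, P ≤ cj ((n1 * n8) ^ j) (normalizer (W : Set G))
  three : ∀ g ∈ C, g ∈ normalizer (W : Set G) →
    g ∈ cj ((n1 * n8) ^ 4) (normalizer (W : Set G)) → g ≠ 1 → (n1 * g) ^ 3 = 1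
  triv : ∀ g ∈ Q, g ∈ cj ((n1 * n8) ^ 4) C → g = 1

variable [Finite K] [Finite G] {F : CF T G} {n1 n8 : G} {P : Subgroup G}

theorem CF.cjφ_C (F : CF T G) (v : U T) : (F.cj (F.φ v)).C = F.C :=
  (F.cj_C _).trans (cj_eq_self (le_normalizer (F.φ_mem v)))

theorem CF.cjφ_Q (F : CF T G) (v : U T) : (F.cj (F.φ v)).s (Q T) = F.s (Q T) :=
  (F.cj_s _ _).trans (cj_eq_self (F.nQ (F.φ_mem v)))

theorem AD.cjφ (h : AD F.C (F.s (Q T)) (F.s (W T)) (F.φ (x4 T 1)) n1 n8 P) (v : U T) :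
    AD (F.cj (F.φ v)).C ((F.cj (F.φ v)).s (Q T)) ((F.cj (F.φ v)).s (W T))
      ((F.cj (F.φ v)).φ (x4 T 1)) n1 n8 P := by
  rwa [F.cjφ_C, F.cjφ_Q, F.cj_s, cj_eq_self (F.φ_norm_W v), CF.cj_φ, ← map_mul,
    cZ (x4 T 1) (by o8s) v, map_mul, mul_inv_cancel_right]

section
variable (hq : ∀ t : K, t = 0 ∨ t = 1)
  (h : AD F.C (F.s (Q T)) (F.s (W T)) (F.φ (x4 T 1)) n1 n8 P)
include hq h

theorem AD.PS {y : G} (hy : y ∈ P) : ∃ u, y = F.φ u :=
  F.mem_S hq ((F.nW y (by simpa [cj_one] using h.PC 0 (by omega) hy)).1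
    (by simpa [cj_one] using h.PW 0 (by omega) hy))

theorem AD.exists_y : ∃ y ∈ P, Cg (F.s (Q T)) y (F.φ (y8 T 1)) := by
  choose s hs using fun y : P => h.PS hq y.2
  have hi : Function.Injective fun y : P => ((s y).b8, (s y).a8) := fun y y' e => by
    obtain ⟨e1, e2⟩ := Prod.ext_iff.1 e
    refine Subtype.ext (mul_inv_eq_one.1 (h.triv _ ?_ (h.PC 4 le_rfl (mul_mem y.2 (inv_mem y'.2)))))
    rw [hs y, hs y', ← map_inv, ← map_mul, F.φ_mem_s]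
    simp only at e1 e2
    o8s; rw [e1, e2]; o8ring T
  have hc : Nat.card K = 2 := Nat.card_eq_two_iff.2 ⟨0, 1, zero_ne_one, Set.eq_univ_of_forall hq⟩
  obtain ⟨y, e⟩ := (hi.bijective_of_nat_card_le (by simpa [hc] using h.card)).2 (1, 0)
  obtain ⟨e1, e2⟩ := Prod.ext_iff.1 e
  refine ⟨y, y.2, ?_⟩
  rw [Cg, hs y, ← map_inv, ← map_mul, F.φ_mem_s]
  simp only at e1 e2
  o8s; rw [e1, e2]; o8ring T

theorem AD.rels {y : G} (hy : y ∈ P) (h8 : Cg (F.s (Q T)) n8 F.n)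
    (hY : Cg (F.s (Q T)) y (F.φ (y8 T 1))) :
    y * y * (y * y) = 1 ∧ n8 * y * n8 = y * n8 * (y * y) := by
  have y4 := h.PC 4 le_rfl hy
  have yQ : y ∈ normalizer (F.s (Q T) : Set G) := F.nQ (by simpa [cj_one] using h.PC 0 (by omega) hy)
  have nQ := F.nQ h.n8C
  have yy := hY.mul yQ hY
  constructor
  · refine h.triv _ ?_ (mul_mem (mul_mem y4 y4) (mul_mem y4 y4))
    have := yy.mul (mul_mem yQ yQ) yy
    rwa [← map_mul, ← map_mul, show y8 T 1 * y8 T 1 * (y8 T 1 * y8 T 1) = 1 by o8s; o8ring T,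
      map_one, Cg, inv_one, mul_one] at this
  · refine mul_inv_eq_one.1 (h.triv _ ?_ (mul_mem (mul_mem (mul_mem h.n8C' y4) h.n8C')
      (inv_mem (mul_mem (mul_mem y4 h.n8C') (mul_mem y4 y4)))))
    have h1 := (h8.mul nQ hY).mul (mul_mem nQ yQ) h8
    have h2 := (hY.mul yQ h8).mul (mul_mem yQ nQ) yy
    rw [F.rel hq] at h1
    simpa [mul_assoc] using mul_mem h1 (inv_mem h2)

theorem AD.normal {y : G} (hy : y ∈ P) (h8 : Cg (F.s (Q T)) n8 F.n)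
    (hY : Cg (F.s (Q T)) y (F.φ (y8 T 1)))
    (hf : n8 * (y * y) = F.n * (F.φ (y8 T 1) * F.φ (y8 T 1))) :
    (∃ c0 c1, y = F.φ (y8 T 1 * (y4 T c0 * x4 T c1))) ∧ ∃ z ∈ Z T, n8 = F.n * F.φ z := by
  obtain ⟨r1, r2⟩ := h.rels hq hy h8 hY
  obtain ⟨f5, f2⟩ := f20 h.n8n8 r1 r2
  have g2 := (f20 F.nn (by
    rw [← map_mul, ← map_mul, show y8 T 1 * y8 T 1 * (y8 T 1 * y8 T 1) = 1 by o8s; o8ring T,
      map_one]) (F.rel hq)).2
  obtain ⟨q, hQ, e⟩ := hY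
  have hu := O8.nQ.conj_mem' q hQ (y8 T 1)
  have ey : y = F.φ (y8 T 1) * F.φ ((y8 T 1)⁻¹ * q * y8 T 1) := by
    rw [map_mul, map_mul, e, map_inv]; group
  generalize (y8 T 1)⁻¹ * q * y8 T 1 = u at hu ey
  rw [hf] at f5 f2
  have e8 : y8 T 1 * y8 T 1 = x8 T 1 := by o8s; o8ring T
  rw [← map_mul, e8] at f5 f2 g2 hf
  have c2 : Commute (F.φ u) ((F.n * F.φ (x8 T 1)) ^ 2) := by
    rw [ey, ← g2, g2] at f2
    refine mul_inv_eq_iff_eq_mul.1 (mul_left_cancel (a := F.φ (y8 T 1)) (mul_right_cancel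
      (b := (F.φ (y8 T 1))⁻¹) ?_))
    rw [g2, ← f2, f2]
    convert f2 using 1
    group
  have c1 := (c2.pow_right 3).eq
  rw [← pow_mul, pow_succ, f5, one_mul] at c1
  have eu := fix5 hq hu (F.inj (by
    rw [← F.n_conj (O8.nQ.conj_mem u hu _), map_mul, map_mul, map_inv, ← mul_assoc, ← mul_assoc,
      ← c1]
    group))
  rw [eu, ← map_mul] at ey
  refine ⟨⟨_, _, ey⟩, x4 T (u.b4 * T.θ u.b4), by o8s, ?_⟩
  rw [eq_mul_inv_of_mul_eq hf, ey, ← map_mul, ← map_inv, mul_assoc, ← map_mul]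
  congr 2
  o8s; o8ring T

end

end Cfsg.Agent.H15.O8
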