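import Mathlib
import Cfsg.Agent.Lead.PcDefs

/-! Project PL, piece E1: reduction to the abstract end game. -/

set_option autoImplicit false

namespace Cfsg.Agent.H15.PlE1

open Subgroup Cfsg.Agent.Lead.Pc
open scoped commutatorElement

universe u

theorem zp {H : Type u} [Group H] {b x : H} (hb : b * b = 1) (hx : x ∈ zpowers b) :
    x = 1 ∨ x = b := by
  obtain ⟨k, rfl⟩ := mem_zpowers_iff.1 hx
  obtain ⟨j, rfl | rfl⟩ := Int.even_or_odd' k
  · left; rw [zpow_mul, zpow_two, hb, one_zpow]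
  · right; rw [zpow_add, zpow_mul, zpow_two, hb, one_zpow, one_mul, zpow_one]

theorem e1 : E1Stmt.{u} := by
  intro hQ hAb G _ _ S T S1 S2 R st l he b b3 b4
  have FT : Sq T ≤ T := (closure_le _).2 (by rintro _ ⟨t, ht, rfl⟩; exact mul_mem ht ht)
  have FR := FT.trans l.tr
  have F2 := FR.trans l.rs
  have RN : R ≤ Nm R := le_normalizer
  have TN := l.tr.trans RN
  have : ((Sq T).subgroupOf (Nm R)).Normal := ⟨fun a ha g => by
    have : Sq T ≤ (Sq T).comap (MulAut.conj (g : G)).toMonoidHom := (closure_le _).2 (by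
      rintro _ ⟨t, ht, rfl⟩
      exact subset_closure ⟨g * t * (g : G)⁻¹, (mem_normalizer_iff.1 (b.nm g.2) t).1 ht,
        map_mul (MulAut.conj (g : G)) t t⟩)
    exact this ha⟩
  let π := QuotientGroup.mk' ((Sq T).subgroupOf (Nm R))
  have sj : Function.Surjective π := QuotientGroup.mk'_surjective _
  have k : ∀ a : Nm R, π a = 1 ↔ (a : G) ∈ Sq T := fun a => QuotientGroup.eq_one_iff a
  have kr : ∀ X : Subgroup G, Sq T ≤ X → π.ker ≤ X.subgroupOf (Nm R) := fun X h a ha =>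
    h ((k a).1 ha)
  have mm : ∀ X : Subgroup G, Sq T ≤ X → ∀ a : Nm R,
      π a ∈ (X.subgroupOf (Nm R)).map π ↔ (a : G) ∈ X := fun X h a => by
    rw [← mem_comap, comap_map_eq_self (kr X h), mem_subgroupOf]
  have nn : ∀ X : Subgroup G, Nm R ≤ Nm X → ((X.subgroupOf (Nm R)).map π).Normal := fun X h =>
    Normal.map (H := X.subgroupOf (Nm R))
      ⟨fun a ha g => (mem_normalizer_iff.1 (h g.2) a).1 ha⟩ π sj
  have n2 := l.n2
  have cm : ∀ a c : Nm R, π a * π c = π c * π a ↔ ⁅(a : G), (c : G)⁆ ∈ Sq T := fun a c => by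
    rw [← commutatorElement_eq_one_iff_mul_comm, ← map_commutatorElement, k]; rfl
  have ab : Ab ((T.subgroupOf (Nm R)).map π) ((R.subgroupOf (Nm R)).map π)
      ((S2.subgroupOf (Nm R)).map π) := by
    refine ⟨nn T b.nm, nn R le_rfl, nn S2 fun g _ => by rw [Nm, normalizer_eq_top]; trivial,
      map_mono fun a ha => l.tr ha, map_mono fun a ha => l.rs ha, fun h => b.out fun y hy => ?_,
      ?_, ?_, ?_, ?_, ?_, ?_, ?_⟩
    · exact (mm T FT ⟨y, RN hy⟩).1 (h ((mm R FR _).2 hy))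
    · rintro _ ⟨a, ha, rfl⟩
      rw [← map_mul, k]
      exact b.sq a ha
    · rintro _ ⟨a, ha, rfl⟩ _ ⟨c, hc, rfl⟩
      exact (cm a c).2 (b3 a ha a.2 c hc)
    · rw [relIndex_map_map, sup_eq_left.2 (kr R FR), sup_eq_left.2 (kr S2 F2),
        ← inf_subgroupOf_right S2, relIndex_subgroupOf inf_le_right]
      exact l.oddR.of_dvd_nat
        (Dvd.intro _ (relIndex_mul_relIndex R (S2 ⊓ Nm R) S2 (le_inf l.rs RN) inf_le_left))
    · rintro _ ⟨a, ha, rfl⟩ _ ⟨c, hc, rfl⟩ h1 h2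
      obtain ⟨g, hg, h⟩ := b4 a ha c hc (fun h => h1 ((mm T FT a).2 h)) fun h => h2 ((mm T FT c).2 h)
      refine ⟨π ⟨g, hg⟩, ?_⟩
      rw [← mul_inv_eq_one, ← map_inv, ← map_inv, ← map_mul, ← map_mul, ← map_mul, k]
      exact h
    · have h1 : Nm R ⊔ S2 = ⊤ := eq_top_iff.2 fun g _ => by
        obtain ⟨m, hm, n, hn, rfl⟩ := b.fr g
        exact mul_mem (mem_sup_right hm) (mem_sup_left hn)
      rw [index_map_eq _ sj (kr S2 F2)]
      change Even (S2.relIndex (Nm R))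
      rwa [← relIndex_sup_right, h1, relIndex_top_right]
    · intro t t' h1 h2 h3 h4
      obtain ⟨a, rfl⟩ := sj t
      obtain ⟨c, rfl⟩ := sj t'
      rw [← map_mul] at h3 h4
      rw [mm S2 F2] at h1 h2 h3 h4
      let ρ := QuotientGroup.mk' S2
      have k2 : ∀ x, ρ x = 1 ↔ x ∈ S2 := fun x => QuotientGroup.eq_one_iff x
      have a2 : ρ a * ρ a = 1 := by rw [← map_mul, k2]; exact h3
      have c2 : ρ c * ρ c = 1 := by rw [← map_mul, k2]; exact h4
      obtain ⟨g, hg⟩ := hQ G _ ρ (QuotientGroup.mk'_surjective _) st.cp (ρ c) (ρ a)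
        ⟨1, by rw [pow_one, pow_two, c2]⟩ (by
          rw [orderOf_eq_prime (by rw [pow_two, a2]) fun e => h1 ((k2 _).1 e),
            orderOf_eq_prime (by rw [pow_two, c2]) fun e => h2 ((k2 _).1 e)])
      obtain ⟨g, rfl⟩ := QuotientGroup.mk'_surjective S2 g
      obtain ⟨m, hm, n, hn, rfl⟩ := b.fr g
      change ρ (m * n) * _ * (ρ (m * n))⁻¹ ∈ _ at hg
      rw [map_mul, (k2 m).2 hm, one_mul] at hg
      refine ⟨π ⟨n, hn⟩, ?_⟩
      rw [← map_inv, ← map_inv, ← map_mul, ← map_mul, ← map_mul, mm S2 F2, ← k2]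
      rcases zp c2 hg with h | h
      · exact absurd ((k2 _).1 (conj_eq_one_iff.1 h)) h1
      · change ρ (n * a * n⁻¹ * (c : G)⁻¹) = 1
        rw [map_mul, map_mul, map_mul, map_inv, map_inv, h, mul_inv_cancel]
    · intro t h1 _ h3
      obtain ⟨a, rfl⟩ := sj t
      rw [← map_mul, mm T FT] at h3
      exact h1 ((mm S2 F2 a).2 ((l.mem a).2 (l.le1 (st.le h3))))
  obtain ⟨t, h1, h2, h3, h4⟩ := hAb _ _ _ _ ab
  obtain ⟨a, rfl⟩ := sj t
  rw [← map_mul] at h1 h2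
  rw [mm R FR] at h1
  rw [mm T FT] at h2
  refine ⟨a, a.2, h1, h2, fun v hv => (cm a ⟨v, TN hv⟩).1 (h3 _ ((mm T FT _).2 hv)),
    h4.imp (fun h v hv => ?_) ?_⟩
  · obtain ⟨_, ⟨c, hc, rfl⟩, e⟩ := h _ ((mm T FT ⟨v, TN hv⟩).2 hv)
    rw [← mul_inv_eq_one, ← map_commutatorElement, ← map_inv, ← map_mul, k] at e
    exact ⟨c, hc, e⟩
  · rintro ⟨_, ⟨c, hc, rfl⟩, e⟩
    rw [← map_commutatorElement, mm T FT] at e
    exact ⟨c, hc, e⟩

end Cfsg.Agent.H15.PlE1
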