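import Mathlib
import Cfsg.Agent.H58.Q4K

/-! Project Q4: the piece D4 (transfer from the induced group). -/

set_option autoImplicit false
set_option linter.unusedSectionVars false

namespace Cfsg.Agent.H15.Q4D

open Subgroup Equiv Function Cfsg.Agent.H58.Q4
open scoped Pointwise commutatorElement

universe u

variable {G Ω : Type u} [Group G] [MulAction G Ω]

theorem induced [Finite G] (N : Subgroup G) (Δ : Set Ω) (inv : ∀ g ∈ N, ∀ x ∈ Δ, g • x ∈ Δ) :
    ∃ (G' : Type u) (_ : Group G') (_ : Finite G') (_ : MulAction G' Δ) (π : N →* G'),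
      Surjective π ∧ (∀ (g : N) (x : Δ), ((π g • x : Δ) : Ω) = (g : G) • (x : Ω)) ∧
      ∀ g : G', (∀ x : Δ, g • x = x) → g = 1 := by
  let : MulAction N Δ :=
    { smul := fun g x => ⟨(g : G) • (x : Ω), inv _ g.2 _ x.2⟩
      one_smul := fun x => Subtype.ext (one_smul G (x : Ω))
      mul_smul := fun g h x => Subtype.ext (mul_smul (g : G) (h : G) (x : Ω)) }
  have hs := (MulAction.toPermHom N Δ).rangeRestrict_surjective
  exact ⟨(MulAction.toPermHom N Δ).range, inferInstance, Finite.of_surjective _ hs, inferInstance,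
    _, hs, fun g x => rfl, fun g hg => Subtype.ext (Equiv.ext hg)⟩

theorem nil_of_le {A B : Subgroup G} (h : A ≤ B) (hB : Group.IsNilpotent B) :
    Group.IsNilpotent A :=
  Group.nilpotent_of_mulEquiv (subgroupOfEquivOfLe h)

section Im

variable {G' : Type u} [Group G'] {N : Subgroup G} (π : N →* G')

/-- The image of a subgroup. -/
def im (H : Subgroup G) : Subgroup G' := (H.subgroupOf N).map π

variable {π}

theorem mem_im {H : Subgroup G} {g' : G'} : g' ∈ im π H ↔ ∃ g : N, (g : G) ∈ H ∧ π g = g' :=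
  Iff.rfl

theorem card_im {D : Subgroup G} (hD : ∀ g : N, π g = 1 ↔ (g : G) ∈ D) (H : Subgroup G) :
    Nat.card (im π H) = D.relIndex (N ⊓ H) := by
  have h1 : π.ker = D.subgroupOf N := Subgroup.ext hD
  rw [im, ← relIndex_ker, h1, ← relIndex_subgroupOf (inf_le_left : N ⊓ H ≤ N), inf_subgroupOf_left]

theorem nil_im {H : Subgroup G} (h : Group.IsNilpotent H) : Group.IsNilpotent (im π H) := by
  have h1 := nil_of_le (inf_le_left : H ⊓ N ≤ H) h
  have h2 : Group.IsNilpotent ((H ⊓ N).subgroupOf N) :=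
    Group.nilpotent_of_mulEquiv (subgroupOfEquivOfLe (inf_le_right : H ⊓ N ≤ N)).symm
  rw [inf_subgroupOf_right] at h2
  exact Group.nilpotent_of_surjective _ (π.subgroupMap_surjective _)

theorem tw_map {g : N} (h : Tw (g : G)) : Tw (π g) := by
  obtain ⟨n, hn⟩ := h
  exact ⟨n, by rw [← map_pow, show g ^ 2 ^ n = 1 from Subtype.ext hn, map_one]⟩

theorem odd_map [Finite G] {g : N} (h : Odd (orderOf (g : G))) : Odd (orderOf (π g)) :=
  Odd.of_dvd_nat (by rwa [orderOf_coe] at h) (orderOf_map_dvd π g)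

theorem tw_pow {x : G} (h : Tw x) (m : ℕ) : Tw (x ^ m) := by
  obtain ⟨n, hn⟩ := h
  exact ⟨n, by rw [← pow_mul, mul_comm, pow_mul, hn, one_pow]⟩

theorem tw_lift [Finite G] {g : N} (h : Tw (π g)) : ∃ a : ℕ, Tw ((g : G) ^ a) ∧ π (g ^ a) = π g := by
  obtain ⟨a, b, e, h1, h2⟩ := exists_two_odd (g : G)
  have h3 : π (g ^ b) = 1 := Tw.eq_one (by rw [map_pow]; exact tw_pow h b) (odd_map h2)
  refine ⟨a, h1, ?_⟩
  rw [← mul_one (π (g ^ a)), ← h3, ← map_mul, show g ^ a * g ^ b = g from Subtype.ext e]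

theorem cyc_lift [Finite G] (hs : Surjective π) {H : Subgroup G}
    (h : ∀ U ≤ H, IsPGroup 3 U → IsCyclic U) {U' : Subgroup G'} (hU : IsPGroup 3 U')
    (hle : ∀ g : N, π g ∈ U' → (g : G) ∈ H) : IsCyclic U' := by
  have : Fact (Nat.Prime 3) := ⟨Nat.prime_three⟩
  have hf := π.subgroupComap_surjective_of_surjective U' hs
  obtain ⟨S⟩ : Nonempty (Sylow 3 (U'.comap π)) := inferInstance
  have h1 : (S : Subgroup (U'.comap π)).map (π.subgroupComap U') = ⊤ :=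
    ((S.mapSurjective hf).is_maximal' (hU.to_subgroup ⊤) le_top).symm
  have inj : Injective (N.subtype.comp (U'.comap π).subtype) :=
    N.subtype_injective.comp (U'.comap π).subtype_injective
  have h2 := h _ (by rintro _ ⟨s, -, rfl⟩; exact hle _ s.2)
    (S.isPGroup'.map (N.subtype.comp (U'.comap π).subtype))
  have h3 : IsCyclic (S : Subgroup (U'.comap π)) :=
    isCyclic_of_surjective _ (equivMapOfInjective _ _ inj).symm.surjective
  refine isCyclic_of_surjective ((π.subgroupComap U').comp (S : Subgroup _).subtype) fun u => ?_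
  obtain ⟨s, hs, e⟩ := (h1 ▸ mem_top u : u ∈ (S : Subgroup (U'.comap π)).map (π.subgroupComap U'))
  exact ⟨⟨s, hs⟩, e⟩

end Im

theorem d4 (fr : FrStmt.{u}) (blk : BlkStmt.{u}) (mq : MqStmt.{u}) (w4 : W4Stmt.{u})
    (s4b : S4bStmt.{u}) (s4c : S4cStmt.{u}) : D4Stmt.{u} := by
  intro G Ω _ _ _ _ K P ev bk Q hQ
  obtain ⟨G', _, _, _, π, hs, act, faith⟩ := induced (Nm Q) (Fx Ω Q) fun g hg x hx =>
    smul_mem_Fx hg hx
  have ker : ∀ g : Nm Q, π g = 1 ↔ (g : G) ∈ St G (Fx Ω Q) := fun g =>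
    ⟨fun h => mem_St.2 fun x hx => by rw [← act g ⟨x, hx⟩, h, one_smul],
      fun h => faith _ fun x => Subtype.ext (by rw [act]; exact mem_St.1 h x x.2)⟩
  have st : ∀ (F' : Set (Fx Ω Q)) (g : Nm Q), π g ∈ St G' F' ↔ (g : G) ∈ St G (Subtype.val '' F') :=
    fun F' g => by
      simp only [mem_St, Set.forall_mem_image, ← act, Subtype.val_inj]
  have c4 : ∀ F' : Set (Fx Ω Q), (Subtype.val '' F').ncard = F'.ncard := fun F' =>
    Set.ncard_image_of_injective _ Subtype.val_injective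
  have sb : ∀ F' : Set (Fx Ω Q), Subtype.val '' F' ⊆ Fx Ω Q := fun F' => Subtype.coe_image_subset _ _
  have pre : ∀ F ⊆ Fx Ω Q, ∃ F' : Set (Fx Ω Q), Subtype.val '' F' = F := fun F hF =>
    ⟨Subtype.val ⁻¹' F, by rw [Subtype.image_preimage_coe, Set.inter_eq_right.2 hF]⟩
  have sr : SR (fun F' : Set (Fx Ω Q) => im π (K (Subtype.val '' F')))
      (fun F' : Set (Fx Ω Q) => im π (P (Subtype.val '' F'))) := by
    refine ⟨faith, hQ.big, ?_, ?_, fun F' h => nil_im (ev.fr _ ((c4 F').trans h)).nil, ?_, ?_, ?_,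
      ?_, ?_⟩
    · rintro F' h _ ⟨k, hk, rfl⟩
      exact (st F' k).2 ((ev.fr _ ((c4 F').trans h)).le hk)
    · rintro F' h g' _ ⟨k, hk, rfl⟩
      obtain ⟨g, rfl⟩ := hs g'
      refine ⟨g * k * g⁻¹, ?_, by rw [map_mul, map_mul, map_inv]⟩
      have e : Subtype.val '' (π g • F') = (g : G) • (Subtype.val '' F') := by
        rw [← Set.image_smul, ← Set.image_smul, Set.image_image, Set.image_image]
        exact Set.image_congr fun x _ => act g x
      rw [e]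
      exact ev.conj _ ((c4 F').trans h) g k hk
    · intro F' h g'
      have mp := ev.memP _ ((c4 F').trans h)
      constructor
      · rintro ⟨k, hk, rfl⟩
        exact ⟨(st F' k).2 ((mp k).1 hk).1, tw_map ((mp k).1 hk).2⟩
      · obtain ⟨g, rfl⟩ := hs g'
        rintro ⟨h1, h2⟩
        obtain ⟨a, h3, h4⟩ := tw_lift h2
        exact ⟨g ^ a, (mp _).2 ⟨pow_mem ((st F' g).1 h1) a, h3⟩, h4⟩
    · exact fun F' h => map_mono (comap_mono (ev.P_le _ ((c4 F').trans h)))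
    · intro F' h e
      obtain ⟨-, -, h1, -, -, h2⟩ := mq G Ω K P ev 4 bk Q hQ _ (sb F') ((c4 F').trans h)
      obtain ⟨w, hw, hw', -⟩ := h2 ⊥ IsPGroup.of_bot bot_le bot_le
      have h3 : π ⟨w, hw.1⟩ ∈ im π (P (Subtype.val '' F')) := ⟨_, hw.2, rfl⟩
      rw [show im π (P (Subtype.val '' F')) = ⊥ from e, mem_bot, ker] at h3
      exact hw' (h1.le ⟨hw.2, h3⟩)
    · rintro F' h g' h1 h2 _ ⟨r, hr, rfl⟩ hc
      obtain ⟨g, rfl⟩ := hs g'
      have hF := (c4 F').trans h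
      obtain ⟨h3, -, h4, -⟩ := mq G Ω K P ev 4 bk Q hQ _ (sb F') hF
      obtain ⟨-, -, -, -, -, h5, -⟩ := blk G Ω K P ev _ hF
      have h6 := (st F' g).1 h1
      have h7 := (fr G _ _ (ev.fr _ hF)).2.2.2.1 g h6 (fun H => h2 ⟨g, H, rfl⟩)
        (Nm Q ⊓ P (Subtype.val '' F')) Q (inf_le_right.trans (ev.P_le _ hF))
        (le_inf le_normalizer h3) (mem_Nm_of_finite fun x hx =>
          ⟨(Nm Q).mul_mem ((Nm Q).mul_mem g.2 hx.1) ((Nm Q).inv_mem g.2),
            conj_mem_of_Nm (h5 h6) hx.2⟩) g.2 inf_le_left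
        r ⟨r.2, hr⟩ (by
          refine h4.le ⟨mul_mem (conj_mem_of_Nm (h5 h6) hr) (Subgroup.inv_mem _ hr),
            (ker (g * r * g⁻¹ * r⁻¹)).1 ?_⟩
          rw [map_mul, map_mul, map_mul, map_inv, map_inv, hc.eq]
          group)
      exact (ker r).2 (h4.ge h7).2
    · rintro F' h _ ⟨r, hr, rfl⟩ h1
      have hF := (c4 F').trans h
      obtain ⟨-, -, h4, -, h5, -⟩ := mq G Ω K P ev 4 bk Q hQ _ (sb F') hF
      obtain ⟨-, -, h6, -⟩ := blk G Ω K P ev _ hF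
      have h7 := h5 r ⟨r.2, hr⟩ fun H => h1 ((ker r).2 (h4.ge H).2)
      rw [← Set.eq_of_subset_of_ncard_le h6 (by rw [bk _ hF, hF])] at h7
      ext x
      rw [mem_F1, ← Subtype.val_inj, act, ← Subtype.val_injective.mem_set_image, ← h7]
      exact ⟨fun H => ⟨H, x.2⟩, fun H => H.1⟩
  obtain ⟨tr, hw⟩ := w4 G' _ _ _ sr
  refine ⟨fun a b ha hb h1 h2 => ?_, fun F hF h k hk ho => ?_, ?_⟩
  · obtain ⟨g', -, hg⟩ := tr (fun i => ⟨a i, h1 i⟩) (fun i => ⟨b i, h2 i⟩)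
      (fun i j e => ha (congrArg Subtype.val e)) (fun i j e => hb (congrArg Subtype.val e))
      (fun _ => trivial) fun _ => trivial
    obtain ⟨g, rfl⟩ := hs g'
    exact ⟨g, g.2, fun i => (act g ⟨a i, h1 i⟩).symm.trans (congrArg Subtype.val (hg i))⟩
  · obtain ⟨F', rfl⟩ := pre F hF
    obtain ⟨h1, -⟩ := mq G Ω K P ev 4 bk Q hQ _ hF h
    obtain ⟨-, -, -, -, -, -, h2, -⟩ := blk G Ω K P ev _ h
    have h3 : k ∈ Nm Q := mem_Nm_of_finite fun x hx => by
      rwa [(h2 k hk ho x (h1 hx)).eq, mul_inv_cancel_right]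
    obtain ⟨h4, h5, -⟩ := hw F' ((c4 F').symm.trans h)
    have h6 : π ⟨k, h3⟩ ∈ im π (K (Subtype.val '' F')) := ⟨_, hk, rfl⟩
    exact (ker ⟨k, h3⟩).1 ((Tw.of_mem h4 (h5 ▸ h6)).eq_one (odd_map ho))
  by_cases hz : ∃ F' : Set (Fx Ω Q), F'.ncard = 4 ∧ ∃ z ∈ im π (P (Subtype.val '' F')),
      ∃ z' ∈ im π (P (Subtype.val '' F')), orderOf z = 2 ∧ orderOf z' = 2 ∧ z ≠ z'
  · obtain ⟨⟨h1, h2⟩, h3⟩ := s4b G' _ _ _ sr hz
    refine Or.inl ⟨h1, fun F hF h => ?_⟩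
    obtain ⟨F', rfl⟩ := pre F hF
    have h' := (c4 F').symm.trans h
    obtain ⟨-, -, h4, -⟩ := mq G Ω K P ev 4 bk Q hQ _ hF h
    constructor
    · rw [← card_im ker, ← h2 F' h']
      congr 2
      ext g'
      obtain ⟨g, rfl⟩ := hs g'
      exact ⟨fun ⟨k, hk, e⟩ => e ▸ (st F' k).2 hk, fun H => ⟨g, (st F' g).1 H, rfl⟩⟩
    · rw [← h3 F' h', card_im ker, ← inf_relIndex_right Q, ← inf_relIndex_right (St G _)]
      congr 1
      exact le_antisymm (fun x hx => ⟨(h4.ge hx.1).2, hx.2⟩) fun x hx => ⟨h4.le ⟨hx.2.2, hx.1⟩, hx.2⟩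
  · refine Or.inr fun T hT h => ?_
    obtain ⟨T', rfl⟩ := pre T hT
    obtain ⟨⟨y', hy, w', hw', h1, h2, h3⟩, h4⟩ := s4c G' _ _ _ sr
      (fun F' hF z hz1 z' hz2 o1 o2 => by_contra fun hne => hz ⟨F', hF, z, hz1, z', hz2, o1, o2, hne⟩)
      T' ((c4 T').symm.trans h)
    obtain ⟨y, rfl⟩ := hs y'
    obtain ⟨w, rfl⟩ := hs w'
    refine ⟨⟨y, ⟨y.2, (st _ y).1 hy⟩, w, ⟨w.2, (st _ w).1 hw'⟩, ?_, (ker (y ^ 3)).1 ?_,
      (ker (w * y * w⁻¹ * y)).1 ?_⟩, fun H => h4 fun U' hU h5 =>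
        cyc_lift hs H h5 fun g hg => (st _ g).1 (hU hg)⟩
    · rw [← h1]
      ext x
      constructor
      · rintro ⟨h5, h6⟩
        exact ⟨⟨x, h6⟩, Subtype.ext ((act y ⟨x, h6⟩).trans h5), rfl⟩
      · rintro ⟨x, h5, rfl⟩
        exact ⟨(act y x).symm.trans (congrArg Subtype.val h5), x.2⟩
    · rw [map_pow, h2]
    · rw [map_mul, map_mul, map_mul, map_inv, h3, inv_mul_cancel]

end Cfsg.Agent.H15.Q4D
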