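import Mathlib
import Cfsg.Agent.H15.Q4D4

/-! Project Q4: the piece E8 (eight fixed points). -/

set_option autoImplicit false
set_option linter.unusedSectionVars false

namespace Cfsg.Agent.H15.Q4D

open Subgroup Equiv Function Cfsg.Agent.H58.Q4
open scoped Pointwise commutatorElement

universe u

variable {G Ω : Type u} [Group G] [MulAction G Ω]

/-- The image of a subgroup. -/
def im2 {G' : Type} [Group G'] {N : Subgroup G} (π : N →* G') (H : Subgroup G) : Subgroup G' :=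
  (H.subgroupOf N).map π

theorem card_im2 {G' : Type} [Group G'] {N : Subgroup G} {π : N →* G'} {D : Subgroup G}
    (hD : ∀ g : N, π g = 1 ↔ (g : G) ∈ D) (H : Subgroup G) :
    Nat.card (im2 π H) = D.relIndex (N ⊓ H) := by
  have h1 : π.ker = D.subgroupOf N := Subgroup.ext hD
  rw [im2, ← relIndex_ker, h1, ← relIndex_subgroupOf (inf_le_left : N ⊓ H ≤ N), inf_subgroupOf_left]

theorem a5_four : ∀ x : Perm (Fin 5), Perm.sign x = 1 → x * x * (x * x) = 1 → x * x = 1 := by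
  decide +kernel

theorem a5_real : ∀ x : Perm (Fin 5), x * x * x = 1 →
    ∃ t : Perm (Fin 5), Perm.sign t = 1 ∧ t * x * t⁻¹ * x = 1 := by
  decide +kernel

theorem perm_rep (M : Subgroup G) (S : Set Ω) {n : ℕ} (hS : S.ncard = n) (hf : S.Finite)
    (inv : ∀ g ∈ M, ∀ x ∈ S, g • x ∈ S) :
    ∃ ρ : M →* Perm (Fin n), ∀ g : M, ρ g = 1 ↔ (g : G) ∈ St G S := by
  let _ : MulAction M S :=
    { smul := fun g x => ⟨(g : G) • (x : Ω), inv _ g.2 _ x.2⟩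
      one_smul := fun x => Subtype.ext (one_smul G (x : Ω))
      mul_smul := fun g h x => Subtype.ext (mul_smul (g : G) (h : G) (x : Ω)) }
  have := hf.to_subtype
  let e : S ≃ Fin n := Finite.equivFinOfCardEq hS
  refine ⟨e.permCongrHom.toMonoidHom.comp (MulAction.toPermHom M S), fun g => ?_⟩
  rw [MonoidHom.comp_apply, MulEquiv.coe_toMonoidHom, EmbeddingLike.map_eq_one_iff, mem_St]
  exact ⟨fun h x hx => congrArg Subtype.val (Equiv.congr_fun h ⟨x, hx⟩),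
    fun h => Equiv.ext fun x => Subtype.ext (h x x.2)⟩

theorem real_of_coset [Finite G] {D : Subgroup G} {c d : G} (hc : c ∈ Nm D)
    (fpf : ∀ x ∈ D, Commute c x → x = 1) (hd : d ∈ D) : ∃ x ∈ D, x * c⁻¹ * x⁻¹ * c = d := by
  have m : ∀ x : D, (x : G) * c⁻¹ * (x : G)⁻¹ * c ∈ D := fun x => by
    simpa [mul_assoc] using mul_mem x.2 (conj_mem_of_Nm (inv_mem hc) (inv_mem x.2))
  have inj : Injective fun x : D => (⟨_, m x⟩ : D) := fun x y e => by
    have h1 : (x : G) * c⁻¹ * (x : G)⁻¹ * c = (y : G) * c⁻¹ * (y : G)⁻¹ * c := Subtype.mk.inj e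
    have h2 := fpf _ (mul_mem (inv_mem y.2) x.2) (Commute.inv_left_iff.1 (by
      change c⁻¹ * ((y : G)⁻¹ * x) = (y : G)⁻¹ * x * c⁻¹
      calc _ = (y : G)⁻¹ * ((y : G) * c⁻¹ * (y : G)⁻¹ * c) * c⁻¹ * x := by group
        _ = _ := by rw [← h1]; group))
    exact Subtype.ext (inv_mul_eq_one.1 h2).symm
  obtain ⟨x, hx⟩ := Finite.surjective_of_injective inj ⟨d, hd⟩
  exact ⟨x, x.2, Subtype.mk.inj hx⟩

theorem e8 (blk : BlkStmt.{u}) (mq : MqStmt.{u}) (ord : OrdStmt.{u}) (hig : HigStmt.{u})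
    (e8a : E8aStmt.{u}) (cf : CfStmt.{u}) (re : ReStmt.{u}) (ft : FtStmt.{u}) : E8Stmt.{u} := by
  intro G Ω _ _ _ _ K P ev bk Q hQ tr od ⟨h8, da⟩
  by_cases q0 : Q = ⊥
  · subst q0
    have e1 : Fx Ω (⊥ : Subgroup G) = Set.univ :=
      Set.eq_univ_of_forall fun x g hg => by rw [mem_bot.1 hg, one_smul]
    have e2 : St G (Set.univ : Set Ω) = ⊥ :=
      (eq_bot_iff_forall _).2 fun g hg => ev.faith g fun x => mem_St.1 hg x trivial
    have e3 : Nm (⊥ : Subgroup G) = ⊤ := normalizer_eq_top ⊥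
    rw [e1] at h8 da
    refine ⟨by rwa [Set.ncard_univ] at h8, fun F hF => ?_⟩
    have h1 := (da F (Set.subset_univ F) hF).1
    rwa [e2, e3, top_inf_eq, relIndex_bot_left] at h1
  have : Fact (Nat.Prime 3) := ⟨Nat.prime_three⟩
  obtain ⟨F, hF, f4⟩ := Set.exists_subset_card_eq (show 4 ≤ (Fx Ω Q).ncard by omega)
  obtain ⟨T, hT, t3⟩ := Set.exists_subset_card_eq (show 3 ≤ F.ncard by omega)
  obtain ⟨d12, d4⟩ := da F hF f4
  obtain ⟨qP, -, pD, dK, -⟩ := mq G Ω K P ev 4 bk Q hQ F hF f4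
  obtain ⟨p2, odd, -, -, -, hP, -⟩ := blk G Ω K P ev F f4
  have fr := ev.fr F f4
  have inv : ∀ g ∈ Nm Q, ∀ x ∈ Fx Ω Q, g • x ∈ Fx Ω Q := fun g hg x hx => smul_mem_Fx hg hx
  have PH : P F ≤ St G F := (ev.P_le F f4).trans fr.le
  have HT : St G F ≤ St G T := St_anti hT
  have DH : St G (Fx Ω Q) ≤ St G F := St_anti hF
  set M := Nm Q ⊓ St G T with hM
  obtain ⟨ρ, hρ⟩ := perm_rep M (Fx Ω Q \ T) (n := 5)
    (by rw [Set.ncard_sdiff (hT.trans hF), h8, t3]) (Set.toFinite _) fun g hg x hx =>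
      ⟨inv g hg.1 x hx.1, fun H => hx.2 (by
        rwa [MulAction.injective g (mem_St.1 hg.2 _ H : g • g • x = g • x)] at H)⟩
  have ker : ∀ g : M, ρ g = 1 ↔ (g : G) ∈ St G (Fx Ω Q) := fun g => by
    rw [hρ]
    refine ⟨fun h => mem_St.2 fun x hx => ?_, fun h => St_anti Set.sdiff_subset h⟩
    by_cases h1 : x ∈ T
    exacts [mem_St.1 g.2.2 x h1, mem_St.1 h x ⟨hx, h1⟩]
  have mi : ∀ H ≤ St G F, M ⊓ (Nm Q ⊓ H) = Nm Q ⊓ H := fun H h =>
    inf_eq_right.2 (inf_le_inf_left _ (h.trans HT))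
  have c12 : Nat.card (im2 ρ (Nm Q ⊓ St G F)) = 12 := by rw [card_im2 ker, mi _ le_rfl, d12]
  have c4 : Nat.card (im2 ρ (Nm Q ⊓ P F)) = 4 := by
    rw [card_im2 ker, mi _ PH, ← d4, ← inf_relIndex_right Q, ← inf_relIndex_right (St G _)]
    congr 1
    exact le_antisymm (fun x hx => ⟨pD.le ⟨hx.2.2, hx.1⟩, hx.2⟩) fun x hx => ⟨(pD.ge hx.1).2, hx.2⟩
  have rg : ρ.range = alternatingGroup (Fin 5) := by
    have h1 := ord G Ω _ _ inv tr F hF f4 T hT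
    rw [h8, t3] at h1
    have DN : St G (Fx Ω Q) ≤ Nm Q ⊓ St G F := le_inf (dK.trans inf_le_right) DH
    have h2 := card_mul_index ((St G (Fx Ω Q)).subgroupOf (Nm Q ⊓ St G F))
    have h3 := card_mul_index ρ.ker
    have h4 : ρ.ker = (St G (Fx Ω Q)).subgroupOf M := Subgroup.ext ker
    rw [index_ker, h4, Nat.card_congr (subgroupOfEquivOfLe
      (DN.trans (inf_le_inf_left _ HT))).toEquiv, h1, ← h2] at h3
    rw [Nat.card_congr (subgroupOfEquivOfLe DN).toEquiv, ← relIndex, d12] at h3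
    have h5 : Nat.card ρ.range = 60 := Nat.eq_of_mul_eq_mul_left
      (Nat.card_pos (α := St G (Fx Ω Q))) (by rw [h3]; simp; ring)
    have h6 := card_mul_index ρ.range
    rw [h5, Nat.card_perm, Nat.card_fin] at h6
    exact Perm.eq_alternatingGroup_of_index_eq_two (by simp [Nat.factorial] at h6; omega)
  have sg : ∀ g, Perm.sign (ρ g) = 1 := fun g => Perm.mem_alternatingGroup.1 (rg ▸ ⟨g, rfl⟩)
  obtain ⟨⟨_, c, hc, rfl⟩, o3⟩ := exists_prime_orderOf_dvd_card' (G := im2 ρ (Nm Q ⊓ St G F)) 3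
    (by rw [c12]; norm_num)
  replace o3 : orderOf (ρ c) = 3 := (orderOf_coe _).trans o3
  have cH : (c : G) ∈ St G F := hc.2
  have cK : (c : G) ∉ K F := fun H => by
    obtain ⟨a, b, e, h1, h2⟩ := exists_two_odd (c : G)
    have h3 : ρ (c ^ b) = 1 := (ker _).2 (od F hF f4 _ (pow_mem H b) h2)
    have h4 : ρ c = ρ (c ^ a) := by
      rw [← mul_one (ρ (c ^ a)), ← h3, ← map_mul, show c ^ a * c ^ b = c from Subtype.ext e]
    obtain ⟨n, hn⟩ := h1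
    have h5 : ρ c ^ 2 ^ n = 1 := by
      rw [h4, ← map_pow, show (c ^ a) ^ 2 ^ n = 1 from Subtype.ext hn, map_one]
    have h6 := orderOf_dvd_of_pow_eq_one h5
    rw [o3] at h6
    exact absurd (Nat.Prime.dvd_of_dvd_pow Nat.prime_three h6) (by norm_num)
  have fpf := fr.fpf c cH cK
  have c3 : (c : G) ^ 3 = 1 := fpf _ (dK ((ker (c ^ 3)).1
    (by rw [map_pow, ← o3, pow_orderOf_eq_one]))).1 (Commute.self_pow _ _)
  have oc : orderOf (c : G) = 3 := orderOf_eq_prime c3 fun e => cK (e ▸ one_mem _)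
  have nD := nil_of_le (dK.trans inf_le_left) fr.nil
  have ND : ∀ g ∈ Nm Q, g ∈ Nm (St G (Fx Ω Q)) := fun g hg =>
    mem_Nm_St (smul_eq_of_mapsTo (inv g hg))
  have QM : Q ≤ M := le_inf le_normalizer (qP.trans (PH.trans HT))
  have : (Q.subgroupOf M).Normal := 
    ⟨fun x hx g => mem_subgroupOf.2 (conj_mem_of_Nm (U := Q) g.2.1 hx)⟩
  have : ((oddPart _ nD).subgroupOf M).Normal :=
    ⟨fun x hx g => mem_subgroupOf.2 (conj_mem_of_Nm (Nm_le_Nm_oddPart nD (ND _ g.2.1)) hx)⟩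
  obtain ⟨h1, h2, -, h3, h4⟩ := hig M ρ (Q.subgroupOf M) ((oddPart _ nD).subgroupOf M) c rg
    (hQ.two.comap_subtype)
    (odd_card_of_forall fun k hk => by
      rw [← Subgroup.orderOf_coe]; exact (mem_oddPart.1 (mem_subgroupOf.1 hk)).2)
    (le_antisymm (fun d hd => by
      obtain ⟨a, b, e, h1, h2⟩ := exists_two_odd (d : G)
      have h3 := (ker d).1 hd
      rw [← show d ^ a * d ^ b = d from Subtype.ext e]
      refine mul_mem_sup (mem_subgroupOf.2 ?_) (mem_subgroupOf.2 ?_)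
      · exact pD.le ⟨(ev.memP F f4 _).2 ⟨pow_mem (DH h3) a, h1⟩, pow_mem h3 a⟩
      · exact mem_oddPart.2 ⟨pow_mem h3 b, h2⟩)
      (sup_le (fun d hd => (ker d).2 (pD.ge hd).2) fun d hd =>
        (ker d).2 (mem_oddPart.1 (mem_subgroupOf.1 hd)).1))
    ((orderOf_coe c).symm.trans oc)
    fun q hq h => Subtype.ext (fpf q (ev.P_le F f4 (qP hq)) (congrArg Subtype.val h.eq))
  have sq : ∀ x ∈ im2 ρ (Nm Q ⊓ P F), x * x = 1 := by
    rintro _ ⟨g, hg, rfl⟩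
    refine a5_four _ (sg g) ?_
    have h5 := congrArg Subtype.val (pow_card_eq_one' (x := (⟨ρ g, g, hg, rfl⟩ : im2 ρ (Nm Q ⊓ P F))))
    rw [c4] at h5
    rw [← pow_two (ρ g), ← pow_add]
    exact h5
  have AM : Nm Q ⊓ P F ≤ M := inf_le_inf_left _ (PH.trans HT)
  have o2 : ∀ a (h : a ∈ Nm Q ⊓ P F), a ∉ Q → orderOf (ρ ⟨a, AM h⟩) = 2 := fun a h h' =>
    orderOf_eq_prime (by rw [pow_two]; exact sq _ ⟨_, h, rfl⟩)
      fun e => h' (pD.le ⟨h.2, (ker _).1 e⟩)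
  have ce : ∀ t : M, (Q ⊓ Ce (t : G)).subgroupOf M = Q.subgroupOf M ⊓ Ce t := fun t => by
    ext x
    simp only [mem_subgroupOf, mem_inf, mem_Ce, Commute, SemiconjBy, Subtype.ext_iff, coe_mul]
  obtain ⟨a0, ha0, ha0'⟩ : ∃ a ∈ Nm Q ⊓ P F, a ∉ Q := SetLike.not_le_iff_exists.1 fun H => by
    rw [relIndex_eq_one.2 H] at d4
    omega
  obtain ⟨-, hcf, -⟩ := cf G Ω K P ev F f4 c cH cK (oc ▸ Nat.prime_three)
  obtain ⟨-, cp, -⟩ := hcf F (fun x hx => mem_St.1 cH x hx) f4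
  have CQ := e8a G (P F) Q (Q ⊓ Ce a0) (Nm (zpowers (c : G)) ⊓ St G F) c p2 qP q0
    (fun a ha b hb => congrArg Subtype.val (h1 ⟨a, QM ha⟩ ha ⟨b, QM hb⟩ hb).eq)
    (fun a ha => congrArg Subtype.val (h2 ⟨a, QM ha⟩ ha)) d4
    (by
      have h5 := (h3 _ (o2 a0 ha0 ha0')).1
      rwa [← ce, Nat.card_congr (subgroupOfEquivOfLe (inf_le_left.trans QM)).toEquiv,
        Nat.card_congr (subgroupOfEquivOfLe QM).toEquiv] at h5)
    (fun a ha ha' => by
      have h5 := h4 _ _ (o2 a ha ha') (o2 a0 ha0 ha0') (by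
        have m1 : ρ ⟨a, AM ha⟩ ∈ im2 ρ (Nm Q ⊓ P F) := ⟨_, ha, rfl⟩
        have m2 : ρ ⟨a0, AM ha0⟩ ∈ im2 ρ (Nm Q ⊓ P F) := ⟨_, ha0, rfl⟩
        exact Commute.of_orderOf_dvd_two (G := im2 ρ (Nm Q ⊓ P F))
          (fun g => orderOf_dvd_of_pow_eq_one (Subtype.ext (by
            rw [coe_pow, pow_two]; exact sq _ g.2))) ⟨_, m1⟩ ⟨_, m2⟩ |>.map (Subgroup.subtype _))
      rw [← ce, ← ce] at h5
      ext x
      exact ⟨fun hx => (SetLike.ext_iff.1 h5 ⟨x, QM hx.1⟩).1 hx,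
        fun hx => (SetLike.ext_iff.1 h5 ⟨x, QM hx.1⟩).2 hx⟩)
    c3 (hP cH) c.2.1 (fun a ha => fpf a (ev.P_le F f4 ha)) (cp.card ▸ odd)
    (inf_le_right.trans hP)
  have cC : zpowers (c : G) = Nm (zpowers (c : G)) ⊓ St G F := by
    have l1 : Nm (zpowers (c : G)) ⊓ St G F ≤ Nm Q ⊓ St G F := le_inf CQ inf_le_right
    have h5 := card_dvd_of_le (show im2 ρ _ ≤ im2 ρ _ from map_mono (comap_mono l1))
    rw [c12, card_im2 ker, inf_eq_right.2 (l1.trans (inf_le_inf_left _ HT)), ← inf_relIndex_right,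
      (eq_bot_iff_forall (St G (Fx Ω Q) ⊓ (Nm (zpowers (c : G)) ⊓ St G F))).2
        fun x hx => mem_bot.1 (cp.inf.le ⟨hx.2, (dK hx.1).1⟩),
      relIndex_bot_left] at h5
    refine eq_of_le_of_card_ge (le_inf le_normalizer (zpowers_le.2 cH)) ?_
    rw [Nat.card_zpowers, oc]
    exact Nat.le_of_dvd (by norm_num) (Nat.Coprime.dvd_of_dvd_mul_left
      (Nat.Coprime.pow_right 2 (Nat.coprime_two_right.2 (cp.card ▸ odd))) h5)
  obtain ⟨t', t1, t2⟩ := a5_real (ρ c) (by rw [← pow_three', ← o3, pow_orderOf_eq_one])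
  obtain ⟨t, rfl⟩ : t' ∈ ρ.range := rg ▸ Perm.mem_alternatingGroup.2 t1
  obtain ⟨x, hx, e⟩ := real_of_coset (ND _ c.2.1) (fun x hx => fpf x (dK hx).1)
    ((ker (t * c * t⁻¹ * c)).1 (by rw [map_mul, map_mul, map_mul, map_inv, t2]))
  obtain ⟨-, h5, -⟩ := re G Ω K P ev F f4 T hT t3 c cH cK oc
    ⟨x⁻¹ * t, mul_mem (inv_mem (HT (DH hx))) t.2.2, by
      have e' : x * (c : G)⁻¹ * x⁻¹ = t * c * (t : G)⁻¹ := mul_right_cancel e
      calc _ = x⁻¹ * (t * c * (t : G)⁻¹) * x := by group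
        _ = _ := by rw [← e']; group⟩
  exact ft G Ω K P ev bk F f4 T hT t3 c cH cK oc (h5.trans cC.symm)

end Cfsg.Agent.H15.Q4D
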