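import Mathlib
import Cfsg.Agent.H46.UDefs
import Cfsg.Agent.H12.S94Base
import Cfsg.Agent.S1248

/-!
# Piece PU of S3094: the type `U₃(4)` does not occur
-/

set_option autoImplicit false
open scoped Pointwise commutatorElement
open Subgroup

namespace Cfsg.Agent.H15.S94Pu
open Cfsg.Agent.H46.S94 Cfsg.Agent.H12.S94

universe u

variable {X : Type u} [Group X] {t σ : X} {Λ O Z D P : Subgroup X}

/-- involutions of a group of type `U₃(4)` are central -/
theorem omega (sp : Sp Z P) (hU : U34 P) {x : X} (hx : x ∈ P) (xx : x * x = 1) : x ∈ Z := by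
  obtain ⟨F, _, _, hF, S, ⟨e⟩⟩ := hU
  have h := (Cfsg.Agent.S1248.result hF S).2.2.1
  by_cases x1 : x = 1
  · rw [x1]; exact one_mem _
  have o : orderOf (e ⟨x, hx⟩) = 2 := by
    rw [MulEquiv.orderOf_eq, Subgroup.orderOf_mk]
    exact orderOf_eq_prime (by rw [sq, xx]) x1
  have m : e ⟨x, hx⟩ ∈ center (S : Subgroup (Cfsg.PSU 3 F 4)) := by
    rw [h]; exact subset_closure o
  refine sp.cZ ⟨hx, mem_centralizer_iff.2 fun y hy => ?_⟩
  have := mem_center_iff.1 m (e ⟨y, hy⟩)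
  rw [← map_mul, ← map_mul] at this
  exact congrArg Subtype.val (e.injective this)

theorem cZ (sp : Sp Z P) {z p : X} (hz : z ∈ Z) (hp : p ∈ P) : p * z = z * p :=
  mem_centralizer_iff.1 (sp.ZC hz) p hp

theorem comm_mem (sp : Sp Z P) {x y : X} (hx : x ∈ P) (hy : y ∈ P) : ⁅x, y⁆ ∈ Z := by
  have e := cZ sp (inv_mem (sp.sq x hx)) (inv_mem hy)
  have : ⁅x, y⁆ = x * y * (x * y) * (x * x)⁻¹ * (y * y)⁻¹ := by
    calc ⁅x, y⁆ = x * y * (x * y) * (y⁻¹ * (x * x)⁻¹) * y⁻¹ := by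
          rw [commutatorElement_def]; group
      _ = _ := by rw [e]; group
  rw [this]
  exact mul_mem (mul_mem (sp.sq _ (mul_mem hx hy)) (inv_mem (sp.sq x hx))) (inv_mem (sp.sq y hy))

theorem comm_r (sp : Sp Z P) {a b c : X} (ha : a ∈ P) (hb : b ∈ P) (hc : c ∈ P) :
    ⁅a, b * c⁆ = ⁅a, b⁆ * ⁅a, c⁆ := by
  have e := cZ sp (comm_mem sp ha hc) hb
  calc ⁅a, b * c⁆ = ⁅a, b⁆ * (b * ⁅a, c⁆) * b⁻¹ := by
        simp only [commutatorElement_def]; group
    _ = _ := by rw [e]; group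

theorem comm_l (sp : Sp Z P) {a b c : X} (ha : a ∈ P) (hb : b ∈ P) (hc : c ∈ P) :
    ⁅a * b, c⁆ = ⁅b, c⁆ * ⁅a, c⁆ := by
  have e := cZ sp (comm_mem sp hb hc) ha
  calc ⁅a * b, c⁆ = (a * ⁅b, c⁆) * a⁻¹ * ⁅a, c⁆ := by
        simp only [commutatorElement_def]; group
    _ = _ := by rw [e]; group

variable [Finite X]

/-- fibres of `p ↦ p t p⁻¹ t` on `P` have four elements -/
theorem count (h : A5C t σ Λ O Z) (iv : IV t σ Z P) {H : Subgroup X} (hH : H ≤ P) {B : Set X}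
    (hB : ∀ p ∈ H, p * t * p⁻¹ * t ∈ B) : Nat.card H ≤ 4 * B.ncard := by
  classical
  have := Fintype.ofFinite X
  have h1 := Finset.card_le_mul_card_image (f := fun p => p * t * p⁻¹ * t)
    (H : Set X).toFinset 4 (by
      intro a ha
      obtain ⟨p, hp, rfl⟩ := Finset.mem_image.1 ha
      rw [Set.mem_toFinset] at hp
      have c4 : (Z : Set X).toFinset.card = 4 := by
        rw [← Set.ncard_eq_toFinset_card', ← Nat.card_coe_set_eq]; exact h.cZ
      rw [← c4]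
      refine le_trans (Finset.card_le_card fun x hx => ?_)
        (Finset.card_image_le (f := fun z => p * z))
      obtain ⟨hx, e⟩ := Finset.mem_filter.1 hx
      rw [Set.mem_toFinset] at hx
      refine Finset.mem_image.2 ⟨p⁻¹ * x, Set.mem_toFinset.2 ?_, by group⟩
      refine cen_P h iv (mul_mem (inv_mem (hH hp)) (hH hx)) ?_
      have e' : x * t * x⁻¹ = p * t * p⁻¹ := mul_right_cancel e
      calc p⁻¹ * x * t = p⁻¹ * (x * t * x⁻¹) * x := by group
        _ = _ := by rw [e']; group)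
  have h2 : ((H : Set X).toFinset.image fun p => p * t * p⁻¹ * t).card ≤ B.ncard := by
    rw [Set.ncard_eq_toFinset_card']
    refine Finset.card_le_card fun a ha => ?_
    obtain ⟨p, hp, rfl⟩ := Finset.mem_image.1 ha
    rw [Set.mem_toFinset] at hp ⊢
    exact hB p hp
  have h3 : Nat.card H = (H : Set X).toFinset.card := by
    rw [← Set.ncard_eq_toFinset_card', ← Nat.card_coe_set_eq]; rfl
  omega

/-- an element of `P` fixed by `t` modulo `Z` lies in `D` -/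
theorem mem_D (h : A5C t σ Λ O Z) (iv : IV t σ Z P) (sp : Sp Z P) (d4 : D4 t σ Z D) (DP : D ≤ P)
    {x : X} (hx : x ∈ P) (e : x * t * x⁻¹ * t ∈ Z) : x ∈ D := by
  have ti : t⁻¹ = t := inv_eq_of_mul_eq_one_right h.tt
  let W : Subgroup X :=
    { carrier := {p | p ∈ P ∧ p * t * p⁻¹ * t ∈ Z}
      one_mem' := ⟨one_mem _, by simp [h.tt]⟩
      mul_mem' := by
        rintro a b ⟨ha, ha'⟩ ⟨hb, hb'⟩
        refine ⟨mul_mem ha hb, ?_⟩
        have e := cZ sp hb' ha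
        have : a * b * t * (a * b)⁻¹ * t = b * t * b⁻¹ * t * (a * t * a⁻¹ * t) := by
          calc _ = a * (b * t * b⁻¹ * t) * t⁻¹ * a⁻¹ * t := by group
            _ = _ := by rw [e, ti]; group
        rw [this]; exact mul_mem hb' ha'
      inv_mem' := by
        rintro a ⟨ha, ha'⟩
        refine ⟨inv_mem ha, ?_⟩
        have e := cZ sp (inv_mem ha') (inv_mem ha)
        have : a⁻¹ * t * a⁻¹⁻¹ * t = (a * t * a⁻¹ * t)⁻¹ := by
          calc _ = a⁻¹ * t⁻¹ * a * t⁻¹ := by rw [ti, inv_inv]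
            _ = a⁻¹ * (a * t * a⁻¹ * t)⁻¹ * a := by group
            _ = _ := by rw [e]; group
        rw [this]; exact inv_mem ha' }
  have DW : D ≤ W := fun d hd => ⟨DP hd, by
    have := d4.inv _ (inv_mem hd)
    have e : d * t * d⁻¹ * t = d * d := by
      calc _ = d * (t * d⁻¹ * t) := by group
        _ = _ := by rw [this, inv_inv]
    rw [e]; exact sp.sq d (DP hd)⟩
  have c := count h iv (H := W) (fun p hp => hp.1) (B := Z) fun p hp => hp.2
  rw [← Nat.card_coe_set_eq] at c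
  have cz : Nat.card (Z : Set X) = 4 := h.cZ
  have : D = W := eq_of_le_of_card_ge DW (by rw [d4.card]; omega)
  rw [this]; exact ⟨hx, e⟩

/-- `t ^ P = D t` -/
theorem exists_conj (h : A5C t σ Λ O Z) (iv : IV t σ Z P) (sp : Sp Z P) (d4 : D4 t σ Z D)
    (DP : D ≤ P) {d : X} (hd : d ∈ D) : ∃ r ∈ P, r * t * r⁻¹ = d * t := by
  have ti : t⁻¹ = t := inv_eq_of_mul_eq_one_right h.tt
  by_contra hn
  have c := count h iv (H := P) le_rfl (B := (D : Set X) \ {d}) fun p hp => ⟨?_, fun e => hn ⟨p, hp, ?_⟩⟩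
  · rw [Set.ncard_sdiff_singleton_of_mem hd, ← Nat.card_coe_set_eq, sp.card] at c
    have : Nat.card (D : Set X) = 16 := d4.card
    omega
  · have m : p * t * p⁻¹ * t ∈ P := by
      have := (mem_normalizer_iff.1 iv.tN p⁻¹).1 (inv_mem hp)
      rw [ti] at this
      have := mul_mem hp this
      simpa only [mul_assoc] using this
    refine mem_D h iv sp d4 DP m ?_
    have : p * t * p⁻¹ * t * t * (p * t * p⁻¹ * t)⁻¹ * t = p * t * p⁻¹ * t * (p * t * p⁻¹ * t) := by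
      rw [mul_inv_rev, mul_inv_rev, mul_inv_rev, ti]
      calc _ = p * t * p⁻¹ * t * (t * t) * (p * t * p⁻¹ * t) := by group
        _ = _ := by rw [h.tt, mul_one]
    rw [this]; exact sp.sq _ m
  · rw [Set.mem_singleton_iff] at e
    rw [← e, mul_assoc _ t t, h.tt, mul_one]

/-- the norm of the fixed-point-free `σ` -/
theorem norm_one (h : A5C t σ Λ O Z) (iv : IV t σ Z P) {g : X} (hg : g ∈ P) :
    g * MulAut.conj σ g * MulAut.conj σ (MulAut.conj σ g) = 1 := by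
  have hs : ∀ x ∈ P, σ * x * σ⁻¹ ∈ P := fun x hx => (mem_normalizer_iff.1 iv.sN x).1 hx
  let f : P → P := fun x => ⟨x.1⁻¹ * (σ * x * σ⁻¹), mul_mem (inv_mem x.2) (hs _ x.2)⟩
  have inj : Function.Injective f := fun x y e => by
    have e' : x.1⁻¹ * (σ * x * σ⁻¹) = y.1⁻¹ * (σ * y * σ⁻¹) := congrArg Subtype.val e
    have := fpf_P h iv (mul_mem y.2 (inv_mem x.2)) (by
      calc σ * (y.1 * x.1⁻¹) = y.1 * (y.1⁻¹ * (σ * y * σ⁻¹)) * σ * x.1⁻¹ := by group
        _ = _ := by rw [← e']; group)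
    exact Subtype.ext (mul_inv_eq_one.1 this).symm
  obtain ⟨x, hx⟩ := Finite.injective_iff_surjective.1 inj ⟨g, hg⟩
  have e : x.1⁻¹ * (σ * x * σ⁻¹) = g := congrArg Subtype.val hx
  have s3 : σ * σ * σ = 1 := by rw [← pow_three']; exact s_cube h
  simp only [MulAut.conj_apply, ← e]
  calc _ = x.1⁻¹ * (σ * σ * σ) * x * (σ * σ * σ)⁻¹ := by group
    _ = 1 := by rw [s3]; group

omit [Finite X] in
theorem sq_mul (sp : Sp Z P) {a b : X} (ha : a ∈ P) (hb : b ∈ P) :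
    a * b * (a * b) = ⁅a, b⁆ * (a * a) * (b * b) := by
  have e := cZ sp (sp.sq a ha) hb
  calc a * b * (a * b) = ⁅a, b⁆ * (b * (a * a)) * b := by rw [commutatorElement_def]; group
    _ = _ := by rw [e]; group

theorem four {A : Type*} [CommGroup A] (sq : ∀ a : A, a * a = 1) {z z' x x' x'' y : A}
    (h1 : z' * x' * y = 1) (h2 : x'' * (y * z) = 1) (h3 : x * x' * x'' = 1) : x * z * z' = 1 := by
  calc x * z * z' = x * z * z' * (x' * x') * (x'' * x'') * (y * y) := by simp only [sq, mul_one]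
    _ = z' * x' * y * (x'' * (y * z)) * (x * x' * x'') := by ac_rfl
    _ = 1 := by rw [h1, h2, h3]; simp

theorem core (h : A5C t σ Λ O Z) (iv : IV t σ Z P) (sp : Sp Z P) (hU : U34 P) (d4 : D4 t σ Z D)
    (DP : D ≤ P) {ζ s : X} (hζ : ζ ∈ D) (hs : s ∈ P) (ss : s * s = ζ * ζ) (b0 : ⁅s, ζ⁆ = ζ * ζ) :
    s ∈ D := by
  have ζP := DP hζ
  have zZ : ζ * ζ ∈ Z := sp.sq ζ ζP
  have nm := fun g hg => norm_one h iv (g := g) hg
  set φ := MulAut.conj σ with hφ
  have φP : ∀ {x}, x ∈ P → φ x ∈ P := fun hx => (mem_normalizer_iff.1 iv.sN _).1 hx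
  have φZ : ∀ {x}, x ∈ Z → φ x ∈ Z := fun hx => (mem_normalizer_iff.1 h.sZ _).1 hx
  have φD : φ ζ ∈ D := (mem_normalizer_iff.1 d4.sN ζ).1 hζ
  have φ3 : ∀ x, φ (φ (φ x)) = x := fun x => by
    have s3 : σ * σ * σ = 1 := by rw [← pow_three']; exact s_cube h
    simp only [hφ, MulAut.conj_apply]
    calc _ = (σ * σ * σ) * x * (σ * σ * σ)⁻¹ := by group
      _ = x := by rw [s3]; group
  have xZ := comm_mem sp hs (φP ζP)
  have yZ := comm_mem sp (φP hs) ζP
  have A : ζ * ζ * ⁅s, φ ζ⁆ * ⁅s, φ (φ ζ)⁆ = 1 := by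
    rw [← b0, ← comm_r sp hs ζP (φP ζP), ← comm_r sp hs (mul_mem ζP (φP ζP)) (φP (φP ζP)),
      nm ζ ζP, commutatorElement_one_right]
  have A' : φ (ζ * ζ) * φ ⁅s, φ ζ⁆ * ⁅φ s, ζ⁆ = 1 := by
    have := congrArg φ A
    rwa [map_mul, map_mul, map_one, map_commutatorElement φ s (φ (φ ζ)), φ3] at this
  have B : φ (φ ⁅s, φ ζ⁆) * (⁅φ s, ζ⁆ * (ζ * ζ)) = 1 := by
    rw [map_commutatorElement, map_commutatorElement, φ3, ← b0, ← comm_l sp hs (φP hs) ζP,
      ← comm_l sp (mul_mem hs (φP hs)) (φP (φP hs)) ζP, nm s hs, commutatorElement_one_left]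
  have C := nm _ (iv.ZP xZ)
  have E : ⁅s, φ ζ⁆ * (ζ * ζ) * φ (ζ * ζ) = 1 := by
    let _ : CommGroup Z := { (inferInstance : Group Z) with
      mul_comm := fun a b => Subtype.ext (comm_Z h a.2 b.2) }
    exact congrArg Subtype.val (four (A := Z) (fun a => Subtype.ext (sq_Z h a.2))
      (z := ⟨_, zZ⟩) (z' := ⟨_, φZ zZ⟩) (x := ⟨_, xZ⟩) (x' := ⟨_, φZ xZ⟩) (x'' := ⟨_, φZ (φZ xZ)⟩)
      (y := ⟨_, yZ⟩) (Subtype.ext A') (Subtype.ext B) (Subtype.ext C))
  have m : s * φ ζ ∈ Z := omega sp hU (mul_mem hs (φP ζP)) (by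
    rw [sq_mul sp hs (φP ζP), ss, ← map_mul, E])
  simpa using mul_mem (d4.ZD m) (inv_mem φD)

theorem pu : PUStmt.{u} := by
  intro X _ _ t σ ζ Λ O Z D P h iv sp hU d4 DP hζ o4 H
  classical
  have ti : t⁻¹ = t := inv_eq_of_mul_eq_one_right h.tt
  obtain ⟨r, hr, e⟩ := exists_conj h iv sp d4 DP hζ
  have ζP := DP hζ
  have zZ : ζ * ζ ∈ Z := sp.sq ζ ζP
  have z1 : ζ * ζ ≠ 1 := fun e => by
    have := orderOf_dvd_of_pow_eq_one (show ζ ^ 2 = 1 by rw [sq, e])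
    rw [o4] at this; omega
  have rD : r ∉ D := fun hd => z1 <| by
    have := d4.inv _ (inv_mem hd)
    have e' : ζ = r * r := by
      calc ζ = ζ * t * t := by rw [mul_assoc, h.tt, mul_one]
        _ = r * (t * r⁻¹ * t) := by rw [← e]; group
        _ = _ := by rw [this, inv_inv]
    exact sq_Z h (e' ▸ sp.sq r hr)
  have rr : r * r = ζ * ζ := by
    have o2 : orderOf (ζ * ζ) = 2 := orderOf_eq_prime (by rw [sq, sq_Z h zZ]) z1
    have m := H r hr e
    rw [mem_zpowers_iff_mem_range_orderOf, o2] at m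
    obtain ⟨k, hk, e2⟩ := Finset.mem_image.1 m
    rw [Finset.mem_range] at hk
    interval_cases k
    · exact (rD (d4.ZD (omega sp hU hr (by rw [← e2, pow_zero])))).elim
    · rw [← e2, pow_one]
  have ss : r⁻¹ * r⁻¹ = ζ * ζ := by
    rw [← mul_inv_rev, rr]; exact inv_eq_of_mul_eq_one_right (sq_Z h zZ)
  refine rD (inv_mem_iff.1 (core h iv sp hU d4 DP hζ (inv_mem hr) ss ?_))
  have e1 : r⁻¹ * ζ = t * r⁻¹ * t := by
    calc r⁻¹ * ζ = r⁻¹ * (ζ * t) * t := by rw [mul_assoc, mul_assoc, h.tt, mul_one]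
      _ = _ := by rw [← e]; group
  have e2 : r⁻¹ * ζ * (r⁻¹ * ζ) = ζ * ζ := by
    calc _ = t * (r⁻¹ * (t * t) * r⁻¹) * t := by rw [e1]; group
      _ = t * (ζ * ζ) * t := by rw [h.tt, mul_one, ss]
      _ = _ := by rw [← h.Lt _ (h.ZL zZ), mul_assoc, h.tt, mul_one]
  rw [sq_mul sp (inv_mem hr) ζP, ss, mul_assoc, sq_Z h zZ, mul_one] at e2
  exact e2

end Cfsg.Agent.H15.S94Pu
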