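import Mathlib
import Cfsg.Agent.H97.U5Defs
import Cfsg.Agent.H2.SchurZassenhaus

/-! Project U5F (S5258), piece AS: the automizer of `U T`. -/

set_option autoImplicit false
set_option linter.style.haveILetI false
set_option linter.unusedSectionVars false

namespace Cfsg.Agent.H15.U5A

open Cfsg.Agent.H97 Cfsg.Agent.H97.U5 Cfsg.Agent.H96.VB Subgroup
open scoped commutatorElement

universe u

section general

variable {p : ℕ} [hp : Fact p.Prime]

theorem sec_conj {P A : Type*} [Group P] [Group A] [Finite P] {π : P →* A} (h2 : IsPGroup p π.ker)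
    (ho : ¬ p ∣ Nat.card A) {s t : A →* P} (hs : ∀ c, π (s c) = c) (ht : ∀ c, π (t c) = c) :
    ∃ g ∈ π.ker, ∀ c, t c = g * s c * g⁻¹ := by
  have cop : (Nat.card π.ker).Coprime π.ker.index := by
    obtain ⟨n, hn⟩ := h2.exists_card_eq
    rw [hn, index_ker]
    exact ((Nat.Prime.coprime_iff_not_dvd hp.out).2 fun h =>
      ho (h.trans (card_subgroup_dvd_card _))).pow_left n
  have key : ∀ {s : A →* P}, (∀ c, π (s c) = c) → IsComplement' π.ker s.range := fun {s} hs =>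
    isComplement'_of_disjoint_and_mul_eq_univ (disjoint_def.2 (by
      rintro _ hx ⟨c, rfl⟩
      rw [MonoidHom.mem_ker, hs] at hx
      rw [hx, map_one])) (Set.eq_univ_iff_forall.2 fun x =>
        ⟨x * (s (π x))⁻¹, by simp [hs], s (π x), ⟨_, rfl⟩, by simp⟩)
  obtain ⟨g, hg, e⟩ := H2.schurZassenhaus_conj' _ cop _ _
    (Or.inl (have := h2.isNilpotent; inferInstance)) (key hs) (key ht)
  refine ⟨g, hg, fun c => ?_⟩
  obtain ⟨c', hc⟩ : g * s c * g⁻¹ ∈ t.range := e ▸ H2.mem_conj_smul_iff.2 ⟨c, by group⟩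
  have := congrArg π hc
  rw [ht, map_mul, map_mul, map_inv, hs, MonoidHom.mem_ker.1 hg, one_mul, inv_one, mul_one] at this
  rw [← hc, this]

theorem sec2 {X B : Type*} [Group X] [Finite X] [Group B] [Finite B] (M : Subgroup X)
    [hM : M.Normal] (h2 : IsPGroup p M) (ho : ¬ p ∣ Nat.card B) (s t : B →* X)
    (h : ∀ c, (s c)⁻¹ * t c ∈ M) : ∃ g ∈ M, ∀ c, t c = g * s c * g⁻¹ := by
  let P : Subgroup (X × B) :=
    { carrier := {p | (s p.2)⁻¹ * p.1 ∈ M}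
      one_mem' := by simp
      mul_mem' := fun {p q} hp hq => by
        have := M.mul_mem (hM.conj_mem _ hp (s q.2)⁻¹) hq
        simpa [mul_assoc] using this
      inv_mem' := fun {p} hp => by
        have := hM.conj_mem _ (M.inv_mem hp) (s p.2)
        simpa [mul_assoc] using this }
  have hP : IsPGroup p ((MonoidHom.snd X B).comp P.subtype).ker := fun g => by
    have h1 : g.1.1.2 = 1 := g.2
    have h3 : g.1.1.1 ∈ M := by
      have : (s g.1.1.2)⁻¹ * g.1.1.1 ∈ M := g.1.2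
      simpa [h1] using this
    obtain ⟨k, hk⟩ := h2 ⟨_, h3⟩
    exact ⟨k, Subtype.ext (Subtype.ext (Prod.ext (congrArg Subtype.val hk) (by simp [h1])))⟩
  obtain ⟨g, hg, e⟩ := sec_conj hP ho
    (s := (s.prod (MonoidHom.id _)).codRestrict P fun c => by
      change (s c)⁻¹ * s c ∈ M
      simp)
    (t := (t.prod (MonoidHom.id _)).codRestrict P h) (fun _ => rfl) fun _ => rfl
  have h1 : g.1.2 = 1 := hg
  refine ⟨g.1.1, ?_, fun c => congrArg (fun x => x.1.1) (e c)⟩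
  have : (s g.1.2)⁻¹ * g.1.1 ∈ M := g.2
  simpa [h1] using this

/-- The abstract part: `Y` a normal `p`-subgroup with a complement `Λ`. -/
theorem abs_as {X : Type*} [Group X] [Finite X] {Y Λ I C : Subgroup X} [hY : Y.Normal]
    [hI : I.Normal] (h2 : IsPGroup p Y) (ho : ∀ l ∈ Λ, l ∈ Y → l = 1)
    (hs : ∀ x, ∃ l ∈ Λ, l⁻¹ * x ∈ Y) (hIY : I ≤ Y) (hIC : I ≤ C) (hC : ¬ p ∣ I.relIndex C) :
    ∃ (β : X) (L : Subgroup X), L ≤ Λ ∧ ¬ p ∣ Nat.card L ∧
      ∀ γ, β * γ * β⁻¹ ∈ C ↔ ∃ i ∈ I, ∃ l ∈ L, γ = i * l := by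
  have hcop : (Nat.card (I.subgroupOf C)).Coprime (I.subgroupOf C).index := by
    obtain ⟨n, hn⟩ := ((h2.to_le hIY).comap_subtype (K := C)).exists_card_eq
    rw [show Nat.card (I.subgroupOf C) = p ^ n from hn]
    exact ((Nat.Prime.coprime_iff_not_dvd hp.out).2 hC).pow_left n
  obtain ⟨D, hD⟩ := exists_right_complement'_of_coprime hcop
  have hDo : ¬ p ∣ Nat.card D := by
    rw [← hD.symm.index_eq_card]; exact hC
  let e := MulEquiv.ofBijective ((QuotientGroup.mk' Y).comp Λ.subtype) ⟨by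
    rw [injective_iff_map_eq_one]
    intro l hl
    exact Subtype.ext (ho l l.2 ((QuotientGroup.eq_one_iff _).1 hl)), fun x => by
    obtain ⟨x, rfl⟩ := QuotientGroup.mk_surjective x
    obtain ⟨l, hl, h⟩ := hs x
    exact ⟨⟨l, hl⟩, QuotientGroup.eq.2 h⟩⟩
  let t : D →* X := C.subtype.comp D.subtype
  let s : D →* X := Λ.subtype.comp (e.symm.toMonoidHom.comp ((QuotientGroup.mk' Y).comp t))
  obtain ⟨g, -, hg⟩ := sec2 Y h2 hDo s t fun d =>
    QuotientGroup.eq.1 (e.apply_symm_apply (QuotientGroup.mk' Y (t d)))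
  refine ⟨g, s.range, ?_, fun h => hDo (h.trans (card_range_dvd s)), fun γ => ⟨fun h => ?_, ?_⟩⟩
  · rintro _ ⟨d, rfl⟩
    exact (e.symm _).2
  · obtain ⟨⟨i, d⟩, hid⟩ := hD.2 ⟨_, h⟩
    have h1 : ((i : C) : X) * t d = g * γ * g⁻¹ := congrArg Subtype.val hid
    refine ⟨g⁻¹ * ((i : C) : X) * g⁻¹⁻¹, hI.conj_mem _ i.2 _, s d, ⟨d, rfl⟩, ?_⟩
    rw [hg] at h1
    calc γ = g⁻¹ * (g * γ * g⁻¹) * g := by group
      _ = _ := by rw [← h1]; group
  · rintro ⟨i, hi, _, ⟨d, rfl⟩, rfl⟩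
    have h1 : g * (i * s d) * g⁻¹ = g * i * g⁻¹ * t d := by rw [hg]; group
    rw [h1]
    exact C.mul_mem (hIC (hI.conj_mem i hi g)) (d : C).2

variable {G : Type*} [Group G]

/-- automorphisms trivial on `X / N` -/
def stab (X N : Subgroup G) (hX : ∀ β : MulAut G, ∀ g ∈ X, β g ∈ X)
    (hN : ∀ β : MulAut G, ∀ g ∈ N, β g ∈ N) : Subgroup (MulAut G) where
  carrier := {β | ∀ w ∈ X, w⁻¹ * β w ∈ N}
  one_mem' := fun w _ => by simp
  mul_mem' := fun {a b} ha hb w hw => by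
    have e : w⁻¹ * (a * b) w = (w⁻¹ * a w) * a (w⁻¹ * b w) := by
      rw [MulAut.mul_apply, map_mul, map_inv]; group
    rw [e]
    exact mul_mem (ha w hw) (hN a _ (hb w hw))
  inv_mem' := fun {a} ha w hw => by
    have _ := hX
    have h1 := hN a⁻¹ _ (inv_mem (ha w hw))
    rw [mul_inv_rev, inv_inv, map_mul, map_inv] at h1
    have e : a⁻¹ (a w) = w := a.symm_apply_apply w
    rwa [e] at h1

theorem stab_normal (X N : Subgroup G) (hX : ∀ β : MulAut G, ∀ g ∈ X, β g ∈ X)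
    (hN : ∀ β : MulAut G, ∀ g ∈ N, β g ∈ N) : (stab X N hX hN).Normal := ⟨fun b hb a w hw => by
  have h1 := hN a _ (hb _ (hX a⁻¹ w hw))
  have e : a (a⁻¹ w) = w := a.apply_symm_apply w
  rwa [map_mul, map_inv, e] at h1⟩

/-- the restriction to an invariant subgroup -/
theorem exists_res {X : Subgroup G} (hX : ∀ β : MulAut G, ∀ g ∈ X, β g ∈ X) (β : MulAut G) :
    ∃ α : MulAut X, ∀ x ∈ X, ext α x = β x :=
  ⟨{ toFun := fun x => ⟨β x, hX β x x.2⟩
     invFun := fun x => ⟨β⁻¹ x, hX β⁻¹ x x.2⟩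
     left_inv := fun x => Subtype.ext (β.symm_apply_apply x)
     right_inv := fun x => Subtype.ext (β.apply_symm_apply x)
     map_mul' := fun _ _ => Subtype.ext (map_mul β _ _) }, fun _ hx => ext_apply _ hx⟩

theorem ext_pow {X : Subgroup G} {α : MulAut X} {β : MulAut G} (h : ∀ x ∈ X, ext α x = β x)
    (n : ℕ) : ∀ x ∈ X, ext (α ^ n) x = (β ^ n) x := by
  induction n with
  | zero => intro x hx; rw [pow_zero, pow_zero, ext_apply _ hx]; rfl
  | succ n ih =>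
    intro x hx
    rw [pow_succ, pow_succ, ext_mul, ih _ (ext_mem α hx), h x hx, MulAut.mul_apply]

end general

variable {K : Type u} [Field K] [Finite K] {T : Hm K} {p : ℕ} [Fact p.Prime] [CharP K p]

/-- the action of a field automorphism on the torus -/
def fT (φ : RingAut K) (c : Kˣ × Kˣ) : Kˣ × Kˣ :=
  (Units.map (φ : K →* K) c.1, Units.map (φ : K →* K) c.2)

theorem fld_tor (φ : RingAut K) (c : Kˣ × Kˣ) :
    fld T φ * tor T c = tor T (fT φ c) * fld T φ := by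
  ext g <;> simp [fT, T.com]

variable (T) in
/-- torus and field automorphisms -/
def Lam : Subgroup (MulAut (U T)) where
  carrier := {l | ∃ c φ, l = tor T c * fld T φ}
  one_mem' := ⟨1, 1, by simp⟩
  mul_mem' := by
    rintro _ _ ⟨c, φ, rfl⟩ ⟨d, ψ, rfl⟩
    exact ⟨c * fT φ d, φ * ψ, by
      rw [map_mul, map_mul, mul_assoc, ← mul_assoc (fld T φ), fld_tor, mul_assoc, mul_assoc]⟩
  inv_mem' := by
    rintro _ ⟨c, φ, rfl⟩
    exact ⟨fT φ⁻¹ c⁻¹, φ⁻¹, by rw [← fld_tor, mul_inv_rev, map_inv, map_inv]⟩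

theorem dV {x y : U T} (hx : x ∈ Z3 T) (hy : y ∈ Z3 T) : x⁻¹ * y ∈ V T ↔ y.v1 = x.v1 := by
  simp [mem_V, hx.1, hx.2, hy.1, hy.2, neg_add_eq_zero, eq_comm]

theorem dZ {x y : U T} (hx : x ∈ R T) (hy : y ∈ R T) : x⁻¹ * y ∈ Z3 T ↔ y.v2 = x.v2 := by
  simp [mem_Z3, mem_R.1 hx, mem_R.1 hy, neg_add_eq_zero, eq_comm]

variable (c : ChSStmt T)

/-- automorphisms trivial on `Z₃ / V` and `R / Z₃` -/
def Y1 : Subgroup (MulAut (U T)) :=
  stab (Z3 T) (V T) (fun β => (c β).2.2.1) (fun β => (c β).2.2.2.1) ⊓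
    stab (R T) (Z3 T) (fun β => (c β).2.1) fun β => (c β).2.2.1

theorem mem_Y1 {β : MulAut (U T)} :
    β ∈ Y1 c ↔ (∀ x ∈ Z3 T, (β x).v1 = x.v1) ∧ ∀ x ∈ R T, (β x).v2 = x.v2 :=
  and_congr (forall₂_congr fun x hx => dV hx ((c β).2.2.1 x hx))
    (forall₂_congr fun x hx => dZ hx ((c β).2.1 x hx))

theorem Y1_normal : (Y1 c).Normal :=
  haveI := stab_normal (Z3 T) (V T) (fun β => (c β).2.2.1) (fun β => (c β).2.2.2.1)
  haveI := stab_normal (R T) (Z3 T) (fun β => (c β).2.1) fun β => (c β).2.2.1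
  Subgroup.normal_inf_normal _ _

theorem Y1_p (h : AR1 T p) : IsPGroup p (Y1 c) := by
  rintro ⟨β, hβ⟩
  obtain ⟨h1, h2⟩ := (mem_Y1 c).1 hβ
  obtain ⟨α, hα⟩ := exists_res (fun β => (c β).2.1) β
  obtain ⟨φ, a, b, c', d, -, e⟩ := h.sem α
  have e1 : ∀ x ∈ R T, (β x).v1 = x.v1 + b * φ x.v2 := fun x hx => by
    have := (e _ (Z3_le_R (⟨rfl, rfl⟩ : rv T x.v1 0 ∈ Z3 T))).1
    rw [hα _ (Z3_le_R ⟨rfl, rfl⟩), h1 _ ⟨rfl, rfl⟩] at this
    simp only [rv_v1, rv_v2, map_zero, mul_zero, add_zero] at this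
    rw [← hα x hx, (e x hx).1, ← this]
  have e2 : ∀ n : ℕ, ∀ x ∈ R T, ((β ^ n) x).v1 = x.v1 + n * (b * φ x.v2) ∧ ((β ^ n) x).v2 = x.v2 := by
    intro n
    induction n with
    | zero => intro x _; simp
    | succ n ih =>
      intro x hx
      have hx' := (c (β ^ n)).2.1 x hx
      rw [pow_succ', MulAut.mul_apply, e1 _ hx', h2 _ hx', (ih x hx).1, (ih x hx).2]
      exact ⟨by push_cast; ring, rfl⟩
  have e3 := (h.ker (α ^ p) fun x hx => by
    rw [ext_pow hα p x hx, (e2 p x hx).1, (e2 p x hx).2]; simp).2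
  have e4 : ∀ x ∈ R T, (β ^ (p * p)) x = x := fun x hx => by
    rw [← ext_pow hα _ x hx, pow_mul, e3, ext_apply _ hx]; rfl
  set γ := β ^ (p * p) with hγ
  have e5 : ∀ g, g⁻¹ * γ g ∈ R T := fun g => by
    rw [← cV]
    intro x hx
    have hx' : x ∈ R T := Z3_le_R (V_le_Z3 hx)
    have := e4 _ (nR.conj_mem x hx' g)
    rw [map_mul, map_mul, map_inv, e4 x hx'] at this
    calc x * (g⁻¹ * γ g) = g⁻¹ * (g * x * g⁻¹) * γ g := by group
      _ = _ := by rw [← this]; group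
  have e6 : ∀ (n : ℕ) g, (γ ^ n) g = g * (g⁻¹ * γ g) ^ n := fun n g => by
    induction n with
    | zero => simp
    | succ n ih =>
      rw [pow_succ', MulAut.mul_apply, ih, map_mul, e4 _ (pow_mem (e5 g) n), pow_succ',
        ← mul_assoc, mul_inv_cancel_left]
  obtain ⟨k, hk⟩ := (isPGroup_U (T := T) p).exists_card_eq
  refine ⟨2 + k, Subtype.ext ?_⟩
  change β ^ p ^ (2 + k) = 1
  rw [pow_add, pow_two, pow_mul, ← hγ]
  exact MulEquiv.ext fun g => by rw [e6, ← hk, pow_card_eq_one', mul_one]; rfl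

theorem disj : ∀ l ∈ Lam T, l ∈ Y1 c → l = 1 := by
  rintro _ ⟨e, φ, rfl⟩ hl
  obtain ⟨h1, h2⟩ := (mem_Y1 c).1 hl
  have e1 : ∀ v, (e.1 : K) * φ v = v := fun v => by simpa using h1 (rv T v 0) ⟨rfl, rfl⟩
  have e2 : (e.2 : K) = 1 := by simpa using h2 (rv T 0 1) rfl
  have e3 : (e.1 : K) = 1 := by simpa using e1 1
  have e4 : e = 1 := Prod.ext (Units.ext e3) (Units.ext e2)
  have e5 : φ = 1 := RingEquiv.ext fun v => by simpa [e3] using e1 v
  simp [e4, e5]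

theorem supp (h : AR1 T p) (β : MulAut (U T)) : ∃ l ∈ Lam T, l⁻¹ * β ∈ Y1 c := by
  obtain ⟨α, hα⟩ := exists_res (fun β => (c β).2.1) β
  obtain ⟨φ, a, b, c', d, hd, e⟩ := h.sem α
  have c0 : c' = 0 := by
    have := (e (rv T 1 0) rfl).2
    rw [hα _ rfl, ((c β).2.2.1 _ ⟨rfl, rfl⟩).2] at this
    simpa using this.symm
  rw [c0, mul_zero] at hd
  set l := tor T (Units.mk0 a (left_ne_zero_of_mul hd), Units.mk0 d (right_ne_zero_of_mul hd)) *
    fld T φ with hl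
  have k : ∀ x, x⁻¹ * (l⁻¹ * β) x = l⁻¹ ((l x)⁻¹ * β x) := fun x => by
    rw [map_mul, map_inv, MulAut.inv_apply_self, MulAut.mul_apply]
  refine ⟨l, ⟨_, _, hl⟩, fun x hx => ?_, fun x hx => ?_⟩
  · rw [k]
    refine (c _).2.2.2.1 _ ((dV ((c l).2.2.1 x hx) ((c β).2.2.1 x hx)).2 ?_)
    rw [← hα x (Z3_le_R hx), (e x (Z3_le_R hx)).1, hl]
    simp [hx.2]
  · rw [k]
    refine (c _).2.2.1 _ ((dZ ((c l).2.1 x hx) ((c β).2.1 x hx)).2 ?_)
    rw [← hα x hx, (e x hx).2, hl]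
    simp [c0]

omit c in
theorem asS (h : AR1 T p) (c : ChSStmt T) : ASStmt T p := by
  intro C hC hi
  haveI := Y1_normal c
  haveI : (MulAut.conj : U T →* MulAut (U T)).range.Normal := ⟨by
    rintro _ ⟨s, rfl⟩ g
    exact ⟨g s, MulEquiv.ext fun x => by simp⟩⟩
  obtain ⟨β, L, hL, hp, h⟩ := abs_as (I := (MulAut.conj : U T →* MulAut (U T)).range) (C := C)
    (Y1_p c h) (disj c) (supp c h) (by
      rintro _ ⟨s, rfl⟩
      refine (mem_Y1 c).2 ⟨fun x hx => ?_, fun x hx => (conj_R s hx).2⟩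
      rw [MulAut.conj_apply, (conj_R s (Z3_le_R hx)).1, hx.2, mul_zero, add_zero])
    (by rintro _ ⟨s, rfl⟩; exact hC s) hi
  refine ⟨β, L, fun l hl => hL hl, hp, fun γ => (h γ).trans ⟨?_, ?_⟩⟩
  · rintro ⟨_, ⟨s, rfl⟩, l, hl, e⟩
    exact ⟨s, l, hl, e⟩
  · rintro ⟨s, l, hl, e⟩
    exact ⟨_, ⟨s, rfl⟩, l, hl, e⟩

end Cfsg.Agent.H15.U5A
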