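import Mathlib
import Cfsg.Agent.H15.O8Q2
import Cfsg.Agent.H92.UL2
import Cfsg.Agent.H96.VbDefs

/-! The field with two elements: more tools for the bit-sliced model. -/

set_option autoImplicit false
set_option linter.unusedSimpArgs false
set_option linter.unnecessarySeqFocus false
set_option linter.unusedSectionVars false
set_option maxRecDepth 100000

namespace Cfsg.Agent.H15.Vb

open Cfsg.Agent.H39 Cfsg.Agent.H15.O8 Cfsg.Agent.H97 Cfsg.Agent.H96.VB Subgroup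
open scoped commutatorElement

/-- The constant one on `2 ^ m` positions. -/
def ones (m : ℕ) : ℕ := 2 ^ 2 ^ m - 1

/-- The `k`-th parameter mask on `2 ^ m` positions. -/
def msk : ℕ → ℕ → ℕ
  | 0, _ => 0
  | m + 1, k => if k = m then ones m <<< 2 ^ m else msk m k ||| msk m k <<< 2 ^ m

theorem ones_bit (m i : ℕ) : (ones m).testBit i = decide (i < 2 ^ m) :=
  Nat.testBit_two_pow_sub_one _ _

theorem msk_high (m k i : ℕ) (h : 2 ^ m ≤ i) : (msk m k).testBit i = false := by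
  induction m generalizing i with
  | zero => simp [msk]
  | succ m ih =>
    rw [pow_succ] at h
    rw [msk]
    split
    · rw [Nat.testBit_shiftLeft, ones_bit, decide_eq_false (show ¬ i - 2 ^ m < 2 ^ m by omega),
        Bool.and_false]
    · rw [Nat.testBit_or, Nat.testBit_shiftLeft, ih i (by omega), ih _ (by omega)]; simp

theorem msk_pick (m : ℕ) (b : ℕ → Bool) : ∃ i < 2 ^ m, ∀ k < m, (msk m k).testBit i = b k := by
  induction m with
  | zero => exact ⟨0, by simp, by simp⟩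
  | succ m ih =>
    obtain ⟨i, hi, h⟩ := ih
    cases hb : b m
    · refine ⟨i, by rw [pow_succ]; omega, fun k hk => ?_⟩
      rw [msk]
      split
      · rename_i e
        rw [e, hb, Nat.testBit_shiftLeft, decide_eq_false (show ¬ i ≥ 2 ^ m by omega),
          Bool.false_and]
      · rw [Nat.testBit_or, Nat.testBit_shiftLeft, decide_eq_false (show ¬ i ≥ 2 ^ m by omega),
          Bool.false_and, Bool.or_false, h k (by omega)]
    · refine ⟨2 ^ m + i, by rw [pow_succ]; omega, fun k hk => ?_⟩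
      rw [msk]
      split
      · rename_i e
        rw [e, hb, Nat.testBit_shiftLeft, ones_bit]
        simp [hi]
      · rw [Nat.testBit_or, Nat.testBit_shiftLeft, msk_high m k _ (by omega), Bool.false_or,
          Nat.add_sub_cancel_left, h k (by omega)]
        simp

/-- The normal form evaluated on a family of elements. -/
def hom (g : Fin 12 → UN) (w : UN) : UN :=
  UN.sm w.a1 (g 0) * UN.sm w.b2 (g 1) * UN.sm w.a2 (g 2) * UN.sm w.a3 (g 3) * UN.sm w.b4 (g 4) *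
    UN.sm w.a4 (g 5) * UN.sm w.a5 (g 6) * UN.sm w.b6 (g 7) * UN.sm w.a6 (g 8) * UN.sm w.a7 (g 9) *
    UN.sm w.b8 (g 10) * UN.sm w.a8 (g 11)

/-- The reflection on `E`. -/
def w1N (g : UN) : UN where
  a1 := 0
  b2 := g.b8
  a2 := g.a8
  a3 := g.a7 ^^^ g.a8 &&& g.b2 ^^^ g.b6 &&& g.b8 ^^^ g.b2 &&& g.b8 &&& g.b8
  b4 := g.b6 ^^^ g.b2 &&& g.b8
  a4 := g.a6 ^^^ g.a2 &&& g.a8 ^^^ g.a3 &&& g.a8 ^^^ g.a5 &&& g.b8 ^^^ g.a7 &&& g.b4 ^^^
    g.a7 &&& g.b2 ^^^ g.a2 &&& g.a8 &&& g.b8 ^^^ g.a3 &&& g.b8 &&& g.b8 ^^^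
    g.a7 &&& g.b2 &&& g.b8 ^^^ g.b4 &&& g.b6 &&& g.b8 ^^^ g.a2 &&& g.b8 &&& g.b8 ^^^
    g.a8 &&& g.b2 &&& g.b2 &&& g.b8 ^^^ g.b2 &&& g.b6 &&& g.b8 ^^^
    g.b2 &&& g.b2 &&& g.b8 &&& g.b8
  a5 := g.a5 ^^^ g.a2 &&& g.a8 ^^^ g.a3 &&& g.b8 ^^^ g.a7 &&& g.b2 ^^^ g.b4 &&& g.b6 ^^^
    g.a8 &&& g.b2 &&& g.b2
  b6 := g.b4 ^^^ g.b2 &&& g.b8
  a6 := g.a4 ^^^ g.a2 &&& g.a7 ^^^ g.a2 &&& g.a8 ^^^ g.a3 &&& g.b6 ^^^ g.a3 &&& g.b8 ^^^
    g.a5 &&& g.b2 ^^^ g.a2 &&& g.a8 &&& g.b2 ^^^ g.a2 &&& g.b8 &&& g.b8 ^^^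
    g.a3 &&& g.b2 &&& g.b8 ^^^ g.b2 &&& g.b4 &&& g.b6 ^^^ g.b2 &&& g.b4 &&& g.b8 ^^^
    g.a8 &&& g.b2 &&& g.b2
  a7 := g.a3 ^^^ g.a2 &&& g.b8 ^^^ g.b2 &&& g.b4
  b8 := g.b2
  a8 := g.a2

universe u

variable {K : Type u} [Field K] {T : Tits K} {i : ℕ}

theorem pickM (hq : ∀ t : K, t = 0 ∨ t = 1) (m : ℕ) (c : ℕ → K) :
    ∃ i, bt K i (ones m) = 1 ∧ ∀ k < m, bt K i (msk m k) = c k := by
  classical
  obtain ⟨i, hi, h⟩ := msk_pick m fun k => decide (c k = 1)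
  refine ⟨i, by simp [bt, ones_bit, hi], fun k hk => ?_⟩
  rcases hq (c k) with e | e <;> simp [bt, h k hk, e]

theorem ev_w1 (g : UN) : ev T i (w1N g) = w1 (ev T i g) := by
  ext <;> simp only [w1, w1N, ev, θ_bt, bt_sq, bt_cube, bt_and, bt_xor (T := T), bt_zero]

theorem ev_hom (g : Fin 12 → UN) (w : UN) :
    ev T i (hom g w) = Φ (fun k t => smU T t (ev T i (g k))) (ev T i w) := by
  simp only [hom, ev_mul, ev_sm]
  simp only [Φ, ev]

theorem bt_of {m : ℕ} (h : m.testBit i = false) : bt K i m = 0 := by simp [bt, h]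

theorem of_bt {m : ℕ} (h : bt K i m = 0) : m.testBit i = false := by
  by_contra h1
  simp [bt, h1] at h

theorem ev_sub {g k : UN} {D : ℕ} (h : g.df k ||| D = D) (hD : D.testBit i = false) :
    ev T i g = ev T i k := (ev_eq_iff _ _).2 (bit_sub h hD)

theorem smU_gen (hq : ∀ t : K, t = 0 ∨ t = 1) (k : Fin 12) (t : K) :
    smU T t (gen T k 1) = gen T k t := by
  rcases hq t with rfl | rfl
  exacts [by rw [smU_zero, gen_zero], smU_one _]

/-- An automorphism from images of the root elements. -/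
theorem aut_of [Finite K] (hq : ∀ t : K, t = 0 ∨ t = 1) (g : Fin 12 → U T)
    (hr : ∀ i j, i ≤ j → g j * g i = Φ (fun k t => smU T t (g k)) (gen T j 1 * gen T i 1))
    (h4 : g 5 ≠ 1) : ∃ β : MulAut (U T), ∀ k, β (gen T k 1) = g k := by
  have h0 : ∀ k, smU T 0 (g k) = 1 := fun k => smU_zero _
  have hr' : ∀ i j, i ≤ j → ∀ t u, smU T u (g j) * smU T t (g i) =
      Φ (fun k t => smU T t (g k)) (gen T j u * gen T i t) := fun i j hij t u => by
    rcases hq t with rfl | rfl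
    · rw [smU_zero, gen_zero, mul_one, mul_one, H75.O8.Φ_gen (g := fun k t => smU T t (g k)) h0]
    rcases hq u with rfl | rfl
    · rw [smU_zero, gen_zero, one_mul, one_mul, H75.O8.Φ_gen (g := fun k t => smU T t (g k)) h0]
    rw [smU_one, smU_one, hr i j hij]
  have fg : ∀ k, H75.O8.liftHom h0 hr' (gen T k 1) = g k := fun k =>
    (H75.O8.liftHom_gen h0 hr' k 1).trans (smU_one _)
  have hi := inj_of_x4 hq (H75.O8.liftHom h0 hr') (fun e => h4 ((fg 5).symm.trans e))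
  exact ⟨MulEquiv.ofBijective _ (Finite.injective_iff_bijective.1 hi), fg⟩

/-- The same, from the model. -/
theorem aut_ev [Finite K] (hq : ∀ t : K, t = 0 ∨ t = 1) {e D : ℕ} (he : bt K i e = 1)
    (hD : D.testBit i = false) (g : Fin 12 → UN)
    (hr : ∀ a b : Fin 12, a ≤ b → (g b * g a).df (hom g (UN.gen b e * UN.gen a e)) ||| D = D)
    (h4 : (g 5).df (UN.x4 e) ||| D = D) :
    ∃ β : MulAut (U T), ∀ k, β (gen T k 1) = ev T i (g k) := by
  refine aut_of hq _ (fun a b hab => ?_) ?_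
  · have := ev_sub (T := T) (hr a b hab) hD
    rwa [ev_mul, ev_hom, ev_mul, ev_gen, ev_gen, he] at this
  · rw [ev_sub h4 hD, ev_x4, he]
    exact fun h => one_ne_zero (congrArg U.a4 h)

section Sw

variable {G : Type u} [Group G] {H : Subgroup G}

/-- `n` maps `a` to `b`. -/
def Mp (n : MulAut H) (a b : G) : Prop := a ∈ H ∧ ext n a = b

variable {n : MulAut H} {a b c d : G}

theorem Mp.one : Mp n 1 1 := ⟨one_mem _, ext_map_one n⟩

theorem Mp.mul (h : Mp n a b) (h' : Mp n c d) : Mp n (a * c) (b * d) :=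
  ⟨mul_mem h.1 h'.1, by rw [ext_map_mul n h.1 h'.1, h.2, h'.2]⟩

theorem Mp.inv (h : Mp n a b) : Mp n a⁻¹ b⁻¹ := ⟨inv_mem h.1, by rw [ext_map_inv n h.1, h.2]⟩

theorem Mp.cm (h : Mp n a b) (h' : Mp n c d) : Mp n ⁅a, c⁆ ⁅b, d⁆ :=
  ((h.mul h').mul h.inv).mul h'.inv

theorem Mp.uq (h : Mp n a b) (h' : Mp n a c) : b = c := h.2.symm.trans h'.2

theorem Mp.mem (h : Mp n a b) : b ∈ H := h.2 ▸ ext_mem n h.1

theorem Mp.comp {m : MulAut H} (h : Mp n a b) (h' : Mp m b c) : Mp (m * n) a c :=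
  ⟨h.1, by rw [ext_mul, h.2, h'.2]⟩

theorem ext_one' (x : G) : ext (1 : MulAut H) x = x := by
  by_cases hx : x ∈ H
  exacts [ext_apply _ hx, ext_of_not_mem _ hx]

theorem Mp.symm (hn : n * n = 1) (h : Mp n a b) : Mp n b a :=
  ⟨h.mem, by rw [← h.2, ← ext_mul, hn, ext_one']⟩

theorem Mp.back (h : Mp n a b) : Mp n⁻¹ b a :=
  ⟨h.mem, by rw [← h.2, ← ext_mul, inv_mul_cancel, ext_one']⟩

theorem Mp.cj {g : G} (hg : g ∈ normalizer (H : Set G)) (ha : a ∈ H) :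
    Mp (conjAut H hg) a (g * a * g⁻¹) := ⟨ha, ext_conjAut hg ha⟩

end Sw

variable {H : Subgroup (U T)} {n : MulAut H}

theorem Mp.sm {a b : U T} {t : K} (ht : t = 0 ∨ t = 1) (h : t = 0 ∨ Mp n a b) :
    Mp n (smU T t a) (smU T t b) := by
  rcases h with rfl | h
  · simpa using Mp.one
  rcases ht with rfl | rfl
  exacts [by simpa using Mp.one, by simpa using h]

theorem Mp.prod {G : Type u} [Group G] {H : Subgroup G} {n : MulAut H} {a b : Fin 12 → G}
    (h : ∀ k, Mp n (a k) (b k)) :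
    Mp n (a 0 * a 1 * a 2 * a 3 * a 4 * a 5 * a 6 * a 7 * a 8 * a 9 * a 10 * a 11)
      (b 0 * b 1 * b 2 * b 3 * b 4 * b 5 * b 6 * b 7 * b 8 * b 9 * b 10 * b 11) :=
  (((((((((((h 0).mul (h 1)).mul (h 2)).mul (h 3)).mul (h 4)).mul (h 5)).mul
    (h 6)).mul (h 7)).mul (h 8)).mul (h 9)).mul (h 10)).mul (h 11)

theorem Φ_eq {G : Type u} [Group G] (g : Fin 12 → K → G) (w : U T) : Φ g w =
    g 0 (coordEquiv w 0) * g 1 (coordEquiv w 1) * g 2 (coordEquiv w 2) * g 3 (coordEquiv w 3) *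
      g 4 (coordEquiv w 4) * g 5 (coordEquiv w 5) * g 6 (coordEquiv w 6) * g 7 (coordEquiv w 7) *
      g 8 (coordEquiv w 8) * g 9 (coordEquiv w 9) * g 10 (coordEquiv w 10) *
      g 11 (coordEquiv w 11) := rfl

theorem Φ_id (w : U T) : Φ (gen T) w = w := by
  rw [Φ_eq]; with_reducible_and_instances exact (nf' w).symm

theorem Mp.phi0 {G : Type u} [Group G] {H : Subgroup G} {n : MulAut H} {f g : Fin 12 → K → G}
    {w : U T} (h : ∀ k, Mp n (f k (coordEquiv w k)) (g k (coordEquiv w k))) :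
    Mp n (Φ f w) (Φ g w) := by
  rw [Φ_eq, Φ_eq]
  exact Mp.prod (a := fun k => f k (coordEquiv w k)) (b := fun k => g k (coordEquiv w k)) h

theorem Mp.phi (hq : ∀ t : K, t = 0 ∨ t = 1) {g : Fin 12 → U T} {w : U T}
    (h : ∀ k, coordEquiv w k = 0 ∨ Mp n (gen T k 1) (g k)) :
    Mp n w (Φ (fun k t => smU T t (g k)) w) := by
  have := Mp.phi0 (n := n) (f := gen T) (g := fun k t => smU T t (g k)) (w := w) fun k => by
    have := Mp.sm (hq _) (h k)
    rwa [smU_gen hq] at this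
  rwa [Φ_id] at this

end Cfsg.Agent.H15.Vb
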