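import Mathlib
import Cfsg.Agent.H15.VbN

/-! The field with two elements: the automizer of `E` is standard after an automorphism. -/

set_option autoImplicit false
set_option linter.unusedSimpArgs false
set_option linter.unnecessarySeqFocus false
set_option linter.unusedSectionVars false
set_option maxRecDepth 100000

namespace Cfsg.Agent.H15.Vb

open Cfsg.Agent.H39 Cfsg.Agent.H15.O8 Cfsg.Agent.H97 Cfsg.Agent.H96.VB Subgroup
open scoped commutatorElement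

namespace NE

/-- The constant one. -/
def e : ℕ := ones 9
/-- The parameters. -/
def p (k : ℕ) : ℕ := msk 9 k
/-- First generator. -/
def A : UN := ⟨0, e, p 0, 0, 0, 0, 0, 0, 0, 0, 0, 0⟩
/-- Second generator. -/
def B : UN := ⟨0, 0, p 1, p 2, p 3, p 4, p 5, p 6, p 7, p 8, e, 0⟩
/-- Third generator. -/
def C : UN := UN.x1 e * B * (UN.x1 e)⁻¹
/-- New root element. -/
def Y4 : UN := A * B * C * C * B⁻¹ * C * B
/-- New root element. -/
def Y6 : UN := B * A * C * C * A⁻¹ * C * A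
/-- The new root elements. -/
def pr (k : Fin 12) : UN :=
  ![UN.x1 e, A, A * A, Y4.cm A, Y4, Y4 * Y4, Y4.cm Y6, Y6, Y6 * Y6, Y6.cm B, B, B * B] k
/-- The condition. -/
def D : ℕ := (A * B * C⁻¹ * B⁻¹).df (B * A * B⁻¹ * C⁻¹)

theorem t0 : (B * A * C⁻¹ * A⁻¹).df (A * B * A⁻¹ * C⁻¹) = 0 := by decide +kernel

theorem t1 : ∀ a b : Fin 12, a ≤ b →
    (pr b * pr a).df (hom pr (UN.gen b e * UN.gen a e)) ||| D = D := by decide +kernel

theorem t2 : (pr 5).df (UN.x4 e) ||| D = D := by decide +kernel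

theorem t3 : (Y6.cm Y4).df (Y4.cm Y6) ||| D = D := by decide +kernel

theorem t4 : (UN.x1 e * A * (UN.x1 e)⁻¹).df A = 0 := by decide +kernel

end NE

universe u

theorem ext_pow_conj {G : Type u} [Group G] {H : Subgroup G} {α : MulAut H} {g : G}
    (h : ∀ x ∈ H, ext α x = g * x * g⁻¹) (m : ℕ) : ∀ x ∈ H, ext (α ^ m) x = g ^ m * x * (g ^ m)⁻¹ := by
  induction m with
  | zero => intro x _; simp [ext_one']
  | succ m ih =>
    intro x hx
    rw [pow_succ, ext_mul, ih _ (ext_mem α hx), h x hx, pow_succ]; group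

theorem dih {G : Type u} [Group G] {c d : G} (hc : c * c = 1) (hd : d * d = 1) (m : ℕ)
    (h3 : ((c * d) ^ m) ^ 3 = 1) : ((c * d) ^ m * c) * ((c * d) ^ m * c) = 1 ∧
      ((c * d) ^ m * c) * c * ((c * d) ^ m * c) = c * ((c * d) ^ m * c) * c := by
  have ci : c⁻¹ = c := inv_eq_of_mul_eq_one_right hc
  have h1 : c * (c * d) * c⁻¹ = (c * d)⁻¹ := by
    rw [← mul_assoc, hc, one_mul, mul_inv_rev, inv_eq_of_mul_eq_one_right hd]
  have h2 : c * (c * d) ^ m * c⁻¹ = ((c * d) ^ m)⁻¹ := by rw [← conj_pow, h1, inv_pow]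
  generalize (c * d) ^ m = τ at h2 h3 ⊢
  rw [ci] at h2
  constructor
  · calc _ = τ * (c * τ * c) := by group
      _ = 1 := by rw [h2, mul_inv_cancel]
  · calc _ = τ * (c * c) * τ * c := by group
      _ = τ ^ 3 * τ⁻¹ * c := by rw [hc, pow_succ, pow_two, mul_inv_cancel_right, mul_one]
      _ = c * τ * c * c := by rw [h3, h2, one_mul]
      _ = _ := by group

variable {K : Type u} [Field K] [Finite K] {T : Tits K}

theorem coreE (hq : ∀ t : K, t = 0 ∨ t = 1) {n c : MulAut (E T)}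
    (hc : ∀ x ∈ E T, ext c x = x1 T 1 * x * (x1 T 1)⁻¹) (hn : n * n = 1)
    (hb : n * c * n = c * n * c) {s : K} {b : U T}
    (h : Mp n ⟨0, 1, s, 0, 0, 0, 0, 0, 0, 0, 0, 0⟩ b) (b2 : b.b2 = 0) (b8 : b.b8 = 1)
    (a8 : b.a8 = 0) : ∃ β : MulAut (U T), ∀ x ∈ E T, ext n (β x) = β (w1 x) := by
  obtain ⟨i, he, hp⟩ := pickM hq 9 fun k =>
    [s, b.a2, b.a3, b.b4, b.a4, b.a5, b.b6, b.a6, b.a7].getD k 0
  have a1 : b.a1 = 0 := h.mem
  have eA : ev T i NE.A = ⟨0, 1, s, 0, 0, 0, 0, 0, 0, 0, 0, 0⟩ := by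
    simp only [ev, NE.A, NE.e, NE.p, bt_zero, he, hp 0 (by decide)]; rfl
  have eB : ev T i NE.B = b := by
    simp only [ev, NE.B, NE.e, NE.p, bt_zero, he, hp 1 (by decide), hp 2 (by decide),
      hp 3 (by decide), hp 4 (by decide), hp 5 (by decide), hp 6 (by decide), hp 7 (by decide),
      hp 8 (by decide)]
    ext <;> simp [a1, b2, b8, a8]
  have eX : ev T i (UN.x1 NE.e) = x1 T 1 := by rw [ev_x1, NE.e, he]
  rw [← eA, ← eB] at h
  have h' := h.symm hn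
  have hC : Mp n (ev T i NE.C) (ev T i NE.C) := by
    have c1 : Mp c (ev T i NE.B) (ev T i NE.C) :=
      ⟨h'.1, by rw [hc _ h'.1, NE.C, ev_mul, ev_mul, ev_inv, eX]⟩
    have c2 : Mp c (ev T i NE.A) (ev T i NE.A) := ⟨h.1, by
      rw [hc _ h.1, ← eX, ← ev_inv, ← ev_mul, ← ev_mul]; exact ev_of_df NE.t4⟩
    have c3 := (c2.comp h).comp c1
    rw [← mul_assoc, ← hb] at c3
    refine ⟨c1.mem, ?_⟩
    have := c3.2
    rwa [ext_mul, ext_mul, h.2, c1.2] at this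
  have hD : NE.D.testBit i = false := by
    have := ev_of_df (T := T) (i := i) NE.t0
    rw [NE.D, ← ev_eq_iff (T := T)]
    simp only [ev_mul, ev_inv] at this ⊢
    exact (((h'.mul h).mul hC.inv).mul h.inv).uq (this ▸ ((h.mul h').mul h.inv).mul hC.inv)
  obtain ⟨β, hβ⟩ := aut_ev (T := T) hq he hD NE.pr NE.t1 NE.t2
  have h4 : Mp n (ev T i NE.Y4) (ev T i NE.Y6) := by
    simp only [NE.Y4, NE.Y6, ev_mul, ev_inv]
    have := (((((h.mul h').mul hC).mul hC).mul h'.inv).mul hC).mul h'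
    with_reducible_and_instances exact this
  have h6 := h4.symm hn
  have h5 := ev_sub (T := T) NE.t3 hD
  rw [ev_cm, ev_cm] at h5
  have key : ∀ k : Fin 12, 0 < k → Mp n (ev T i (NE.pr k))
      (ev T i (NE.pr (![0, 10, 11, 9, 7, 8, 6, 4, 5, 3, 1, 2] k))) := fun k hk => by
    rcases H75.O8.fin12 k with rfl | rfl | rfl | rfl | rfl | rfl | rfl | rfl | rfl | rfl | rfl | rfl <;>
      simp only [NE.pr, Matrix.cons_val, ev_mul, ev_cm]
    exacts [absurd hk (by decide), h, h.mul h, h4.cm h, h4, h4.mul h4, h5 ▸ h4.cm h6, h6, h6.mul h6,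
      h6.cm h', h', h'.mul h']
  refine ⟨β, fun x hx => (E_ind (P := fun x => Mp n (β x) (β (w1 x))) ?_ ?_ x hx).2⟩
  · intro u hu v hv h1 h2
    rw [w1_mul hu hv, map_mul, map_mul]
    exact h1.mul h2
  · intro k hk t
    rw [w1_gen k hk]
    rcases hq t with rfl | rfl
    · rw [gen_zero, gen_zero, map_one]; exact Mp.one
    rw [hβ, hβ]
    exact key k hk

theorem y8J {n : MulAut (E T)} (h : Mp n (x4 T 1) (x6 T 1)) :
    (ext n (y2 T 1)).b2 = 0 ∧ (ext n (y2 T 1)).b8 ≠ 0 := by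
  have h2 : Mp n (y2 T 1) _ := ⟨rfl, rfl⟩
  have h5 : Mp n (x5 T 1) _ := ⟨rfl, rfl⟩
  have hR : ext n (x5 T 1) ∈ R T := by
    rw [ext_apply n h5.1]
    refine H92.UL.step n H92.UL.charR (H92.UL.step n H92.UL.charW fun v hv => ?_) _ (by o8s)
    rw [mem_bot, OneMemClass.coe_eq_one] at hv ⊢
    rw [hv, map_one]
  have e : ⁅y2 T 1, x5 T 1⁆ = x4 T 1 := by o8s; o8ring T
  have := (e ▸ h2.cm h5).uq h
  have hE : (ext n (y2 T 1)).a1 = 0 := h2.mem
  generalize ext n (y2 T 1) = b at this hE ⊢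
  generalize ext n (x5 T 1) = r at this hR
  obtain ⟨r1, r2, r3, r4, r5, r6, r7, r8, r9⟩ := hR
  have e4 := congrArg U.a4 this
  have e6 := congrArg U.a6 this
  o8s at e4 e6
  simp only [r1, r2, r3, r4, r5, r6, r7, r8, r9, hE, map_zero, mul_zero, zero_mul, add_zero, zero_add,
    ne_eq, OfNat.ofNat_ne_zero, not_false_eq_true, zero_pow] at e4 e6
  have f4 : b.b2 * r.a5 = 0 := by revert e4; o8ring T
  have f6 : b.b8 * r.a5 = 1 := by revert e6; o8ring T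
  exact ⟨by linear_combination b.b8 * f4 - b.b2 * f6, left_ne_zero_of_mul_eq_one f6⟩

theorem twoE : TwoEStmt T := by
  intro hK A hA hker ⟨n, hn, hs⟩
  have hq := eq01 hK
  have hx : x1 T 1 ∈ normalizer (E T : Set (U T)) := by
    have := nE (T := T); rw [normalizer_eq_top]; exact mem_top _
  have hc : ∀ x ∈ E T, ext (conjAut (E T) hx) x = x1 T 1 * x * (x1 T 1)⁻¹ := fun x => ext_conjAut hx
  have cA := hA.cj _ _ hc
  generalize conjAut (E T) hx = c at hc cA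
  have two := T.two_eq_zero
  have c2 : c * c = 1 := aut_eq_one fun x hx => by
    have : x1 T 1 * x1 T 1 = 1 := by o8s; linear_combination two
    rw [ext_mul, hc _ (ext_mem c hx), hc x hx]
    calc _ = (x1 T 1 * x1 T 1) * x * (x1 T 1 * x1 T 1)⁻¹ := by group
      _ = x := by rw [this]; group
  have d2 : (n * c * n⁻¹) * (n * c * n⁻¹) = 1 := by
    calc _ = n * (c * c) * n⁻¹ := by group
      _ = 1 := by rw [c2]; group
  have n4 : Mp n (x4 T 1) (x6 T 1) := ⟨rfl, (hs 1).1⟩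
  have n6 : Mp n (x6 T 1) (x4 T 1) := ⟨rfl, (hs 1).2⟩
  have e46 : x6 T 1 * x4 T 1 = x4 T 1 * x6 T 1 := by o8s
  have nz : Mp n (x4 T 1 * x6 T 1) (x4 T 1 * x6 T 1) := by
    have := n4.mul n6
    rwa [e46] at this
  have c4 : Mp c (x4 T 1) (x4 T 1) := ⟨rfl, by rw [hc _ rfl]; o8s; o8ring T⟩
  have c6 : Mp c (x6 T 1) (x4 T 1 * x6 T 1) := ⟨rfl, by rw [hc _ rfl]; o8s; o8ring T⟩
  have cz := c6.symm c2
  have r4 : Mp (c * (n * c * n⁻¹)) (x4 T 1) (x6 T 1) := by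
    rw [mul_assoc n]; exact ((n6.back.comp c6).comp nz).comp cz
  have r6 : Mp (c * (n * c * n⁻¹)) (x6 T 1) (x4 T 1 * x6 T 1) := by
    rw [mul_assoc n]; exact ((n4.back.comp c4).comp n4).comp c6
  have rz : Mp (c * (n * c * n⁻¹)) (x4 T 1 * x6 T 1) (x4 T 1) := by
    rw [mul_assoc n]; exact ((nz.back.comp cz).comp n6).comp c4
  have ρA : c * (n * c * n⁻¹) ∈ A := mul_mem cA (mul_mem (mul_mem hn cA) (inv_mem hn))
  have key := dih c2 d2
  generalize c * (n * c * n⁻¹) = ρ at r4 r6 rz ρA key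
  have e3 : ρ ^ 3 = ρ * (ρ * ρ) := by rw [pow_succ', pow_two]
  have s4 : Mp (ρ ^ 3) (x4 T 1) (x4 T 1) := e3 ▸ (r4.comp r6).comp rz
  have s6 : Mp (ρ ^ 3) (x6 T 1) (x6 T 1) := e3 ▸ (r6.comp rz).comp r4
  obtain ⟨g, -, hg⟩ := hker _ (pow_mem ρA 3) fun w hw => by
    have e : w = smU T w.a4 (x4 T 1) * smU T w.a6 (x6 T 1) := by
      obtain ⟨r1, r2, r3, r4, r5, r6, r7, r8, r9, r10⟩ := hw
      simp only [smU]; o8s; simp only [*, and_self]
    have := ((Mp.sm (hq w.a4) (.inr s4)).mul (Mp.sm (hq w.a6) (.inr s6))).2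
    rwa [← e] at this
  obtain ⟨k, hk⟩ := isPGroup_U (T := T) g
  have h1 : (ρ ^ 3) ^ 2 ^ k = 1 := aut_eq_one fun x hx => by
    rw [ext_pow_conj hg _ x hx, hk]; group
  obtain ⟨m, hm⟩ : ∃ m, 4 ^ k = 1 + 3 * m := by
    have : 4 ^ k % 3 = 1 := by rw [Nat.pow_mod]; simp
    exact ⟨4 ^ k / 3, by omega⟩
  obtain ⟨n2, br⟩ := key (4 ^ k) (by
    rw [← pow_mul, mul_comm (4 ^ k) 3, show 4 ^ k = 2 ^ k * 2 ^ k from mul_pow 2 2 k, pow_mul,
      pow_mul (ρ ^ 3), h1, one_pow])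
  have m4 : Mp (ρ ^ 4 ^ k * c) (x4 T 1) (x6 T 1) := by
    rw [hm, pow_add, pow_one, pow_mul]
    exact c4.comp (Mp.comp ⟨rfl, ext_pow_of_fixed _ s4.2 m⟩ r4)
  have mA : ρ ^ 4 ^ k * c ∈ A := mul_mem (pow_mem ρA _) cA
  generalize ρ ^ 4 ^ k * c = n' at n2 br m4 mA
  obtain ⟨b2, b8⟩ := y8J m4
  have b8' := (hq _).resolve_left b8
  have h2 : Mp n' (y2 T 1) _ := ⟨rfl, rfl⟩
  rcases hq (ext n' (y2 T 1)).a8 with a8 | a8
  · obtain ⟨β, hβ⟩ := coreE hq hc n2 br (s := 0) h2 b2 b8' a8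
    exact ⟨β, n', mA, hβ⟩
  · have h3 := h2.inv
    have a1 : (ext n' (y2 T 1)).a1 = 0 := h2.mem
    rw [show (y2 T 1)⁻¹ = ⟨0, 1, 1, 0, 0, 0, 0, 0, 0, 0, 0, 0⟩ by o8s] at h3
    obtain ⟨β, hβ⟩ := coreE hq hc n2 br h3 (by rw [U.inv_b2, b2, a1, zero_mul, add_zero])
      (by rw [U.inv_b8, b8']) (by rw [U.inv_a8, a8, b8', map_one]; linear_combination two)
    exact ⟨β, n', mA, hβ⟩

end Cfsg.Agent.H15.Vb
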