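import Mathlib
import Cfsg.Agent.H15.VbN

/-! The field with two elements: the computations for the automizer of `Q`. -/

set_option autoImplicit false
set_option maxRecDepth 100000

namespace Cfsg.Agent.H15.Vb.NQ

open Cfsg.Agent.H15.O8

/-- The constant one. -/
def e : ℕ := ones 15
/-- The parameters. -/
def p (k : ℕ) : ℕ := msk 15 k
/-- The image of `x1`. -/
def X7 : UN := ⟨0, 0, 0, p 0, 0, p 1, p 2, 0, p 3, e, 0, 0⟩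
/-- The image of `y2`. -/
def Y6 : UN := ⟨0, 0, p 4, p 5, p 6, p 7, p 8, e, p 9, 0, 0, 0⟩
/-- The image of `y4`. -/
def Y4 : UN := ⟨0, 0, p 10, p 11, e, p 12, p 13, 0, p 14, 0, 0, 0⟩
/-- The images of the root elements in `D`. -/
def FD (k : Fin 12) : UN :=
  ![UN.x1 0, UN.x1 0, Y6 * Y6, Y4.cm Y6, Y4, Y4 * Y4, Y4.cm (UN.y2 e), UN.x1 0, Y4.cm (UN.x1 e),
    UN.x1 0, UN.x1 0, UN.x1 0] k
/-- The images of the root elements in `Q`. -/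
def F (k : Fin 12) : UN :=
  ![X7, Y6, FD 2, FD 3, FD 4, FD 5, FD 6, UN.y2 e * (hom FD ((UN.y6 e)⁻¹ * Y6))⁻¹, FD 8,
    UN.x1 e * (hom FD ((UN.x7 e)⁻¹ * X7))⁻¹, UN.x1 0, UN.x1 0] k
/-- Conjugation by `y8`. -/
def cj (g : UN) : UN := UN.y8 e * g * (UN.y8 e)⁻¹
/-- The relation of the Suzuki group. -/
def al (g : UN) : UN := hom F (cj (hom F (cj (cj (hom F (cj (cj (cj g))))))))
/-- A commutator relation. -/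
def cnd (a b : Fin 12) : ℕ := (F b * F a).df (hom F (UN.gen b e * UN.gen a e))
/-- An invariant of the class of `y2`. -/
def i2 (g : UN) : ℕ := g.a2 ||| (g.a5 ^^^ g.a6)
/-- An invariant of the class of `y4`. -/
def i4 (g : UN) : ℕ := g.a4 ^^^ g.a2 &&& g.a6 ^^^ g.a3 &&& g.a5
/-- The conditions. -/
def D : ℕ := cnd 0 1 ||| cnd 0 4 ||| cnd 1 9 ||| (hom F Y4).df (UN.y4 e) ||| i2 (al (UN.y2 e)) |||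
  i4 (al (UN.y4 e))
/-- The images of the root elements under the exceptional automorphism. -/
def B (e : ℕ) (k : Fin 12) : UN :=
  ![⟨e, 0, 0, 0, 0, 0, 0, 0, 0, 0, 0, 0⟩, ⟨0, e, 0, e, 0, 0, e, 0, 0, 0, 0, 0⟩,
    ⟨0, 0, e, 0, 0, e, 0, 0, 0, 0, 0, 0⟩, ⟨0, 0, 0, e, 0, e, 0, 0, 0, 0, 0, 0⟩,
    ⟨0, 0, e, e, e, 0, e, 0, e, 0, 0, 0⟩, ⟨0, 0, 0, 0, 0, e, 0, 0, 0, 0, 0, 0⟩,
    ⟨0, 0, 0, 0, 0, e, e, 0, 0, 0, 0, 0⟩, ⟨0, 0, e, e, 0, 0, e, e, 0, 0, 0, 0⟩,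
    ⟨0, 0, 0, 0, 0, e, 0, 0, e, 0, 0, 0⟩, ⟨0, 0, 0, e, 0, 0, 0, 0, 0, e, 0, 0⟩,
    ⟨0, e, 0, 0, e, 0, 0, 0, 0, 0, e, 0⟩, ⟨0, 0, e, 0, e, 0, e, e, 0, 0, 0, e⟩] k
/-- The two cases. -/
def σ : ℕ := p 4 ^^^ p 5
/-- The new root elements. -/
def Bσ (k : Fin 12) : UN := UN.sm σ (B e k) * UN.gen k (σ ^^^ e)
/-- The conjugating element. -/
def Ec : UN :=
  ⟨p 5, p 11, p 1 ^^^ p 5 ^^^ p 0 &&& p 2 ^^^ p 0 &&& p 5 ^^^ p 2 &&& p 5 ^^^ p 3 &&& p 5,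
    p 0 ^^^ p 2 ^^^ p 5 ^^^ p 7 ^^^ p 0 &&& p 5 ^^^ p 2 &&& p 3 ^^^ p 3 &&& p 5, p 8, 0,
    p 0 ^^^ p 2 ^^^ p 7 ^^^ p 2 &&& p 3 ^^^ p 3 &&& p 5, p 11, p 1 ^^^ p 2 ^^^ p 5 ^^^ p 3 &&& p 5,
    p 5, 0, 0⟩
/-- The general element of `Q`. -/
def Qg : UN := ⟨UN.p0, UN.p1, UN.p2, UN.p3, UN.p4, UN.p5, UN.p6, UN.p7, UN.p8, UN.p9, 0, 0⟩
/-- A conjugating element for `E`. -/
def Sc : UN := ⟨1, 1, 0, 0, 0, 0, 0, 0, 0, 0, 1, 1⟩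

theorem t0 : (UN.y2 e * UN.y2 e).df (UN.x2 e) = 0 ∧ ((UN.y4 e).cm (UN.y2 e)).df (UN.x3 e) = 0 ∧
    (UN.y4 e * UN.y4 e).df (UN.x4 e) = 0 ∧ ((UN.y4 e).cm Y6).df (UN.x5 e) = 0 ∧
    ((UN.y4 e).cm X7).df (UN.x6 e) = 0 := by decide +kernel

theorem t1 : ∀ k : Fin 12, k < 10 → (hom F (Bσ k)).df
    (Ec * Bσ (![9, 7, 8, 6, 4, 5, 3, 1, 2, 0, 0, 0] k) * Ec⁻¹) ||| D = D := by decide +kernel

theorem t2 : i2 (Qg * UN.y2 UN.e * Qg⁻¹) = 0 ∧ i4 (Qg * UN.y4 UN.e * Qg⁻¹) = 0 := by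
  decide +kernel

theorem t3 : ∀ a b : Fin 12, a ≤ b →
    (B 1 b * B 1 a).df (hom (B 1) (UN.gen b 1 * UN.gen a 1)) ||| 0 = 0 := by decide +kernel

theorem t4 : (B 1 5).df (UN.x4 1) ||| 0 = 0 := by decide +kernel

theorem t5 : ∀ k : Fin 12, 0 < k → (B 1 k).a1 = 0 ∧
    (B 1 (![0, 10, 11, 9, 7, 8, 6, 4, 5, 3, 1, 2] k)).df
      (Sc * w1N (UN.x1 1 * B 1 k * (UN.x1 1)⁻¹) * Sc⁻¹) = 0 := by decide +kernel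

theorem t6 : ∀ k : Fin 12, k < 10 → (B 1 k).b8 = 0 ∧ (B 1 k).a8 = 0 := by decide +kernel

end Cfsg.Agent.H15.Vb.NQ
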