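import Mathlib
import Cfsg.Agent.H15.VbQ1

/-! The field with two elements: the automizer of `Q` is standard after an automorphism. -/

set_option autoImplicit false
set_option linter.unusedSimpArgs false
set_option linter.unnecessarySeqFocus false
set_option linter.unusedSectionVars false
set_option maxRecDepth 100000

namespace Cfsg.Agent.H15.Vb

open Cfsg.Agent.H39 Cfsg.Agent.H15.O8 Cfsg.Agent.H97 Cfsg.Agent.H96.VB Subgroup
open scoped commutatorElement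

universe u

variable {K : Type u} [Field K] [Finite K] {T : Tits K}

/-- The image in `Q / D`. -/
def br (g : U T) : K × K × K × K := (g.a1, g.b2, g.b6, g.a7)

theorem memD {a b : U T} (ha : a ∈ Q T) (hb : b ∈ Q T) : a⁻¹ * b ∈ D T ↔ br b = br a := by
  obtain ⟨a1, a2⟩ := ha
  obtain ⟨b1, b2⟩ := hb
  have c : ∀ x y : K, x + y = 0 ↔ x = y := fun x y =>
    ⟨fun h => by linear_combination h - y * T.two_eq_zero,
      fun h => by linear_combination h + y * T.two_eq_zero⟩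
  o8s
  simp only [a1, a2, b1, b2, br, Prod.mk.injEq, map_zero, mul_zero, zero_mul, add_zero, ne_eq,
    OfNat.ofNat_ne_zero, not_false_eq_true, zero_pow, c, and_true]

/-- The action on `Q / D`. -/
def Ac (α : MulAut (Q T)) (φ : K × K × K × K → K × K × K × K) : Prop :=
  ∀ x ∈ Q T, br (ext α x) = φ (br x)

theorem Ac.mul {α β : MulAut (Q T)} {φ ψ : K × K × K × K → K × K × K × K} (h : Ac α φ)
    (h' : Ac β ψ) : Ac (α * β) (φ ∘ ψ) := fun x hx => by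
  rw [ext_mul, h _ (ext_mem β hx), h' x hx]; rfl

/-- The action of the reflection. -/
def om (v : K × K × K × K) : K × K × K × K := (v.2.2.2, v.2.2.1, v.2.1, v.1)

/-- The action of `y8`. -/
def ga (v : K × K × K × K) : K × K × K × K :=
  (v.1, v.2.1 + v.1, v.2.2.1 + v.2.1 + v.1, v.2.2.2 + v.2.2.1 + v.1)

theorem Ac.inv {α : MulAut (Q T)} (h : Ac α om) : Ac α⁻¹ om := fun x hx => by
  have := h _ (ext_mem α⁻¹ hx)
  rw [← ext_mul, mul_inv_cancel, ext_one'] at this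
  rw [this]; rfl

theorem ac_y8 {c : MulAut (Q T)} (hc : ∀ x ∈ Q T, ext c x = y8 T 1 * x * (y8 T 1)⁻¹) : Ac c ga :=
  fun x hx => by
    rw [hc x hx]
    simp only [br, ga, Prod.mk.injEq]
    o8s

theorem vec12 {α : Type*} (a0 a1 a2 a3 a4 a5 a6 a7 a8 a9 a10 a11 : α) (f : Fin 12 → α)
    (h : ∀ k, f k = ![a0, a1, a2, a3, a4, a5, a6, a7, a8, a9, a10, a11] k) :
    f 0 = a0 ∧ f 1 = a1 ∧ f 2 = a2 ∧ f 3 = a3 ∧ f 4 = a4 ∧ f 5 = a5 ∧ f 6 = a6 ∧ f 7 = a7 ∧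
      f 8 = a8 ∧ f 9 = a9 :=
  ⟨h 0, h 1, h 2, h 3, h 4, h 5, h 6, h 7, h 8, h 9⟩

theorem cls (hq : ∀ t : K, t = 0 ∨ t = 1) {g : U T} (hg : g ∈ Q T) {i : ℕ} {a b : UN}
    (ha : ev T i a = g * y2 T 1 * g⁻¹) (hb : ev T i b = g * y4 T 1 * g⁻¹) :
    (NQ.i2 a).testBit i = false ∧ (NQ.i4 b).testBit i = false := by
  obtain ⟨j, e, e0, e1, e2, e3, e4, e5, e6, e7, e8, e9⟩ :=
    pick hq g.a1 g.b2 g.a2 g.a3 g.b4 g.a4 g.a5 g.b6 g.a6 g.a7
  have eg : ev T j NQ.Qg = g := by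
    simp only [ev, NQ.Qg, bt_zero, e0, e1, e2, e3, e4, e5, e6, e7, e8, e9]
    ext <;> simp [hg.1, hg.2]
  rw [← eg, ← e, ← ev_y2, ← ev_inv, ← ev_mul, ← ev_mul] at ha
  rw [← eg, ← e, ← ev_y4, ← ev_inv, ← ev_mul, ← ev_mul] at hb
  obtain ⟨t2, t4⟩ := NQ.t2
  generalize NQ.Qg * UN.y2 UN.e * NQ.Qg⁻¹ = a' at ha t2
  generalize NQ.Qg * UN.y4 UN.e * NQ.Qg⁻¹ = b' at hb t4
  have u2 : (NQ.i2 a').testBit j = false := by rw [t2, Nat.zero_testBit]
  have u4 : bt K j (NQ.i4 b') = 0 := by rw [t4, bt_zero]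
  simp only [ev, U.mk.injEq] at ha hb
  constructor
  · rw [NQ.i2, Nat.testBit_or, Bool.or_eq_false_iff] at u2 ⊢
    refine ⟨of_bt (K := K) ?_, of_bt (K := K) ?_⟩
    · rw [ha.2.2.1, bt_of u2.1]
    · have := bt_of (K := K) u2.2
      rw [bt_xor (T := T)] at this ⊢
      rw [ha.2.2.2.2.2.2.1, ha.2.2.2.2.2.2.2.2.1, this]
  · refine of_bt (K := K) ?_
    simp only [NQ.i4, bt_xor (T := T), bt_and] at u4 ⊢
    simp only [hb, u4]

theorem bt_one : bt K 0 1 = 1 := by simp [bt]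

theorem exB (hq : ∀ t : K, t = 0 ∨ t = 1) : ∃ β : MulAut (U T),
    (∀ k, β (gen T k 1) = ev T 0 (NQ.B 1 k)) ∧
    ∃ s s' : U T, ∀ x ∈ E T, β (w1 x) = s * w1 (s' * β x * s'⁻¹) * s⁻¹ := by
  obtain ⟨β, hβ⟩ := aut_ev (T := T) hq bt_one (Nat.zero_testBit 0) (NQ.B 1) NQ.t3 NQ.t4
  refine ⟨β, hβ, ev T 0 NQ.Sc, x1 T 1, fun x hx => (E_ind (P := fun x => β x ∈ E T ∧
    β (w1 x) = ev T 0 NQ.Sc * w1 (x1 T 1 * β x * (x1 T 1)⁻¹) * (ev T 0 NQ.Sc)⁻¹) ?_ ?_ x hx).2⟩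
  · intro u hu v hv h1 h2
    rw [w1_mul hu hv, map_mul, map_mul, h1.2, h2.2]
    refine ⟨mul_mem h1.1 h2.1, ?_⟩
    rw [show x1 T 1 * (β u * β v) * (x1 T 1)⁻¹ =
      (x1 T 1 * β u * (x1 T 1)⁻¹) * (x1 T 1 * β v * (x1 T 1)⁻¹) by group,
      w1_mul (nE.conj_mem _ h1.1 _) (nE.conj_mem _ h2.1 _)]
    group
  · intro k hk t
    rw [w1_gen k hk]
    rcases hq t with rfl | rfl
    · rw [gen_zero, gen_zero, map_one, mul_one, mul_inv_cancel,
        show w1 (1 : U T) = 1 by ext <;> simp [w1], mul_one, mul_inv_cancel]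
      exact ⟨one_mem _, rfl⟩
    obtain ⟨h1, h2⟩ := NQ.t5 k hk
    have := ev_of_df (T := T) (i := 0) h2
    rw [ev_mul, ev_mul, ev_w1, ev_mul, ev_mul, ev_inv, ev_inv, ev_x1, bt_one] at this
    rw [hβ, hβ]
    exact ⟨by simp only [mem_E, ev, h1, bt_zero], this⟩

theorem ev_B {i e : ℕ} (he : bt K i e = 1) (k : Fin 12) :
    ev T i (NQ.B e k) = ev T 0 (NQ.B 1 k) := by
  rcases H75.O8.fin12 k with rfl | rfl | rfl | rfl | rfl | rfl | rfl | rfl | rfl | rfl | rfl | rfl <;>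
    simp only [NQ.B, Matrix.cons_val, ev, bt_zero, he, bt_one]

section core

variable (hq : ∀ t : K, t = 0 ∨ t = 1) {n c : MulAut (Q T)} (hn : n * n = 1) {i : ℕ}
  (he : bt K i NQ.e = 1)
include hq hn

theorem params (ha : Ac n om) : ∃ i, bt K i NQ.e = 1 ∧ Mp n (x1 T 1) (ev T i NQ.X7) ∧
    Mp n (y2 T 1) (ev T i NQ.Y6) ∧ Mp n (y4 T 1) (ev T i NQ.Y4) := by
  have h1 : Mp n (x1 T 1) _ := ⟨⟨rfl, rfl⟩, rfl⟩
  have h2 : Mp n (y2 T 1) _ := ⟨⟨rfl, rfl⟩, rfl⟩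
  have h4 : Mp n (y4 T 1) _ := ⟨⟨rfl, rfl⟩, rfl⟩
  have a1 := ha _ h1.1
  have a2 := ha _ h2.1
  have a4 := ha _ h4.1
  generalize ext n (x1 T 1) = x at h1 a1
  generalize ext n (y2 T 1) = y at h2 a2
  generalize ext n (y4 T 1) = z at h4 a4
  simp only [br, om, x1, y2, y4, Prod.mk.injEq] at a1 a2 a4
  obtain ⟨x1', x2', x3', x4'⟩ := a1
  obtain ⟨y1', y2', y3', y4'⟩ := a2
  obtain ⟨z1', z2', z3', z4'⟩ := a4
  obtain ⟨x5', x6'⟩ := h1.mem
  obtain ⟨y5', y6'⟩ := h2.mem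
  obtain ⟨z5', z6'⟩ := h4.mem
  have hx : x.a2 = 0 ∧ x.b4 = 0 := by
    have e : x1 T 1 * x1 T 1 = 1 := by o8s; linear_combination T.two_eq_zero
    have e0 := h1.mul h1
    rw [e] at e0
    have e' := e0.uq Mp.one
    rcases invQ x x1' h1.mem e' with h | h
    · exact absurd (x4'.symm.trans h.2.2.2.2.1) one_ne_zero
    · exact ⟨h.2.2.1, h.2.2.2.1⟩
  have hz : z.b4 = 1 := (hq _).resolve_left fun h => by
    have e := sqV z ⟨z1', z2', h, z3', z4', z5', z6'⟩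
    have e0 := (h4.mul h4).symm hn
    rw [e] at e0
    have := congrArg U.a4 (e0.uq Mp.one)
    revert this; o8s; exact one_ne_zero
  obtain ⟨i, he, hp⟩ := pickM hq 15 fun k => [x.a3, x.a4, x.a5, x.a6, y.a2, y.a3, y.b4, y.a4, y.a5,
    y.a6, z.a2, z.a3, z.a4, z.a5, z.a6].getD k 0
  have eX : ev T i NQ.X7 = x := by
    simp only [ev, NQ.X7, NQ.p, NQ.e, bt_zero, he, hp 0 (by decide), hp 1 (by decide),
      hp 2 (by decide), hp 3 (by decide)]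
    ext <;> simp [*]
  have eY : ev T i NQ.Y6 = y := by
    simp only [ev, NQ.Y6, NQ.p, NQ.e, bt_zero, he, hp 4 (by decide), hp 5 (by decide),
      hp 6 (by decide), hp 7 (by decide), hp 8 (by decide), hp 9 (by decide)]
    ext <;> simp [*]
  have eZ : ev T i NQ.Y4 = z := by
    simp only [ev, NQ.Y4, NQ.p, NQ.e, bt_zero, he, hp 10 (by decide), hp 11 (by decide),
      hp 12 (by decide), hp 13 (by decide), hp 14 (by decide)]
    ext <;> simp [*]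
  exact ⟨i, by rw [NQ.e, he], by rwa [eX], by rwa [eY], by rwa [eZ]⟩

variable (h1 : Mp n (x1 T 1) (ev T i NQ.X7)) (h2 : Mp n (y2 T 1) (ev T i NQ.Y6))
  (h4 : Mp n (y4 T 1) (ev T i NQ.Y4))
include he h1 h2 h4

theorem mpD (k : Fin 12) (hk : k ∈ [2, 3, 4, 5, 6, 8]) : Mp n (gen T k 1) (ev T i (NQ.FD k)) := by
  obtain ⟨t2, t3, t4, t5, t6⟩ := NQ.t0
  replace t2 := ev_of_df (T := T) (i := i) t2
  replace t3 := ev_of_df (T := T) (i := i) t3
  replace t4 := ev_of_df (T := T) (i := i) t4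
  replace t5 := ev_of_df (T := T) (i := i) t5
  replace t6 := ev_of_df (T := T) (i := i) t6
  o8ev at t2 t3 t4 t5 t6
  simp only [he] at t2 t3 t4 t5 t6
  simp only [List.mem_cons, List.not_mem_nil, or_false] at hk
  rcases hk with rfl | rfl | rfl | rfl | rfl | rfl <;>
    simp only [NQ.FD, Matrix.cons_val, ev_mul, ev_cm, ev_y2, ev_x1, he, H75.O8.gen2,
      H75.O8.gen3, H75.O8.gen4, H75.O8.gen5, H75.O8.gen6, H75.O8.gen8, ← t2, ← t3, ← t4, ← t5,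
      ← t6]
  exacts [h2.mul h2, h4.cm h2, h4, h4.mul h4, h4.cm (h2.symm hn), h4.cm (h1.symm hn)]

theorem fD (w : UN) (hw : ev T i w ∈ D T) : Mp n (ev T i w) (ev T i (hom NQ.FD w)) := by
  have hD := mpD hq hn he h1 h2 h4
  rw [ev_hom]
  refine Mp.phi hq fun k => ?_
  obtain ⟨d0, d1, d7, d9, d10, d11⟩ := hw
  rcases H75.O8.fin12 k with rfl | rfl | rfl | rfl | rfl | rfl | rfl | rfl | rfl | rfl | rfl | rfl
  exacts [.inl d0, .inl d1, .inr (hD _ (by decide)), .inr (hD _ (by decide)),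
    .inr (hD _ (by decide)), .inr (hD _ (by decide)), .inr (hD _ (by decide)), .inl d7,
    .inr (hD _ (by decide)), .inl d9, .inl d10, .inl d11]

variable (ha : Ac n om)
include ha

theorem mpF (k : Fin 12) (hk : k < 10) : Mp n (gen T k 1) (ev T i (NQ.F k)) := by
  have hD := mpD hq hn he h1 h2 h4
  have dX : (x7 T 1)⁻¹ * ev T i NQ.X7 ∈ D T :=
    (memD ⟨rfl, rfl⟩ h1.mem).2 (by rw [← h1.2, ha _ h1.1]; rfl)
  have dY : (y6 T 1)⁻¹ * ev T i NQ.Y6 ∈ D T :=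
    (memD ⟨rfl, rfl⟩ h2.mem).2 (by rw [← h2.2, ha _ h2.1]; rfl)
  have e7 : ev T i ((UN.y6 NQ.e)⁻¹ * NQ.Y6) = (y6 T 1)⁻¹ * ev T i NQ.Y6 := by
    rw [ev_mul, ev_inv, ev_y6, he]
  have e9 : ev T i ((UN.x7 NQ.e)⁻¹ * NQ.X7) = (x7 T 1)⁻¹ * ev T i NQ.X7 := by
    rw [ev_mul, ev_inv, ev_x7, he]
  have f7 := (h2.symm hn).mul (fD hq hn he h1 h2 h4 _ (by rwa [e7])).inv
  have f9 := (h1.symm hn).mul (fD hq hn he h1 h2 h4 _ (by rwa [e9])).inv
  rw [e7, mul_inv_rev, mul_inv_cancel_left, inv_inv] at f7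
  rw [e9, mul_inv_rev, mul_inv_cancel_left, inv_inv] at f9
  obtain ⟨v0, v1, v2, v3, v4, v5, v6, v7, v8, v9⟩ := vec12 _ _ _ _ _ _ _ _ _ _ _ _ NQ.F NQ.F.eq_1
  rcases H75.O8.fin12 k with rfl | rfl | rfl | rfl | rfl | rfl | rfl | rfl | rfl | rfl | rfl | rfl
  · rw [v0]; exact h1
  · rw [v1]; exact h2
  · rw [v2]; exact hD _ (by decide)
  · rw [v3]; exact hD _ (by decide)
  · rw [v4]; exact hD _ (by decide)
  · rw [v5]; exact hD _ (by decide)
  · rw [v6]; exact hD _ (by decide)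
  · rw [v7, ev_mul, ev_inv, ev_y2, he]; exact f7
  · rw [v8]; exact hD _ (by decide)
  · rw [v9, ev_mul, ev_inv, ev_x1, he]; exact f9
  · exact absurd hk (by decide)
  · exact absurd hk (by decide)

theorem fQ (w : UN) (hw : ev T i w ∈ Q T) : Mp n (ev T i w) (ev T i (hom NQ.F w)) := by
  rw [ev_hom]
  refine Mp.phi hq fun k => ?_
  by_cases hk : k < 10
  · exact .inr (mpF hq hn he h1 h2 h4 ha k hk)
  rcases H75.O8.fin12 k with rfl | rfl | rfl | rfl | rfl | rfl | rfl | rfl | rfl | rfl | rfl | rfl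
  rotate_right 2
  · exact .inl hw.1
  · exact .inl hw.2
  all_goals exact absurd (by decide) hk

theorem cnd_bit (a b : Fin 12) (ha' : a < 10) (hb : b < 10) : (NQ.cnd a b).testBit i = false := by
  have m := (mpF hq hn he h1 h2 h4 ha b hb).mul (mpF hq hn he h1 h2 h4 ha a ha')
  have e : ev T i (UN.gen b NQ.e * UN.gen a NQ.e) = gen T b 1 * gen T a 1 := by
    rw [ev_mul, ev_gen, ev_gen, he]
  have m' := fQ hq hn he h1 h2 h4 ha (UN.gen b NQ.e * UN.gen a NQ.e) (by rw [e]; exact m.1)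
  rw [e] at m'
  rw [NQ.cnd, ← ev_eq_iff (T := T), ev_mul]
  exact m.uq m'

variable (hc : ∀ x ∈ Q T, ext c x = y8 T 1 * x * (y8 T 1)⁻¹) {g : U T} (hg : g ∈ Q T)
  (hs : ∀ x ∈ Q T, ext (n * (c * (n * (c * (c * (n * (c * (c * c)))))))) x = g * x * g⁻¹)
include hc hg hs

theorem fa (w : UN) (hw : ev T i w ∈ Q T) : ev T i (NQ.al w) = g * ev T i w * g⁻¹ := by
  have fc : ∀ w, ev T i w ∈ Q T → Mp c (ev T i w) (ev T i (NQ.cj w)) := fun w hw =>
    ⟨hw, by rw [hc _ hw, NQ.cj, ev_mul, ev_mul, ev_inv, ev_y8, he]⟩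
  have fQ := fQ hq hn he h1 h2 h4 ha
  have s1 := fc w hw
  have s2 := s1.comp (fc _ s1.mem)
  have s3 := s2.comp (fc _ s2.mem)
  have s4 := s3.comp (fQ _ s3.mem)
  have s5 := s4.comp (fc _ s4.mem)
  have s6 := s5.comp (fc _ s5.mem)
  have s7 := s6.comp (fQ _ s6.mem)
  have s8 := s7.comp (fc _ s7.mem)
  have s9 := s8.comp (fQ _ s8.mem)
  rw [← hs _ hw, s9.2, NQ.al]

theorem D_bit : NQ.D.testBit i = false := by
  have e2 : ev T i (UN.y2 NQ.e) = y2 T 1 := by rw [ev_y2, he]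
  have e4 : ev T i (UN.y4 NQ.e) = y4 T 1 := by rw [ev_y4, he]
  have f2 := fa hq hn he h1 h2 h4 ha hc hg hs (UN.y2 NQ.e) (by rw [e2]; exact h2.1)
  have f4 := fa hq hn he h1 h2 h4 ha hc hg hs (UN.y4 NQ.e) (by rw [e4]; exact h4.1)
  rw [e2] at f2
  rw [e4] at f4
  obtain ⟨c2, c4⟩ := cls hq hg f2 f4
  have cn := cnd_bit hq hn he h1 h2 h4 ha
  have c3 : ((hom NQ.F NQ.Y4).df (UN.y4 NQ.e)).testBit i = false := by
    rw [← ev_eq_iff (T := T), e4]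
    exact (fQ hq hn he h1 h2 h4 ha _ h4.mem).uq (h4.symm hn)
  simp only [NQ.D, Nat.testBit_or, c2, c3, c4, cn 0 1 (by decide) (by decide),
    cn 0 4 (by decide) (by decide), cn 1 9 (by decide) (by decide), Bool.or_self]

theorem fin (β : MulAut (U T)) (hβ : ∀ k, β (gen T k 1) = ev T i (NQ.Bσ k))
    (hQ : ∀ k, k < 10 → β (gen T k 1) ∈ Q T) : ∀ x ∈ Q T, β x ∈ Q T ∧
      ext n (β x) = ev T i NQ.Ec * β (w8 x) * (ev T i NQ.Ec)⁻¹ := by
  have key : ∀ k : Fin 12, k < 10 → ext n (β (gen T k 1)) = ev T i NQ.Ec *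
      β (gen T (![9, 7, 8, 6, 4, 5, 3, 1, 2, 0, 0, 0] k) 1) * (ev T i NQ.Ec)⁻¹ := fun k hk => by
    have := ev_sub (T := T) (NQ.t1 k hk) (D_bit hq hn he h1 h2 h4 ha hc hg hs)
    rw [ev_mul, ev_mul, ev_inv] at this
    rw [hβ, hβ, ← this]
    exact (fQ hq hn he h1 h2 h4 ha _ (by rw [← hβ]; exact hQ k hk)).2
  generalize ev T i NQ.Ec = s at key ⊢
  refine Q_ind ?_ ?_
  · intro u hu v hv h1 h2
    rw [w8_mul hu hv, map_mul, map_mul, ext_map_mul n h1.1 h2.1, h1.2, h2.2]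
    exact ⟨mul_mem h1.1 h2.1, by group⟩
  · intro k hk t
    rw [w8_gen k hk]
    rcases hq t with rfl | rfl
    · rw [gen_zero, gen_zero, map_one, ext_map_one, mul_one, mul_inv_cancel]
      exact ⟨one_mem _, rfl⟩
    exact ⟨hQ k hk, key k hk⟩

theorem coreQ :
    ∃ (β : MulAut (U T)) (s : U T), (∀ x ∈ Q T, β x ∈ Q T ∧ ext n (β x) = s * β (w8 x) * s⁻¹) ∧
      ∃ s s' : U T, ∀ x ∈ E T, β (w1 x) = s * w1 (s' * β x * s'⁻¹) * s⁻¹ := by
  have fin := fin hq hn he h1 h2 h4 ha hc hg hs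
  have eB : ∀ k, ev T i (NQ.Bσ k) =
      smU T (bt K i NQ.σ) (ev T 0 (NQ.B 1 k)) * gen T k (bt K i NQ.σ + 1) := fun k => by
    rw [NQ.Bσ, ev_mul, ev_sm, ev_B he, ev_gen, bt_xor (T := T), he]
  rcases hq (bt K i NQ.σ) with hσ | hσ
  · refine ⟨1, _, fin 1 (fun k => ?_) fun k hk => (mpF hq hn he h1 h2 h4 ha k hk).1, 1, 1,
      fun x _ => by simp⟩
    rw [eB, hσ, smU_zero, one_mul, zero_add, MulAut.one_apply]
  · obtain ⟨β, hβ, hE⟩ := exB (T := T) hq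
    refine ⟨β, _, fin β (fun k => ?_) fun k hk => ?_, hE⟩
    · rw [eB, hσ, smU_one, one_add_one_eq_two, T.two_eq_zero, gen_zero, mul_one, hβ]
    · obtain ⟨q1, q2⟩ := NQ.t6 k hk
      rw [hβ]
      exact ⟨by simp only [ev, q1, bt_zero], by simp only [ev, q2, bt_zero]⟩

end core

theorem twoQ : TwoQStmt T := by
  intro hK A hA hker ⟨n, hn, hs⟩
  have hq := eq01 hK
  have hN : ∀ g, g ∈ normalizer (Q T : Set (U T)) := fun g => by
    have := nQ (T := T); rw [normalizer_eq_top]; exact mem_top _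
  have hc : ∀ x ∈ Q T, ext (conjAut (Q T) (hN (y8 T 1))) x = y8 T 1 * x * (y8 T 1)⁻¹ :=
    fun x => ext_conjAut _
  have cA := hA.cj _ _ hc
  generalize conjAut (Q T) (hN (y8 T 1)) = c at hc cA
  have two := T.two_eq_zero
  have c4 : c * c * (c * c) = 1 := aut_eq_one fun x hx => by
    have : y8 T 1 * y8 T 1 * (y8 T 1 * y8 T 1) = 1 := by o8s; o8ring T
    rw [ext_mul, ext_mul, ext_mul, hc _ (ext_mem c (ext_mem c (ext_mem c hx))),
      hc _ (ext_mem c (ext_mem c hx)), hc _ (ext_mem c hx), hc x hx]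
    calc _ = (y8 T 1 * y8 T 1 * (y8 T 1 * y8 T 1)) * x * (y8 T 1 * y8 T 1 * (y8 T 1 * y8 T 1))⁻¹ := by
          group
      _ = x := by rw [this]; group
  have an : Ac n om := fun x hx => (memD (w8_mem x) (ext_mem n hx)).1 (hs x hx)
  have ac := ac_y8 hc
  have a2 := ac.mul ac
  have a0 := (an.mul a2).mul an.inv
  have a1 := (((a0.mul a2).mul a0).mul a2).mul a0
  have mA : n * (c * c) * n⁻¹ * (c * c) * (n * (c * c) * n⁻¹) * (c * c) * (n * (c * c) * n⁻¹) ∈ A :=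
    have := mul_mem cA cA
    have h0 := mul_mem (mul_mem hn this) (inv_mem hn)
    mul_mem (mul_mem (mul_mem (mul_mem h0 this) h0) this) h0
  have n2 : n * (c * c) * n⁻¹ * (c * c) * (n * (c * c) * n⁻¹) * (c * c) * (n * (c * c) * n⁻¹) *
      (n * (c * c) * n⁻¹ * (c * c) * (n * (c * c) * n⁻¹) * (c * c) * (n * (c * c) * n⁻¹)) = 1 := by
    have d2 : n * (c * c) * n⁻¹ * (n * (c * c) * n⁻¹) = 1 := by
      calc _ = n * (c * c * (c * c)) * n⁻¹ := by group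
        _ = 1 := by rw [c4]; group
    generalize n * (c * c) * n⁻¹ = d at d2 ⊢
    generalize c * c = b at c4 ⊢
    calc _ = d * (b * (d * (b * (d * d) * b) * d) * b) * d := by simp only [mul_assoc]
      _ = 1 := by rw [d2, mul_one, c4, mul_one, d2, mul_one, c4, mul_one, d2]
  generalize n * (c * c) * n⁻¹ * (c * c) * (n * (c * c) * n⁻¹) * (c * c) * (n * (c * c) * n⁻¹) = m
    at a1 mA n2
  have am : Ac m om := fun x hx => by
    rw [a1 x hx]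
    simp only [Function.comp, om, ga, Prod.mk.injEq]
    o8ring T
  have a3 := am.mul (ac.mul (am.mul (ac.mul (ac.mul (am.mul (ac.mul a2))))))
  obtain ⟨g, hg, hg'⟩ := hker _ (mul_mem mA (mul_mem cA (mul_mem mA (mul_mem cA (mul_mem cA
      (mul_mem mA (mul_mem cA (mul_mem cA cA)))))))) fun x hx =>
    (memD hx (ext_mem _ hx)).2 (by
      rw [a3 x hx]
      simp only [Function.comp, om, ga, Prod.ext_iff]
      o8ring T)
  obtain ⟨i, he, m1, m2, m4⟩ := params hq n2 am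
  obtain ⟨β, s, h1, h2⟩ := coreQ hq n2 he m1 m2 m4 am hc hg hg'
  refine ⟨β, ⟨conjAut (Q T) (hN s⁻¹) * m, mul_mem (hA.cj _ _ fun x => ext_conjAut _) mA,
    fun x hx => ?_⟩, h2⟩
  rw [ext_mul, ext_conjAut _ (ext_mem m (h1 x hx).1), (h1 x hx).2]
  group

end Cfsg.Agent.H15.Vb
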